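import Mathlib
import Cfsg.Agent.Lib.Solvable.CoprimeAction

/-!
Supplements of a normal subgroup and subgroups of coprime order.
-/

set_option autoImplicit false

namespace CfsgLib.PStab

open Subgroup
open scoped Pointwise commutatorElement

variable {G : Type*} [Group G]

theorem commutator_le_sup_of_sup_eq_top (K U : Subgroup G) [K.Normal] (hKU : K ⊔ U = ⊤) :
    commutator G ≤ K ⊔ ⁅U, U⁆ := by
  set π := QuotientGroup.mk' K
  have hU : U.map π = ⊤ := by
    rw [← map_comap_eq_self_of_surjective (QuotientGroup.mk'_surjective K) (U.map π), comap_map_eq,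
      QuotientGroup.ker_mk', sup_comm, hKU, map_top_of_surjective _ (QuotientGroup.mk'_surjective K)]
  intro x hx
  have h1 : π x ∈ (⁅U, U⁆).map π := by
    rw [map_commutator, hU, ← map_top_of_surjective π (QuotientGroup.mk'_surjective K), ← map_commutator]
    exact mem_map_of_mem π hx
  have h2 : x ∈ ((⁅U, U⁆).map π).comap π := h1
  rwa [comap_map_eq, QuotientGroup.ker_mk', sup_comm] at h2

variable [Finite G]

/-- If `k * y ∈ U`, `y ∈ D ◁ U` and the orders of `k * y` and of `k` are coprime then `k * y ∈ D`. -/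
theorem mem_of_mul_coprime {U D : Subgroup G} (hDU : D ≤ U) (hn : U ≤ normalizer (D : Set G)) {k y : G}
    (hy : y ∈ D) (hu : k * y ∈ U) (hcop : (orderOf (k * y)).Coprime (orderOf k)) : k * y ∈ D := by
  have : (D.subgroupOf U).Normal := (normal_subgroupOf_iff_le_normalizer hDU).2 hn
  have hk : k ∈ U := by simpa using mul_mem hu (inv_mem (hDU hy))
  let φ := QuotientGroup.mk' (D.subgroupOf U)
  have e : φ ⟨k * y, hu⟩ = φ ⟨k, hk⟩ := by
    rw [show (⟨k * y, hu⟩ : U) = ⟨k, hk⟩ * ⟨y, hDU hy⟩ from rfl, map_mul,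
      show φ ⟨y, hDU hy⟩ = 1 from (QuotientGroup.eq_one_iff _).2 (mem_subgroupOf.2 hy), mul_one]
  have h1 : φ ⟨k * y, hu⟩ = 1 := by
    refine orderOf_eq_one_iff.1 (Nat.eq_one_of_dvd_coprimes hcop ?_ ?_)
    · refine (orderOf_map_dvd φ _).trans ?_
      rw [Subgroup.orderOf_mk]
    · rw [e]
      refine (orderOf_map_dvd φ _).trans ?_
      rw [Subgroup.orderOf_mk]
  exact mem_subgroupOf.1 ((QuotientGroup.eq_one_iff _).1 h1)

theorem inf_commutator_le_of_supplement (K U H : Subgroup G) [K.Normal] (hKU : K ⊔ U = ⊤) (hH : H ≤ U)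
    (hcop : (Nat.card H).Coprime (Nat.card K)) : H ⊓ commutator G ≤ ⁅U, U⁆ := by
  rintro x ⟨hxH, hx⟩
  obtain ⟨k, hk, y, hy, rfl⟩ := mem_sup_of_normal_left.1 (commutator_le_sup_of_sup_eq_top K U hKU hx)
  refine mem_of_mul_coprime (commutator_le_self U) ?_ hy (hH hxH)
    ((hcop.coprime_dvd_left ?_).coprime_dvd_right ?_)
  · rw [← map_subtype_commutator U]
    intro b hb
    exact le_normalizer_map U.subtype ⟨(⟨b, hb⟩ : U), by rw [normalizer_eq_top]; exact mem_top _, rfl⟩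
  · rw [← Subgroup.orderOf_mk _ hxH]
    exact orderOf_dvd_natCard _
  · rw [← Subgroup.orderOf_mk _ hk]
    exact orderOf_dvd_natCard _

/-- Fusion of a coprime subgroup into a supplement. -/
theorem exists_mul_centralizer_of_supplement (K U H : Subgroup G) [K.Normal] (hKU : K ⊔ U = ⊤) (hH : H ≤ U)
    (hcop : (Nat.card H).Coprime (Nat.card K)) (hs : Group.IsSolvable K) (g : G)
    (hg : H.map (MulAut.conj g).toMonoidHom ≤ U) :
    ∃ u ∈ U, ∃ c ∈ K ⊓ centralizer (H : Set G), g = u * c := by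
  obtain ⟨k₀, hk₀, u, hu, rfl⟩ := mem_sup_of_normal_left.1 (show g ∈ K ⊔ U from hKU ▸ mem_top g)
  set k := u⁻¹ * k₀ * u with hk
  have hkK : k ∈ K := by simpa [hk] using Normal.conj_mem inferInstance k₀ hk₀ u⁻¹
  have hg' : k₀ * u = u * k := by rw [hk]; group
  set B : Subgroup G := MulAut.conj k • H with hB
  have hBU : B ≤ U := by
    rintro _ ⟨h, hh, rfl⟩
    show k * h * k⁻¹ ∈ U
    have h1 : k₀ * u * h * (k₀ * u)⁻¹ ∈ U := hg ⟨h, hh, rfl⟩
    rw [hg'] at h1
    have h2 := mul_mem (mul_mem (inv_mem hu) h1) hu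
    rwa [show u⁻¹ * (u * k * h * (u * k)⁻¹) * u = k * h * k⁻¹ by group] at h2
  have hBle : B ≤ (K ⊓ U) ⊔ H := by
    intro b hb
    obtain ⟨h, hh, rfl⟩ := hb
    have hbU : k * h * k⁻¹ ∈ U := hBU ⟨h, hh, rfl⟩
    have h3 : k * h * k⁻¹ * h⁻¹ ∈ K := by
      rw [mul_assoc k, mul_assoc k]
      exact mul_mem hkK (Normal.conj_mem inferInstance _ (inv_mem hkK) h)
    have h4 := Subgroup.mul_mem_sup (show k * h * k⁻¹ * h⁻¹ ∈ K ⊓ U from
      mem_inf.2 ⟨h3, mul_mem hbU (inv_mem (hH hh))⟩) hh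
    rwa [inv_mul_cancel_right] at h4
  have hHn : H ≤ normalizer ((K ⊓ U : Subgroup G) : Set G) :=
    CfsgLib.Solvable.le_normalizer_inf (le_top.trans (normalizer_eq_top_iff.2 inferInstance).ge) (hH.trans le_normalizer)
  have hd : (K ⊓ U) ⊓ H = ⊥ := CfsgLib.Solvable.disjoint_of_coprime
    (hcop.symm.coprime_dvd_left (card_dvd_of_le inf_le_left))
  obtain ⟨v, hv, hvB⟩ := CfsgLib.Solvable.exists_conj_le (K ⊓ U) H B hHn hd hBle
    (by rw [hB, CfsgLib.Solvable.card_conj_smul]; exact hcop.symm.coprime_dvd_left (card_dvd_of_le inf_le_left))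
    (Or.inl (CfsgLib.Solvable.isSolvable_of_le hs inf_le_left))
  have hn : v * k ∈ normalizer (H : Set G) := by
    rw [CfsgLib.Solvable.mem_normalizer_iff_conj_smul, ← CfsgLib.Solvable.conj_smul_conj_smul]
    exact eq_of_le_of_card_ge hvB (by rw [CfsgLib.Solvable.card_conj_smul, CfsgLib.Solvable.card_conj_smul])
  have hc : v * k ∈ centralizer (H : Set G) :=
    CfsgLib.Solvable.mem_centralizer_of_mem_normalizer (le_top.trans (normalizer_eq_top_iff.2 inferInstance).ge)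
      (CfsgLib.Solvable.disjoint_of_coprime hcop.symm) (mul_mem hv.1 hkK) hn
  exact ⟨u * v⁻¹, mul_mem hu (inv_mem hv.2), v * k, mem_inf.2 ⟨mul_mem hv.1 hkK, hc⟩, by rw [hg']; group⟩

end CfsgLib.PStab
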