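import Cfsg.Prelude.Def_Transfer
import Cfsg.Prelude.Def_PLocal
import Mathlib

/-!
Abelian subgroups of exponent dividing `e` and largest order, uniformly in `e`: `e = 0` gives the
abelian subgroups, `e = p` the elementary abelian ones.
-/

set_option autoImplicit false

namespace CfsgLib.PStab

open Cfsg Subgroup

variable {G H : Type*} [Group G] [Group H]

/-- Abelian of exponent dividing `e`. -/
def Adm (e : ℕ) (A : Subgroup G) : Prop :=
  IsMulCommutative A ∧ ∀ a ∈ A, a ^ e = 1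

/-- The admissible subgroups of `D` of largest order. -/
def maxAdm (e : ℕ) (D : Subgroup G) : Set (Subgroup G) :=
  {A | A ≤ D ∧ Adm e A ∧ ∀ B : Subgroup G, B ≤ D → Adm e B → Nat.card B ≤ Nat.card A}

/-- The subgroup they generate. -/
def jGen (e : ℕ) (D : Subgroup G) : Subgroup G := sSup (maxAdm e D)

/-- Its centre. -/
def zjGen (e : ℕ) (D : Subgroup G) : Subgroup G :=
  jGen e D ⊓ Subgroup.centralizer (jGen e D : Set G)

theorem adm_comm {e : ℕ} {A : Subgroup G} (h : Adm e A) {a b : G} (ha : a ∈ A) (hb : b ∈ A) :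
    a * b = b * a :=
  congrArg Subtype.val (h.1.is_comm.comm ⟨a, ha⟩ ⟨b, hb⟩)

theorem jGen_le (e : ℕ) (D : Subgroup G) : jGen e D ≤ D := sSup_le fun _ hA => hA.1

theorem zjGen_le (e : ℕ) (D : Subgroup G) : zjGen e D ≤ D := inf_le_left.trans (jGen_le e D)

theorem le_jGen {e : ℕ} {D A : Subgroup G} (hA : A ∈ maxAdm e D) : A ≤ jGen e D := le_sSup hA

theorem zjGen_comm {e : ℕ} {D : Subgroup G} {x y : G} (hx : x ∈ zjGen e D) (hy : y ∈ zjGen e D) :
    x * y = y * x :=
  Subgroup.mem_centralizer_iff.1 hy.2 x hx.1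

theorem maxAdm_nonempty [Finite G] (e : ℕ) (D : Subgroup G) : (maxAdm e D).Nonempty := by
  have hne : {A : Subgroup G | A ≤ D ∧ Adm e A}.Nonempty :=
    ⟨⊥, bot_le, ⟨⟨fun a b => Subsingleton.elim _ _⟩⟩, fun a ha => by rw [mem_bot.1 ha, one_pow]⟩
  obtain ⟨A, ⟨hAD, hA⟩, hmax⟩ := (Set.toFinite {A : Subgroup G | A ≤ D ∧ Adm e A}).exists_maximalFor
    (fun A : Subgroup G => Nat.card A) _ hne
  refine ⟨A, hAD, hA, fun B hBD hB => ?_⟩
  by_contra h
  exact h (hmax ⟨hBD, hB⟩ (le_of_not_ge h))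

/-- An element of order dividing `p` centralising a maximal admissible subgroup lies in it. -/
theorem mem_of_commute_maxAdm [Finite G] {p e : ℕ} (he : e = 0 ∨ e = p) {D A : Subgroup G}
    (hA : A ∈ maxAdm e D) {x : G} (hxD : x ∈ D) (hxp : x ^ p = 1)
    (hx : ∀ a ∈ A, x * a = a * x) : x ∈ A := by
  have hxe : x ^ e = 1 := by rcases he with rfl | rfl <;> simp [hxp]
  set B := Subgroup.closure (insert x (A : Set G)) with hB
  have hcm : ∀ u ∈ insert x (A : Set G), ∀ v ∈ insert x (A : Set G), u * v = v * u := by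
    rintro u (rfl | hu) v (rfl | hv)
    · rfl
    · exact hx v hv
    · exact (hx u hu).symm
    · exact adm_comm hA.2.1 hu hv
  have hc : IsMulCommutative B := Subgroup.isMulCommutative_closure hcm
  have hBadm : Adm e B := by
    refine ⟨hc, fun b hb => ?_⟩
    induction hb using Subgroup.closure_induction with
    | mem u hu =>
      rcases hu with rfl | hu
      · exact hxe
      · exact hA.2.1.2 u hu
    | one => exact one_pow _
    | mul u v hu hv iu iv =>
      have : Commute u v := congrArg Subtype.val (hc.is_comm.comm ⟨u, hu⟩ ⟨v, hv⟩)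
      rw [this.mul_pow, iu, iv, one_mul]
    | inv u hu iu => rw [inv_pow, iu, inv_one]
  have hBD : B ≤ D := (Subgroup.closure_le _).2 (Set.insert_subset hxD hA.1)
  have hAB : A ≤ B := fun a ha => Subgroup.subset_closure (Set.mem_insert_of_mem _ ha)
  rw [Subgroup.eq_of_le_of_card_ge hAB (hA.2.2 B hBD hBadm)]
  exact Subgroup.subset_closure (Set.mem_insert _ _)

theorem maxAdm_of_le {e : ℕ} {D E A₀ A : Subgroup G} (hED : E ≤ D) (h0 : A₀ ∈ maxAdm e D)
    (h0E : A₀ ≤ E) (hA : A ∈ maxAdm e E) : A ∈ maxAdm e D :=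
  ⟨hA.1.trans hED, hA.2.1, fun B hB hBa => (h0.2.2 B hB hBa).trans (hA.2.2 A₀ h0E h0.2.1)⟩

theorem adm_map {e : ℕ} {A : Subgroup G} (h : Adm e A) (f : G →* H) : Adm e (A.map f) := by
  refine ⟨⟨⟨?_⟩⟩, ?_⟩
  · rintro ⟨_, a, ha, rfl⟩ ⟨_, b, hb, rfl⟩
    exact Subtype.ext (by simp only [Subgroup.coe_mul, ← map_mul, adm_comm h ha hb])
  · rintro _ ⟨a, ha, rfl⟩
    rw [← map_pow, h.2 a ha, map_one]

theorem adm_comap {e : ℕ} {A : Subgroup H} (h : Adm e A) {f : G →* H} (hf : Function.Injective f) :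
    Adm e (A.comap f) :=
  ⟨⟨⟨fun a b => Subtype.ext (hf (by
      simp only [Subgroup.coe_mul, map_mul]; exact adm_comm h a.2 b.2))⟩⟩,
    fun a ha => hf (by rw [map_pow, map_one]; exact h.2 _ ha)⟩

theorem maxAdm_map {e : ℕ} {f : G →* H} (hf : Function.Injective f) (D : Subgroup G) :
    maxAdm e (D.map f) = (Subgroup.map f) '' maxAdm e D := by
  have hback : ∀ B ≤ D.map f, (B.comap f).map f = B ∧ B.comap f ≤ D := fun B hB =>
    ⟨Subgroup.map_comap_eq_self (hB.trans (map_le_range _ _)), by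
      rw [← Subgroup.comap_map_eq_self_of_injective hf D]; exact Subgroup.comap_mono hB⟩
  ext A
  constructor
  · rintro ⟨hAD, hA, hmax⟩
    obtain ⟨e1, e2⟩ := hback A hAD
    refine ⟨A.comap f, ⟨e2, adm_comap hA hf, fun B hB hBa => ?_⟩, e1⟩
    rw [← Subgroup.card_map_of_injective hf, ← Subgroup.card_map_of_injective hf (K := A.comap f), e1]
    exact hmax _ (Subgroup.map_mono hB) (adm_map hBa f)
  · rintro ⟨A, ⟨hAD, hA, hmax⟩, rfl⟩
    refine ⟨Subgroup.map_mono hAD, adm_map hA f, fun B hB hBa => ?_⟩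
    obtain ⟨e1, e2⟩ := hback B hB
    rw [← e1, Subgroup.card_map_of_injective hf, Subgroup.card_map_of_injective hf]
    exact hmax _ e2 (adm_comap hBa hf)

theorem jGen_map {e : ℕ} {f : G →* H} (hf : Function.Injective f) (D : Subgroup G) :
    jGen e (D.map f) = (jGen e D).map f := by
  rw [jGen, jGen, maxAdm_map hf, (Subgroup.gc_map_comap f).l_sSup, sSup_image]

theorem zjGen_map {e : ℕ} {f : G →* H} (hf : Function.Injective f) (D : Subgroup G) :
    zjGen e (D.map f) = (zjGen e D).map f := by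
  rw [zjGen, zjGen, jGen_map hf]
  ext y
  constructor
  · rintro ⟨⟨x, hx, rfl⟩, hy⟩
    refine ⟨x, ⟨hx, Subgroup.mem_centralizer_iff.2 fun z hz => hf ?_⟩, rfl⟩
    simpa using Subgroup.mem_centralizer_iff.1 hy (f z) ⟨z, hz, rfl⟩
  · rintro ⟨x, ⟨hx, hxc⟩, rfl⟩
    refine ⟨⟨x, hx, rfl⟩, Subgroup.mem_centralizer_iff.2 ?_⟩
    rintro _ ⟨z, hz, rfl⟩
    rw [← map_mul, ← map_mul, Subgroup.mem_centralizer_iff.1 hxc z hz]

/-- Transport along a homomorphism which is injective on `D`. -/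
theorem zjGen_map_of_injective_restrict {e : ℕ} {f : G →* H} {D : Subgroup G}
    (hf : Function.Injective (f.comp D.subtype)) :
    zjGen e (D.map f) = (zjGen e D).map f := by
  have h1 : D = (⊤ : Subgroup D).map D.subtype := by
    rw [← MonoidHom.range_eq_map, Subgroup.range_subtype]
  have h2 := zjGen_map (e := e) hf (⊤ : Subgroup D)
  rw [← Subgroup.map_map, ← h1] at h2
  rw [h2, ← Subgroup.map_map, ← zjGen_map D.subtype_injective, ← h1]

/-- An element normalising `D` normalises `Z(J(D))`. -/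
theorem conj_mem_zjGen {e : ℕ} {D : Subgroup G} {g x : G}
    (hg : g ∈ Subgroup.normalizer (D : Set G)) (hx : x ∈ zjGen e D) :
    g * x * g⁻¹ ∈ zjGen e D := by
  have hD : D.map (MulAut.conj g).toMonoidHom = D := by
    ext y
    constructor
    · rintro ⟨d, hd, rfl⟩; exact (Subgroup.mem_normalizer_iff.1 hg d).1 hd
    · intro hy
      exact ⟨g⁻¹ * y * g, (Subgroup.mem_normalizer_iff''.1 hg y).1 hy, by simp [mul_assoc]⟩
  have := zjGen_map (e := e) (MulAut.conj g).injective (f := (MulAut.conj g).toMonoidHom) D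
  rw [hD] at this
  rw [this]
  exact ⟨x, hx, rfl⟩

theorem thompsonSubgroupOf_eq_jGen (p : ℕ) (D : Subgroup G) :
    thompsonSubgroupOf p D = jGen p D := by
  have h : maxElementaryAbelianSubgroups p D = maxAdm p (⊤ : Subgroup D) := by
    ext A; simp [maxElementaryAbelianSubgroups, maxAdm, IsElementaryAbelian, Adm]
  conv_rhs => rw [show D = (⊤ : Subgroup D).map D.subtype by
    rw [← MonoidHom.range_eq_map, Subgroup.range_subtype]]
  rw [jGen_map D.subtype_injective, thompsonSubgroupOf, thompsonSubgroup, h, jGen]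

theorem thompsonSubgroupAOf_eq_jGen (D : Subgroup G) :
    thompsonSubgroupAOf D = jGen 0 D := by
  have h : maxAbelianSubgroups D = maxAdm 0 (⊤ : Subgroup D) := by
    ext A; simp [maxAbelianSubgroups, maxAdm, Adm]
  conv_rhs => rw [show D = (⊤ : Subgroup D).map D.subtype by
    rw [← MonoidHom.range_eq_map, Subgroup.range_subtype]]
  rw [jGen_map D.subtype_injective, thompsonSubgroupAOf, thompsonSubgroupA, h, jGen]

theorem centerThompsonOf_eq_zjGen (p : ℕ) (D : Subgroup G) :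
    centerThompsonOf p D = zjGen p D := by
  rw [centerThompsonOf, thompsonSubgroupOf_eq_jGen, zjGen]

theorem centerThompsonAOf_eq_zjGen (D : Subgroup G) :
    centerThompsonAOf D = zjGen 0 D := by
  rw [centerThompsonAOf, thompsonSubgroupAOf_eq_jGen, zjGen]

theorem omegaOne_map {f : G →* H} (hf : Function.Injective f) (p : ℕ) (K : Subgroup G) :
    (omegaOne p K).map f = omegaOne p (K.map f) := by
  rw [omegaOne, omegaOne, MonoidHom.map_closure]
  congr 1
  ext y
  constructor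
  · rintro ⟨x, ⟨hx, hxp⟩, rfl⟩
    exact ⟨⟨x, hx, rfl⟩, by rw [← map_pow, hxp, map_one]⟩
  · rintro ⟨⟨x, hx, rfl⟩, hxp⟩
    exact ⟨x, ⟨hx, hf (by rw [map_pow, map_one]; exact hxp)⟩, rfl⟩

theorem omegaCenterThompson_map_eq (p : ℕ) (D : Subgroup G) :
    (omegaCenterThompson p D).map D.subtype = omegaOne p (zjGen p D) := by
  rw [omegaCenterThompson, omegaOne_map D.subtype_injective, ← centerThompsonOf_eq_zjGen]
  congr 1
  rw [centerThompsonOf, thompsonSubgroupOf]
  ext y
  constructor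
  · rintro ⟨x, ⟨hx, hxc⟩, rfl⟩
    refine ⟨⟨x, hx, rfl⟩, Subgroup.mem_centralizer_iff.2 ?_⟩
    rintro _ ⟨z, hz, rfl⟩
    rw [← map_mul, ← map_mul, Subgroup.mem_centralizer_iff.1 hxc z hz]
  · rintro ⟨⟨x, hx, rfl⟩, hy⟩
    refine ⟨x, ⟨hx, Subgroup.mem_centralizer_iff.2 fun z hz => Subtype.ext ?_⟩, rfl⟩
    exact Subgroup.mem_centralizer_iff.1 hy z ⟨z, hz, rfl⟩

end CfsgLib.PStab
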