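import Cfsg.Agent.Lib.PStab.OrbitCount

/-!
A finite group of odd order in `GL(2, K)` whose order is divisible by the characteristic fixes a
line.
-/

set_option autoImplicit false

namespace CfsgLib.PStab

open Matrix MulAction
open scoped commutatorElement LinearAlgebra.Projectivization

variable {K : Type*} [Field K]

theorem det_eigen_two {A : Matrix (Fin 2) (Fin 2) K} {v w : Fin 2 → K} {a b : K}
    (hv : A *ᵥ v = a • v) (hw : A *ᵥ w = b • w) (hd : v 0 * w 1 - v 1 * w 0 ≠ 0) :
    A.det = a * b := by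
  have h1 := congrFun hv 0
  have h2 := congrFun hv 1
  have h3 := congrFun hw 0
  have h4 := congrFun hw 1
  simp [Matrix.mulVec, dotProduct, Fin.sum_univ_two] at h1 h2 h3 h4
  refine mul_right_cancel₀ hd ?_
  rw [Matrix.det_fin_two]
  linear_combination
    (A 1 0 * w 0 + A 1 1 * w 1) * h1 - (A 1 0 * v 0 + A 1 1 * v 1) * h3
      - b * w 0 * h2 + a * v 0 * h4

theorem exists_eq_smul_of_det_eq_zero {v w : Fin 2 → K} (hv : v ≠ 0)
    (hd : v 0 * w 1 - v 1 * w 0 = 0) : ∃ c : K, w = c • v := by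
  rw [sub_eq_zero] at hd
  by_cases h0 : v 0 = 0
  · have h1 : v 1 ≠ 0 := fun h => hv (by ext i; fin_cases i <;> simp [h0, h])
    refine ⟨w 1 / v 1, ?_⟩
    have : w 0 = 0 := by simpa [h0, h1] using hd
    ext i; fin_cases i <;> simp [h0, h1, this]
  · refine ⟨w 0 / v 0, ?_⟩
    have e : w 0 / v 0 * v 1 = w 1 := by field_simp; linear_combination -hd
    ext i; fin_cases i <;> simp [h0, e]

theorem eq_smul_one_of_two_eigen {A : Matrix (Fin 2) (Fin 2) K} {v w : Fin 2 → K} {a : K}
    (hv : A *ᵥ v = a • v) (hw : A *ᵥ w = a • w) (hd : v 0 * w 1 - v 1 * w 0 ≠ 0) :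
    A = a • (1 : Matrix (Fin 2) (Fin 2) K) := by
  apply Matrix.ext_of_mulVec_single
  intro i
  set x : Fin 2 → K := Pi.single i 1
  have e : (v 0 * w 1 - v 1 * w 0) • x =
      (x 0 * w 1 - x 1 * w 0) • v + (v 0 * x 1 - v 1 * x 0) • w := by
    ext j
    fin_cases j <;> simp <;> ring
  have e2 : (v 0 * w 1 - v 1 * w 0) • (A *ᵥ x) = (v 0 * w 1 - v 1 * w 0) • (a • x) := by
    rw [← Matrix.mulVec_smul, e, Matrix.mulVec_add, Matrix.mulVec_smul, Matrix.mulVec_smul, hv, hw,
      smul_comm _ a x, e, smul_add, smul_comm a, smul_comm a]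
  rw [Matrix.smul_mulVec, Matrix.one_mulVec]
  exact smul_right_injective _ hd e2

/-- The basic fact: a finite odd-order matrix group of degree two whose order is divisible by the
characteristic has a common eigenvector. -/
theorem exists_common_eigenvector [IsAlgClosed K] (p : ℕ) [Fact p.Prime] [CharP K p]
    {H : Type*} [Group H] [Finite H] (hodd : Odd (Nat.card H))
    (ρ : H →* Matrix (Fin 2) (Fin 2) K) (hρ : Function.Injective ρ) (hp : p ∣ Nat.card H) :
    ∃ v : Fin 2 → K, v ≠ 0 ∧ ∀ g : H, ∃ c : K, ρ g *ᵥ v = c • v := by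
  classical
  set H0 : Subgroup H := (Matrix.detMonoidHom.comp ρ).ker with hH0
  have memH0 : ∀ g : H, g ∈ H0 ↔ (ρ g).det = 1 := fun g => Iff.rfl
  have hodd0 : Odd (Nat.card H0) := hodd.of_dvd_nat (Subgroup.card_subgroup_dvd_card H0)
  letI act : DistribMulAction H0 (Fin 2 → K) :=
    { smul := fun g v => ρ g *ᵥ v
      one_smul := fun v => by show ρ ((1 : H0) : H) *ᵥ v = v; simp
      mul_smul := fun a b v => by
        show ρ ((a * b : H0) : H) *ᵥ v = ρ a *ᵥ (ρ b *ᵥ v); rw [Subgroup.coe_mul, map_mul, Matrix.mulVec_mulVec]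
      smul_zero := fun a => Matrix.mulVec_zero _
      smul_add := fun a v w => Matrix.mulVec_add _ v w }
  haveI : SMulCommClass H0 K (Fin 2 → K) :=
    ⟨fun g c v => (Matrix.mulVec_smul (ρ g) c v).trans rfl⟩
  have fix_iff : ∀ (g : H0) (v : Fin 2 → K) (hv : v ≠ 0),
      g • Projectivization.mk K v hv = Projectivization.mk K v hv ↔ ∃ c : K, ρ g *ᵥ v = c • v := by
    intro g v hv
    rw [Projectivization.smul_mk, Projectivization.mk_eq_mk_iff']
    constructor
    · rintro ⟨c, hc⟩; exact ⟨c, hc.symm⟩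
    · rintro ⟨c, hc⟩; exact ⟨c, hc.symm⟩
  have fix_rep : ∀ (g : H0) (M : ℙ K (Fin 2 → K)), g • M = M →
      ∃ c : K, ρ g *ᵥ M.rep = c • M.rep := by
    intro g M h
    rw [← M.mk_rep] at h
    exact (fix_iff g _ _).1 h
  have indep : ∀ M N : ℙ K (Fin 2 → K), M ≠ N → M.rep 0 * N.rep 1 - M.rep 1 * N.rep 0 ≠ 0 := by
    intro M N hMN hd
    obtain ⟨c, hc⟩ := exists_eq_smul_of_det_eq_zero M.rep_nonzero hd
    apply hMN
    rw [← M.mk_rep, ← N.mk_rep, eq_comm, Projectivization.mk_eq_mk_iff']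
    exact ⟨c, hc.symm⟩
  have hdet1 : ∀ g : H0, (ρ g).det = 1 := fun g => (memH0 g).1 g.2
  -- only the identity is scalar
  have scalar : ∀ (g : H0) (c : K), ρ g = c • (1 : Matrix (Fin 2) (Fin 2) K) → g = 1 := by
    intro g c hc
    have h2 : (g : H) ^ 2 = 1 := by
      apply hρ
      rw [map_pow, map_one, hc, smul_pow, one_pow]
      have := hdet1 g
      rw [hc, Matrix.det_smul, Matrix.det_one, mul_one, Fintype.card_fin] at this
      rw [this, one_smul]
    have : orderOf (g : H) = 1 := by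
      have hd := orderOf_dvd_of_pow_eq_one h2
      have ho := hodd.of_dvd_nat (orderOf_dvd_natCard (g : H))
      rcases (Nat.dvd_prime Nat.prime_two).1 hd with h | h
      · exact h
      · rw [h] at ho; exact absurd ho (by decide)
    exact Subtype.ext (orderOf_eq_one_iff.1 this)
  let U : ℙ K (Fin 2 → K) → Subgroup H0 := fun M =>
    { carrier := {g | ρ g *ᵥ M.rep = M.rep}
      mul_mem' := fun {a b} (ha : ρ a *ᵥ M.rep = M.rep) (hb : ρ b *ᵥ M.rep = M.rep) => by
        show ρ ((a * b : H0) : H) *ᵥ M.rep = M.rep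
        rw [Subgroup.coe_mul, map_mul, ← Matrix.mulVec_mulVec, hb, ha]
      one_mem' := by show ρ ((1 : H0) : H) *ᵥ M.rep = M.rep; simp
      inv_mem' := fun {a} (ha : ρ a *ᵥ M.rep = M.rep) => by
        show ρ ((a⁻¹ : H0) : H) *ᵥ M.rep = M.rep
        conv_lhs => rw [← ha]
        rw [Matrix.mulVec_mulVec, ← map_mul, ← Subgroup.coe_mul, inv_mul_cancel]
        simp }
  have memU : ∀ M (g : H0), g ∈ U M ↔ ρ g *ᵥ M.rep = M.rep := fun M g => Iff.rfl
  have hUle : ∀ M, ∀ u ∈ U M, u • M = M := by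
    intro M u hu
    conv_lhs => rw [← M.mk_rep]
    conv_rhs => rw [← M.mk_rep]
    exact (fix_iff u _ _).2 ⟨1, by rw [one_smul]; exact (memU M u).1 hu⟩
  have hU : ∀ M, ∀ u ∈ U M, u ≠ 1 → ∀ N, u • N = N → N = M := by
    intro M u hu hu1 N hN
    by_contra hne
    obtain ⟨c, hc⟩ := fix_rep u N hN
    have hd := indep M N (Ne.symm hne)
    have hM : ρ u *ᵥ M.rep = (1 : K) • M.rep := by rw [one_smul]; exact (memU M u).1 hu
    have h1 := det_eigen_two hM hc hd
    rw [hdet1 u, one_mul] at h1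
    exact hu1 (scalar u 1 (eq_smul_one_of_two_eigen hM (by rw [hc, ← h1]) hd))
  have hcomm : ∀ M, ∀ a b : H0, a • M = M → b • M = M → ⁅a, b⁆ ∈ U M := by
    intro M a b ha hb
    obtain ⟨α, hα⟩ := fix_rep a M ha
    obtain ⟨β, hβ⟩ := fix_rep b M hb
    rw [memU]
    have e : ρ a *ᵥ (ρ b *ᵥ M.rep) = ρ b *ᵥ (ρ a *ᵥ M.rep) := by
      rw [hα, hβ, Matrix.mulVec_smul, Matrix.mulVec_smul, hα, hβ, smul_comm]
    rw [Matrix.mulVec_mulVec, Matrix.mulVec_mulVec, ← map_mul, ← map_mul] at e
    have e2 : ρ ((⁅a, b⁆ : H0) : H) * ρ ((b : H) * a) = ρ ((a : H) * b) := by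
      rw [← map_mul]; congr 1; simp [commutatorElement_def, mul_assoc]
    have e3 : ρ ((⁅a, b⁆ : H0) : H) *ᵥ (ρ ((b : H) * a) *ᵥ M.rep) = ρ ((b : H) * a) *ᵥ M.rep := by
      rw [Matrix.mulVec_mulVec, e2, e]
    have e4 : ρ ((b : H) * a) *ᵥ M.rep = (β * α) • M.rep := by
      rw [map_mul, ← Matrix.mulVec_mulVec, hα, Matrix.mulVec_smul, hβ, smul_smul, mul_comm]
    rw [e4, Matrix.mulVec_smul] at e3
    refine smul_right_injective (Fin 2 → K) ?_ e3
    intro h0
    rw [h0, zero_smul] at e4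
    have := congrArg (fun v => ρ ((b : H) * a)⁻¹ *ᵥ v) e4
    simp only [Matrix.mulVec_mulVec, ← map_mul, inv_mul_cancel, map_one, Matrix.one_mulVec,
      Matrix.mulVec_zero] at this
    exact M.rep_nonzero this
  have htwo : ∀ g : H0, g ≠ 1 → ∀ A B C : ℙ K (Fin 2 → K), g • A = A → g • B = B → g • C = C →
      A = B ∨ B = C ∨ A = C := by
    intro g hg A B C hA hB hC
    by_contra hne
    push Not at hne
    obtain ⟨hAB, hBC, hAC⟩ := hne
    obtain ⟨a, ha⟩ := fix_rep g A hA
    obtain ⟨b, hb⟩ := fix_rep g B hB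
    obtain ⟨c, hc⟩ := fix_rep g C hC
    have h1 := det_eigen_two ha hb (indep A B hAB)
    have h2 := det_eigen_two hb hc (indep B C hBC)
    have h3 := det_eigen_two ha hc (indep A C hAC)
    rw [hdet1 g] at h1 h2 h3
    have ha0 : a ≠ 0 := fun h => one_ne_zero (α := K) (by rw [h1, h, zero_mul])
    have hb0 : b ≠ 0 := fun h => one_ne_zero (α := K) (by rw [h1, h, mul_zero])
    have hbc : b = c := mul_left_cancel₀ ha0 (h1.symm.trans h3)
    have hab : a = b := mul_right_cancel₀ hb0 (h1.symm.trans (by rw [h2, ← hbc]))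
    exact hg (scalar g a (eq_smul_one_of_two_eigen ha (by rw [hb, hab]) (indep A B hAB)))
  have hex : ∀ g : H0, ∃ M : ℙ K (Fin 2 → K), g • M = M := by
    intro g
    obtain ⟨c, hc⟩ := Module.End.exists_eigenvalue (Matrix.toLin' (ρ g))
    obtain ⟨v, hv⟩ := hc.exists_hasEigenvector
    exact ⟨Projectivization.mk K v hv.2, (fix_iff g v hv.2).2 ⟨c, by
      rw [← Matrix.toLin'_apply]; exact hv.apply_eq_smul⟩⟩
  -- elements of p-power order are unipotent
  have hunip : ∀ (g : H0) (k : ℕ), g ^ p ^ k = 1 → ∀ (v : Fin 2 → K), v ≠ 0 → ∀ c : K,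
      ρ g *ᵥ v = c • v → c = 1 := by
    intro g k hk v hv c hc
    have h1 : ∀ n : ℕ, ρ ((g ^ n : H0) : H) *ᵥ v = c ^ n • v := by
      intro n
      induction n with
      | zero => simp
      | succ n ih =>
        rw [pow_succ', Subgroup.coe_mul, map_mul, ← Matrix.mulVec_mulVec, ih, Matrix.mulVec_smul,
          hc, smul_smul, pow_succ]
    have h2 := h1 (p ^ k)
    rw [hk] at h2
    simp only [Subgroup.coe_one, map_one, Matrix.one_mulVec] at h2
    have h3 : c ^ p ^ k = 1 := by
      by_contra hne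
      have h4 : (c ^ p ^ k - 1) • v = 0 := by rw [sub_smul, one_smul, ← h2, sub_self]
      rw [smul_eq_zero, sub_eq_zero] at h4
      exact h4.elim hne hv
    exact iterateFrobenius_inj K p k (by simp [iterateFrobenius_def, h3])
  have hfix_unique : ∀ (g : H0) (k : ℕ), g ≠ 1 → g ^ p ^ k = 1 →
      ∀ M N : ℙ K (Fin 2 → K), g • M = M → g • N = N → M = N := by
    intro g k hg hk M N hM hN
    by_contra hne
    obtain ⟨c, hc⟩ := fix_rep g M hM
    have hc1 := hunip g k hk M.rep M.rep_nonzero c hc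
    exact hne ((hU M g ((memU M g).2 (by rw [hc, hc1, one_smul])) hg N hN).symm)
  obtain ⟨t₀, ht₀⟩ := exists_prime_orderOf_dvd_card' p hp
  have ht₀mem : t₀ ∈ H0 := by
    rw [memH0]
    apply frobenius_inj K p
    rw [frobenius_def, frobenius_def, one_pow, ← Matrix.det_pow, ← map_pow, ← ht₀, pow_orderOf_eq_one,
      map_one, Matrix.det_one]
  set t : H0 := ⟨t₀, ht₀mem⟩
  have ht1 : t ≠ 1 := by
    intro e
    have : t₀ = 1 := congrArg Subtype.val e
    rw [this, orderOf_one] at ht₀
    exact (Fact.out : p.Prime).one_lt.ne ht₀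
  have htp : t ^ p ^ 1 = 1 := Subtype.ext (by
    show t₀ ^ p ^ 1 = 1
    rw [pow_one, ← ht₀, pow_orderOf_eq_one])
  obtain ⟨L, hL⟩ := hex t
  have htG : IsPGroup p (Subgroup.zpowers t) := by
    have : orderOf t = p := orderOf_eq_prime (by simpa using htp) ht1
    exact IsPGroup.of_card (n := 1) (by rw [Nat.card_zpowers, this, pow_one])
  obtain ⟨P, hP⟩ := htG.exists_le_sylow
  have htP : t ∈ (P : Subgroup H0) := hP (Subgroup.mem_zpowers t)
  have hPne : Nontrivial (P : Subgroup H0) :=
    ⟨⟨⟨t, htP⟩, 1, fun e => ht1 (congrArg Subtype.val e)⟩⟩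
  have := P.2.center_nontrivial
  obtain ⟨z, hz⟩ := exists_ne (1 : Subgroup.center (P : Subgroup H0))
  have hzne : ((z : (P : Subgroup H0)) : H0) ≠ 1 := fun e => hz (Subtype.ext (Subtype.ext e))
  have hPL : ∀ y ∈ (P : Subgroup H0), y • L = L := by
    obtain ⟨L', hL'⟩ := hex ((z : (P : Subgroup H0)) : H0)
    obtain ⟨k, hk⟩ := P.2 (z : (P : Subgroup H0))
    have hzk : ((z : (P : Subgroup H0)) : H0) ^ p ^ k = 1 := by
      rw [← Subgroup.coe_pow, hk]; rfl
    have hall : ∀ y ∈ (P : Subgroup H0), y • L' = L' := by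
      intro y hy
      have hc := congrArg Subtype.val (Subgroup.mem_center_iff.1 z.2 ⟨y, hy⟩)
      exact hfix_unique _ k hzne hzk _ _ (fix_of_commute hc.symm hL') hL'
    have : L' = L := hfix_unique t 1 ht1 htp _ _ (hall t htP) hL
    exact this ▸ hall
  have hone : ∀ g : H0, g ≠ 1 → (∀ M N : ℙ K (Fin 2 → K), g • M = M → g • N = N → M = N) →
      ∃ h : H0, g • (h • L) = h • L := by
    intro g hg huniq
    obtain ⟨M, hM⟩ := hex g
    obtain ⟨c, hc⟩ := fix_rep g M hM
    have hc1 : c = 1 := by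
      -- the two eigenvalues coincide, hence are `1` as the order is odd
      have hdet := hdet1 g
      rw [Matrix.det_fin_two] at hdet
      set A := ρ g
      have h0 := congrFun hc 0
      have h1 := congrFun hc 1
      simp [Matrix.mulVec, dotProduct, Fin.sum_univ_two] at h0 h1
      have hroot : c * c - (A 0 0 + A 1 1) * c + 1 = 0 := by
        rcases (show M.rep 0 ≠ 0 ∨ M.rep 1 ≠ 0 by
          by_contra hh
          push Not at hh
          exact M.rep_nonzero (by ext i; fin_cases i <;> simp [hh.1, hh.2])) with hh | hh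
        · refine mul_left_cancel₀ hh ?_
          linear_combination (A 1 1 - c) * h0 - A 0 1 * h1 - M.rep 0 * hdet
        · refine mul_left_cancel₀ hh ?_
          linear_combination (A 0 0 - c) * h1 - A 1 0 * h0 - M.rep 1 * hdet
      have hc0 : c ≠ 0 := by
        intro h; rw [h] at hroot; simp at hroot
      by_cases hcc : c = c⁻¹
      · have hcsq : c ^ 2 = 1 := by
          rw [pow_two]
          nth_rewrite 2 [hcc]
          exact mul_inv_cancel₀ hc0
        obtain ⟨n, hn⟩ := hodd0.of_dvd_nat (orderOf_dvd_natCard g)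
        have h1' : ∀ n : ℕ, ρ ((g ^ n : H0) : H) *ᵥ M.rep = c ^ n • M.rep := by
          intro n
          induction n with
          | zero => simp
          | succ n ih =>
            rw [pow_succ', Subgroup.coe_mul, map_mul, ← Matrix.mulVec_mulVec, ih,
              Matrix.mulVec_smul, hc, smul_smul, pow_succ]
        have h2 := h1' (orderOf g)
        rw [pow_orderOf_eq_one, Subgroup.coe_one, map_one, Matrix.one_mulVec, hn, pow_succ, pow_mul,
          hcsq, one_pow, one_mul] at h2
        by_contra hne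
        have h4 : (c - 1) • M.rep = 0 := by rw [sub_smul, one_smul, ← h2, sub_self]
        rw [smul_eq_zero, sub_eq_zero] at h4
        exact h4.elim hne M.rep_nonzero
      · exfalso
        have hev : Module.End.HasEigenvalue (Matrix.toLin' A) c⁻¹ := by
          rw [Module.End.hasEigenvalue_iff_isRoot_charpoly, Matrix.charpoly_toLin',
            Matrix.charpoly_fin_two, Polynomial.IsRoot.def]
          simp [Matrix.trace_fin_two, Matrix.det_fin_two, hdet]
          field_simp
          linear_combination hroot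
        obtain ⟨w, hw⟩ := hev.exists_hasEigenvector
        have hwe : A *ᵥ w = c⁻¹ • w := by
          rw [← Matrix.toLin'_apply]; exact hw.apply_eq_smul
        have hN : g • Projectivization.mk K w hw.2 = Projectivization.mk K w hw.2 :=
          (fix_iff g w hw.2).2 ⟨_, hwe⟩
        have := huniq _ _ hM hN
        conv_lhs at this => rw [← M.mk_rep]
        rw [Projectivization.mk_eq_mk_iff'] at this
        obtain ⟨d, hd⟩ := this
        rw [← hd, Matrix.mulVec_smul, hwe, smul_smul, smul_smul] at hc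
        have h4 : (d * c⁻¹ - c * d) • w = 0 := by rw [sub_smul, hc, sub_self]
        rw [smul_eq_zero] at h4
        rcases h4 with h | h
        · have hd0 : d ≠ 0 := fun h' => M.rep_nonzero (by rw [← hd, h', zero_smul])
          exact hcc (mul_left_cancel₀ hd0 (by linear_combination -h))
        · exact hw.2 h
    -- hence `g` has order `p`
    have hgp : g ^ p ^ 1 = 1 := by
      apply Subtype.ext
      apply hρ
      simp only [pow_one, Subgroup.coe_pow, Subgroup.coe_one, map_pow, map_one]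
      set A := ρ g
      have h0 := congrFun hc 0
      have h1 := congrFun hc 1
      simp [Matrix.mulVec, dotProduct, Fin.sum_univ_two, hc1] at h0 h1
      have hdet := hdet1 g
      rw [Matrix.det_fin_two] at hdet
      have htr : A 0 0 + A 1 1 = 2 := by
        rcases (show M.rep 0 ≠ 0 ∨ M.rep 1 ≠ 0 by
          by_contra hh
          push Not at hh
          exact M.rep_nonzero (by ext i; fin_cases i <;> simp [hh.1, hh.2])) with hh | hh
        · refine mul_left_cancel₀ hh ?_
          linear_combination -(A 1 1 - 1) * h0 + A 0 1 * h1 + M.rep 0 * hdet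
        · refine mul_left_cancel₀ hh ?_
          linear_combination -(A 0 0 - 1) * h1 + A 1 0 * h0 + M.rep 1 * hdet
      have hsq : (A - 1) ^ 2 = 0 := by
        rw [pow_two]
        ext i j
        fin_cases i <;> fin_cases j <;> simp [Matrix.mul_apply, Fin.sum_univ_two] <;>
          first
          | linear_combination (A 0 0) * htr - hdet
          | linear_combination (A 1 1) * htr - hdet
          | linear_combination (A 0 1) * htr
          | linear_combination (A 1 0) * htr
      have hz : (A - 1) ^ p = 0 := pow_eq_zero_of_le (Fact.out : p.Prime).two_le hsq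
      rw [sub_pow_char_of_commute p (Commute.one_right A), one_pow, sub_eq_zero] at hz
      exact hz
    have hgG : IsPGroup p (Subgroup.zpowers g) := by
      have : orderOf g = p := orderOf_eq_prime (by simpa using hgp) hg
      exact IsPGroup.of_card (n := 1) (by rw [Nat.card_zpowers, this, pow_one])
    obtain ⟨Q, hQ⟩ := hgG.exists_le_sylow
    obtain ⟨h, hh⟩ := MulAction.exists_smul_eq H0 P Q
    refine ⟨h, ?_⟩
    have hgQ : g ∈ (Q : Subgroup H0) := hQ (Subgroup.mem_zpowers g)
    rw [← hh, Sylow.coe_subgroup_smul] at hgQ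
    obtain ⟨y, hy, hy'⟩ := hgQ
    have hy'' : h * y * h⁻¹ = g := by rw [← hy']; rfl
    rw [← hy'', mul_smul, mul_smul, inv_smul_smul, hPL y hy]
  have hall := forall_smul_eq_of_orbitCount U hodd0 hex htwo hUle hcomm hU L ⟨t, ht1, hL⟩ hone
  refine ⟨L.rep, L.rep_nonzero, fun g => ?_⟩
  set t' : H0 := ⟨g * t₀ * g⁻¹, (inferInstance : H0.Normal).conj_mem _ ht₀mem g⟩
  obtain ⟨c, hc⟩ := fix_rep t' L (hall t')
  obtain ⟨ct, hct⟩ := fix_rep t L hL
  have hct1 := hunip t 1 htp _ L.rep_nonzero ct hct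
  -- `g⁻¹ L` is fixed by `t`
  set w := ρ g⁻¹ *ᵥ L.rep with hw
  have hw0 : w ≠ 0 := by
    intro e
    have := congrArg (fun v => ρ g *ᵥ v) e
    simp only [hw, Matrix.mulVec_mulVec, ← map_mul, mul_inv_cancel, map_one, Matrix.one_mulVec,
      Matrix.mulVec_zero] at this
    exact L.rep_nonzero this
  have hwt : ρ t *ᵥ w = c • w := by
    rw [hw, ← Matrix.mulVec_smul, ← hc, Matrix.mulVec_mulVec, Matrix.mulVec_mulVec, ← map_mul,
      ← map_mul]
    congr 2
    show t₀ * g⁻¹ = g⁻¹ * (g * t₀ * g⁻¹)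
    group
  have hfixw : t • Projectivization.mk K w hw0 = Projectivization.mk K w hw0 :=
    (fix_iff t w hw0).2 ⟨c, hwt⟩
  have heq := hfix_unique t 1 ht1 htp _ _ hfixw hL
  conv_rhs at heq => rw [← L.mk_rep]
  rw [Projectivization.mk_eq_mk_iff'] at heq
  obtain ⟨d, hd⟩ := heq
  have hd0 : d ≠ 0 := fun h => hw0 (by rw [← hd, h, zero_smul])
  refine ⟨d⁻¹, ?_⟩
  have h5 : d • (ρ g *ᵥ L.rep) = L.rep := by
    rw [← Matrix.mulVec_smul, hd, hw, Matrix.mulVec_mulVec, ← map_mul, mul_inv_cancel, map_one,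
      Matrix.one_mulVec]
  rw [eq_inv_smul_iff₀ hd0, h5]

end CfsgLib.PStab
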