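import Cfsg.Agent.Lib.PStab.QuadLinear
import Cfsg.Agent.Lib.PStab.GL2
import Cfsg.Agent.Lib.PGroup.Basic
import Cfsg.Agent.Lib.Solvable.CoprimeAction

/-!
Two elements acting quadratically on a p-group generate, modulo the centraliser, a p-group,
provided no homomorphism of the group they generate onto a plane linear group with non-commuting
transvections exists (for instance, for groups of odd order).
-/

set_option autoImplicit false

namespace CfsgLib.PStab

open Subgroup
open scoped commutatorElement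

/-- No homomorphism of `H` into `GL(2)` in characteristic `p` has an image of order divisible by `p`
without common eigenvector. -/
def PlaneTame (p : ℕ) [Fact p.Prime] (H : Type*) [Group H] : Prop :=
  ∀ ρ : H →* Matrix (Fin 2) (Fin 2) (AlgebraicClosure (ZMod p)),
    (∃ h : H, ρ h ≠ 1 ∧ ρ (h ^ p) = 1) →
    ∃ v : Fin 2 → AlgebraicClosure (ZMod p), v ≠ 0 ∧
      ∀ g : H, ∃ c : AlgebraicClosure (ZMod p), Matrix.mulVec (ρ g) v = c • v

theorem planeTame_of_odd (p : ℕ) [Fact p.Prime] {H : Type*} [Group H] [Finite H]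
    (hodd : Odd (Nat.card H)) : PlaneTame p H := by
  rintro ρ ⟨h, hne, hp⟩
  set R := ρ.toHomUnits.range
  have hR : Odd (Nat.card R) := hodd.of_dvd_nat
    (by rw [← Subgroup.index_ker]; exact Subgroup.index_dvd_card _)
  have : Finite R := Finite.of_surjective ρ.toHomUnits.rangeRestrict ρ.toHomUnits.rangeRestrict_surjective
  let σ : R →* Matrix (Fin 2) (Fin 2) (AlgebraicClosure (ZMod p)) :=
    (Units.coeHom _).comp R.subtype
  have hσ : Function.Injective σ := fun a b e => Subtype.ext (Units.ext e)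
  have hdvd : p ∣ Nat.card R := by
    have h1 : orderOf (⟨ρ.toHomUnits h, h, rfl⟩ : R) = p := by
      apply orderOf_eq_prime
      · apply hσ
        show ((ρ.toHomUnits h) ^ p : (Matrix (Fin 2) (Fin 2) (AlgebraicClosure (ZMod p)))ˣ).val = 1
        rw [← map_pow]; exact hp
      · intro e
        exact hne (congrArg σ e)
    exact dvd_trans (dvd_of_eq h1.symm) (orderOf_dvd_natCard _)
  obtain ⟨v, hv, hfix⟩ := exists_common_eigenvector p hR σ hσ hdvd
  exact ⟨v, hv, fun g => hfix ⟨ρ.toHomUnits g, g, rfl⟩⟩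

theorem no_plane {K : Type*} [Field K] {c : K} (hc : c ≠ 0) {v : Fin 2 → K} (hv : v ≠ 0)
    {a b : K} (ha : Matrix.mulVec !![1, c; 0, 1] v = a • v)
    (hb : Matrix.mulVec !![1, 0; 1, 1] v = b • v) : False := by
  have h1 := congrFun ha 0
  have h2 := congrFun ha 1
  have h3 := congrFun hb 0
  have h4 := congrFun hb 1
  simp [Matrix.mulVec, dotProduct, Fin.sum_univ_two] at h1 h2 h3 h4
  by_cases hz : v 1 = 0
  · have hz0 : v 0 = 0 := by simpa [hz] using h4
    exact hv (by ext i; fin_cases i <;> simp [hz0, hz])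
  · have ha1 : a = 1 := by
      refine mul_right_cancel₀ hz ?_
      linear_combination -h2
    rw [ha1] at h1
    have : c * v 1 = 0 := by linear_combination h1
    exact hz ((mul_eq_zero.1 this).resolve_left hc)

theorem pow_eq_one_of_isNilpotent_sub_one {R : Type*} [Ring R] {p : ℕ} (hp : p.Prime)
    (hchar : (p : R) = 0) {x : R} (hx : IsNilpotent (x - 1)) : ∃ k : ℕ, x ^ p ^ k = 1 := by
  obtain ⟨n, hn⟩ := hx
  refine ⟨n, ?_⟩
  obtain ⟨r, hr⟩ := (Commute.one_right (x - 1)).exists_add_pow_prime_pow_eq hp n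
  rw [sub_add_cancel, one_pow] at hr
  rw [hr, pow_eq_zero_of_le (n.lt_pow_self hp.one_lt).le hn, hchar]
  simp

section Abelian

variable {V : Type*} [CommGroup V] [Finite V] {p : ℕ} [Fact p.Prime]
  {H : Type*} [Group H] [Finite H]

theorem exists_pow_eq_one_of_quad_pair_aux [Module (ZMod p) (Additive V)] (ψ : H →* MulAut V) {A B : H}
    (hgen : Subgroup.closure ({A, B} : Set H) = ⊤)
    (hA : ∀ v, ψ A (ψ A v) * v = ψ A v * ψ A v) (hB : ∀ v, ψ B (ψ B v) * v = ψ B v * ψ B v)
    (htame : PlaneTame p H) (h : H) : ∃ k : ℕ, ψ (h ^ p ^ k) = 1 := by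
  let lin : H → (Additive V →ₗ[ZMod p] Additive V) := fun g =>
    AddMonoidHom.toZModLinearMap p
      { toFun := fun x => Additive.ofMul (ψ g (Additive.toMul x))
        map_zero' := by rw [toMul_zero, map_one, ofMul_one]
        map_add' := fun x y => by rw [toMul_add, map_mul, ofMul_mul] }
  have linapp : ∀ g (x : Additive V), lin g x = Additive.ofMul (ψ g (Additive.toMul x)) :=
    fun g x => rfl
  let φ : H →* Module.End (ZMod p) (Additive V) :=
    { toFun := lin
      map_one' := LinearMap.ext fun x => by rw [linapp, map_one]; simp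
      map_mul' := fun a b => LinearMap.ext fun x => by
        rw [Module.End.mul_apply, linapp, linapp, linapp, map_mul]; simp }
  have φapp : ∀ g (x : Additive V), (φ g : Additive V →ₗ[ZMod p] Additive V) x =
      Additive.ofMul (ψ g (Additive.toMul x)) := fun g x => rfl
  have quad : ∀ C : H, (∀ v, ψ C (ψ C v) * v = ψ C v * ψ C v) → (φ C - 1) * (φ C - 1) = 0 := by
    intro C hC
    refine LinearMap.ext fun x => ?_
    have e := congrArg Additive.ofMul (hC (Additive.toMul x))
    simp only [ofMul_mul, ofMul_toMul] at e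
    simp only [Module.End.mul_apply, LinearMap.sub_apply, Module.End.one_apply, map_sub,
      LinearMap.zero_apply]
    rw [φapp C (φ C x), φapp C x, toMul_ofMul]
    linear_combination (norm := abel) e
  set α := φ A - 1 with hα
  set β := φ B - 1 with hβ
  set b := Module.finBasis (ZMod p) (Additive V)
  set K := AlgebraicClosure (ZMod p)
  set n := Module.finrank (ZMod p) (Additive V)
  let R : Module.End (ZMod p) (Additive V) →+* Module.End K (Fin n → K) :=
    (Matrix.toLinAlgEquiv' (R := K) (n := Fin n)).toRingEquiv.toRingHom.comp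
      ((algebraMap (ZMod p) K).mapMatrix.comp (LinearMap.toMatrixAlgEquiv b).toRingEquiv.toRingHom)
  have hR : Function.Injective R :=
    (Matrix.toLinAlgEquiv' (R := K) (n := Fin n)).injective.comp
      ((Matrix.map_injective (algebraMap (ZMod p) K).injective).comp (LinearMap.toMatrixAlgEquiv b).injective)
  let φK : H →* Module.End K (Fin n → K) := R.toMonoidHom.comp φ
  have e1 : ∀ g, φK g - 1 = R (φ g - 1) := fun g => by rw [map_sub, map_one]; rfl
  have hAK : (φK A - 1) * (φK A - 1) = 0 := by rw [e1, ← map_mul, quad A hA, map_zero]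
  have hBK : (φK B - 1) * (φK B - 1) = 0 := by rw [e1, ← map_mul, quad B hB, map_zero]
  have hchar : ((p : ℕ) : Module.End (ZMod p) (Additive V)) = 0 := by
    rw [← map_natCast (algebraMap (ZMod p) _), ZMod.natCast_self, map_zero]
  have done : ∀ g, IsNilpotent (φ g - 1) → ∃ k, ψ (g ^ p ^ k) = 1 := by
    intro g hg
    obtain ⟨k, hk⟩ := pow_eq_one_of_isNilpotent_sub_one (Fact.out : p.Prime) hchar hg
    refine ⟨k, MulEquiv.ext fun v => ?_⟩
    rw [← map_pow] at hk
    have := congrArg Additive.toMul (LinearMap.congr_fun hk (Additive.ofMul v))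
    exact this
  by_cases hnil : IsNilpotent ((φK A - 1) * (φK B - 1))
  · apply done
    rw [← IsNilpotent.map_iff hR, ← e1]
    exact isNilpotent_sub_one_of_pair φK hgen hAK hBK hnil h
  exfalso
  obtain ⟨ρ, c, hc, hρA, hρB⟩ := exists_plane_of_pair φK hgen hAK hBK hnil
  have hpow : ρ (A ^ p) = 1 := by
    have h1 : ∀ m : ℕ, (!![1, c; 0, 1] : Matrix (Fin 2) (Fin 2) K) ^ m = !![1, (m : K) * c; 0, 1] := by
      intro m
      induction m with
      | zero => simp [Matrix.one_fin_two]
      | succ m ih => rw [pow_succ, ih]; simp; ring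
    rw [map_pow, hρA, h1, CharP.cast_eq_zero, zero_mul, Matrix.one_fin_two]
  obtain ⟨v, hv, hfix⟩ := htame ρ ⟨A, fun e => hc (by
    have := congrFun (congrFun (hρA.symm.trans e) 0) 1
    simpa using this), hpow⟩
  obtain ⟨a, ha⟩ := hfix A
  obtain ⟨b', hb'⟩ := hfix B
  rw [hρA] at ha
  rw [hρB] at hb'
  exact no_plane hc hv ha hb'

/-- The abelian case. -/
theorem exists_pow_eq_one_of_quad_pair (hV : ∀ v : V, v ^ p = 1) (ψ : H →* MulAut V) {A B : H}
    (hgen : Subgroup.closure ({A, B} : Set H) = ⊤)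
    (hA : ∀ v, ψ A (ψ A v) * v = ψ A v * ψ A v) (hB : ∀ v, ψ B (ψ B v) * v = ψ B v * ψ B v)
    (htame : PlaneTame p H) (h : H) : ∃ k : ℕ, ψ (h ^ p ^ k) = 1 :=
  @exists_pow_eq_one_of_quad_pair_aux V _ _ p _ H _ _
    (AddCommGroup.zmodModule fun x => by
      apply Additive.toMul.injective
      rw [toMul_nsmul, toMul_zero, hV]) ψ A B hgen hA hB htame h

end Abelian

variable {G : Type*} [Group G] [Finite G] {p : ℕ} [Fact p.Prime]

/-- A p'-element normalising a p-group and centralising its Frattini quotient centralises it. -/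
theorem mem_centralizer_of_frattini {P : Subgroup G} (hP : IsPGroup p P) {g : G}
    (hg : g ∈ Subgroup.normalizer (P : Set G)) (hcop : (orderOf g).Coprime p)
    (htriv : ∀ x ∈ P, ⁅g, x⁆ ∈ (frattini P).map P.subtype) :
    g ∈ Subgroup.centralizer (P : Set G) := by
  set N := (frattini P).map P.subtype with hN
  have hAN : Subgroup.zpowers g ≤ Subgroup.normalizer (N : Set G) := by
    rw [Subgroup.zpowers_le]
    apply CfsgLib.Solvable.mem_normalizer_of_conj_mem
    rintro _ ⟨x, hx, rfl⟩
    have hch : (frattini P).map (Subgroup.normalizerMonoidHom P ⟨g, hg⟩).toMonoidHom = frattini P :=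
      Subgroup.characteristic_iff_map_eq.1 inferInstance _
    refine ⟨Subgroup.normalizerMonoidHom P ⟨g, hg⟩ x, ?_, rfl⟩
    exact hch.le ⟨x, hx, rfl⟩
  have hcopN : (Nat.card (Subgroup.zpowers g)).Coprime (Nat.card N) := by
    obtain ⟨k, hk⟩ := (hP.to_le (Subgroup.map_subtype_le (frattini P)) : IsPGroup p N).exists_card_eq
    rw [Nat.card_zpowers, hk]
    exact hcop.pow_right k
  have htop : (Subgroup.centralizer (Subgroup.zpowers g : Set G)).subgroupOf P ⊔ frattini P = ⊤ := by
    refine eq_top_iff.2 fun x _ => ?_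
    obtain ⟨n, hn, hnx⟩ := CfsgLib.Solvable.exists_mul_mem_centralizer (Subgroup.zpowers g) N hAN hcopN
      (Or.inl inferInstance) (x : G) (by
        intro a ha
        obtain ⟨k, rfl⟩ : ∃ k : ℕ, g ^ k = a := (mem_powers_iff_mem_zpowers.2 ha)
        induction k with
        | zero => simp
        | succ k ih =>
          have h1 : ⁅g, (x : G)⁆ ∈ N := htriv x x.2
          have h2 := normalizerconj (hAN (Subgroup.mem_zpowers g)) (ih (Subgroup.mem_zpowers_iff.2 ⟨k, by simp⟩))
          have e : ⁅g ^ (k + 1), (x : G)⁆ = g * ⁅g ^ k, (x : G)⁆ * g⁻¹ * ⁅g, (x : G)⁆ := by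
            simp only [commutatorElement_def, pow_succ']; group
          rw [e]; exact mul_mem h2 h1)
    obtain ⟨n', hn', rfl⟩ := hn
    have e : x = n'⁻¹ * (n' * x) := by group
    rw [e]
    exact mul_mem (Subgroup.mem_sup_right (inv_mem hn'))
      (Subgroup.mem_sup_left (Subgroup.mem_subgroupOf.2 hnx))
  have := CfsgLib.PGroup.eq_top_of_sup_frattini htop
  rw [Subgroup.subgroupOf_eq_top] at this
  exact Subgroup.le_centralizer_iff.1 this (Subgroup.mem_zpowers g)
where
  normalizerconj {g x : G} {N : Subgroup G} (hg : g ∈ Subgroup.normalizer (N : Set G)) (hx : x ∈ N) :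
      g * x * g⁻¹ ∈ N := (Subgroup.mem_normalizer_iff.1 hg x).1 hx

/-- Quadratic elements: `[P, a, a] = 1`. -/
def IsQuad (P : Subgroup G) (a : G) : Prop := ∀ x ∈ P, ⁅⁅x, a⁆, a⁆ = 1

theorem isQuad_of_commutator_eq_bot {P A : Subgroup G} (h : ⁅⁅P, A⁆, A⁆ = ⊥) {a : G} (ha : a ∈ A) :
    IsQuad P a := fun x hx => by
  have := Subgroup.commutator_mem_commutator (Subgroup.commutator_mem_commutator hx ha) ha
  rwa [h, Subgroup.mem_bot] at this

/-- The pair lemma. -/
theorem exists_pow_mem_centralizer_of_quad_pair {P : Subgroup G} (hP : IsPGroup p P) {a b : G}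
    (ha : a ∈ Subgroup.normalizer (P : Set G)) (hb : b ∈ Subgroup.normalizer (P : Set G))
    (haq : IsQuad P a) (hbq : IsQuad P b) (htame : PlaneTame p ↥(Subgroup.closure ({a, b} : Set G)))
    {h : G} (hh : h ∈ Subgroup.closure ({a, b} : Set G)) :
    ∃ k : ℕ, h ^ p ^ k ∈ Subgroup.centralizer (P : Set G) := by
  set H := Subgroup.closure ({a, b} : Set G) with hH
  have hHN : H ≤ Subgroup.normalizer (P : Set G) := by
    rw [hH, Subgroup.closure_le]
    rintro _ (rfl | rfl)
    · exact ha
    · exact hb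
  letI : CommGroup (P ⧸ frattini P) :=
    { (inferInstance : Group (P ⧸ frattini P)) with
      mul_comm := CfsgLib.PGroup.quotient_frattini_comm hP }
  let μ : H →* MulAut P := (Subgroup.normalizerMonoidHom P).comp (Subgroup.inclusion hHN)
  have hchar : ∀ g : H, (frattini P).map (μ g).toMonoidHom = frattini P := fun g =>
    Subgroup.characteristic_iff_map_eq.1 inferInstance _
  let ψ : H →* MulAut (P ⧸ frattini P) :=
    { toFun := fun g => QuotientGroup.congr (frattini P) (frattini P) (μ g) (hchar g)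
      map_one' := MulEquiv.ext fun q => by
        obtain ⟨x, rfl⟩ := QuotientGroup.mk_surjective q
        show ((μ 1 x : P) : P ⧸ frattini P) = _
        rw [map_one]; rfl
      map_mul' := fun g g' => MulEquiv.ext fun q => by
        obtain ⟨x, rfl⟩ := QuotientGroup.mk_surjective q
        show ((μ (g * g') x : P) : P ⧸ frattini P) = _
        rw [map_mul]; rfl }
  have ψapp : ∀ (g : H) (x : P), ψ g x = ((μ g x : P) : P ⧸ frattini P) := fun g x => rfl
  have μapp : ∀ (g : H) (x : P), ((μ g x : P) : G) = g * x * (g : G)⁻¹ := fun g x => rfl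
  have quad : ∀ c : H, IsQuad P (c : G) → ∀ v, ψ c (ψ c v) * v = ψ c v * ψ c v := by
    intro c hc v
    obtain ⟨x, rfl⟩ := QuotientGroup.mk_surjective v
    rw [ψapp, ψapp, ← QuotientGroup.mk_mul, ← QuotientGroup.mk_mul]
    -- `x (cx)⁻¹` is fixed by `c`
    have hfix : μ c (x * (μ c x)⁻¹) = x * (μ c x)⁻¹ := by
      apply Subtype.ext
      rw [μapp, Subgroup.coe_mul, Subgroup.coe_inv, μapp]
      have := hc x x.2
      rw [commutatorElement_eq_one_iff_mul_comm] at this
      have e : ⁅(x : G), (c : G)⁆ = (x : G) * ((c : G) * x * (c : G)⁻¹)⁻¹ := by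
        rw [commutatorElement_def]; group
      rw [e] at this
      rw [← this]; group
    rw [map_mul, map_inv] at hfix
    have e2 : ((μ c x : P) : P ⧸ frattini P) * ((μ c (μ c x) : P) : P ⧸ frattini P)⁻¹ =
        (x : P ⧸ frattini P) * ((μ c x : P) : P ⧸ frattini P)⁻¹ := by
      rw [← QuotientGroup.mk_inv, ← QuotientGroup.mk_inv, ← QuotientGroup.mk_mul,
        ← QuotientGroup.mk_mul, hfix]
    rw [QuotientGroup.mk_mul, QuotientGroup.mk_mul]
    rw [mul_inv_eq_iff_eq_mul, mul_right_comm, eq_mul_inv_iff_mul_eq] at e2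
    rw [e2]; exact mul_comm _ _
  have hgen : Subgroup.closure ({⟨a, Subgroup.subset_closure (Or.inl rfl)⟩,
      ⟨b, Subgroup.subset_closure (Or.inr rfl)⟩} : Set H) = ⊤ := by
    apply Subgroup.map_injective H.subtype_injective
    rw [MonoidHom.map_closure, ← MonoidHom.range_eq_map, Subgroup.range_subtype]
    simp [Set.image_insert_eq, hH]
  obtain ⟨k, hk⟩ := exists_pow_eq_one_of_quad_pair (CfsgLib.PGroup.quotient_frattini_pow hP) ψ hgen
    (quad _ haq) (quad _ hbq) htame ⟨h, hh⟩
  obtain ⟨j, m, hm, hord⟩ := Nat.exists_eq_pow_mul_and_not_dvd (orderOf_pos h).ne' p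
    (Fact.out : p.Prime).one_lt.ne'
  refine ⟨k + j, mem_centralizer_of_frattini hP ?_ ?_ ?_⟩
  · exact Subgroup.pow_mem _ (hHN hh) _
  · refine Nat.Coprime.coprime_dvd_left (k := m) ?_
      (Nat.Coprime.symm ((Fact.out : p.Prime).coprime_iff_not_dvd.2 hm))
    apply orderOf_dvd_of_pow_eq_one
    rw [← pow_mul, pow_add, mul_assoc, ← hord, pow_mul', pow_orderOf_eq_one, one_pow]
  · intro x hx
    set g : H := ⟨h, hh⟩ ^ p ^ (k + j) with hg
    have hψ : ψ g = 1 := by
      rw [hg, pow_add, pow_mul, map_pow, hk, one_pow]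
    have h1 : ((μ g ⟨x, hx⟩ : P) : P ⧸ frattini P) = ((⟨x, hx⟩ : P) : P ⧸ frattini P) := by
      rw [← ψapp, hψ]; rfl
    rw [eq_comm, QuotientGroup.eq] at h1
    refine ⟨⟨x, hx⟩ * (((⟨x, hx⟩ : P)⁻¹ * μ g ⟨x, hx⟩)) * (⟨x, hx⟩ : P)⁻¹, ?_, ?_⟩
    · exact (inferInstance : (frattini P).Normal).conj_mem _ h1 _
    · simp only [Subgroup.subtype_apply, Subgroup.coe_mul, Subgroup.coe_inv, μapp, hg,
        Subgroup.coe_pow, commutatorElement_def]
      group

end CfsgLib.PStab
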