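import Cfsg.Agent.Lib.PStab.QdSection

/-!
Stability passes to the quotient by a central `p`-subgroup.
-/

set_option autoImplicit false

namespace CfsgLib.PStab

open Matrix
open scoped commutatorElement

variable {p : ℕ} [hp : Fact p.Prime] {G : Type*} [Group G]

/-- A `p'`-element moving `x` by a fixed `p`-element fixes `x`. -/
theorem eq_one_of_coprime_fix {y x z : G} (h : y * x * y⁻¹ = x * z) (hz : y * z * y⁻¹ = z)
    {k : ℕ} (hzp : z ^ p ^ k = 1) (hy : (orderOf y).Coprime p) : z = 1 := by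
  have key : ∀ m : ℕ, y ^ m * x * (y ^ m)⁻¹ = x * z ^ m := by
    intro m
    induction m with
    | zero => simp
    | succ m ih =>
      calc y ^ (m + 1) * x * (y ^ (m + 1))⁻¹ = y * (y ^ m * x * (y ^ m)⁻¹) * y⁻¹ := by
            rw [pow_succ']; group
        _ = y * x * y⁻¹ * (y * z * y⁻¹) ^ m := by rw [ih, conj_pow]; group
        _ = _ := by rw [h, hz, pow_succ', mul_assoc]
  have h1 := key (orderOf y)
  rw [pow_orderOf_eq_one, one_mul, inv_one, mul_one, left_eq_mul] at h1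
  have h2 : z ^ (orderOf y).gcd (p ^ k) = 1 := pow_gcd_eq_one.2 ⟨h1, hzp⟩
  rwa [hy.pow_right k, pow_one] at h2

/-- A commutator with central changes and one power of the first entry. -/
theorem commutator_shift {x y f g : G} (n : ℕ) (hfx : Commute f x) (hfy : Commute f y) (hgx : Commute g x)
    (hgy : Commute g y) (hfg : Commute f g) (hc : Commute x ⁅x, y⁆) :
    ⁅x * f, x ^ n * y * g⁆ = ⁅x, y⁆ := by
  have h1 : ⁅x * f, x ^ n * y * g⁆ = ⁅x, x ^ n * y⁆ := by
    have e1 : Commute g (x * f)⁻¹ := ((hgx.mul_right hfg.symm)).inv_right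
    have e2 : Commute f (x ^ n * y) := (hfx.pow_right n).mul_right hfy
    simp only [commutatorElement_def]
    calc x * f * (x ^ n * y * g) * (x * f)⁻¹ * (x ^ n * y * g)⁻¹
        = x * f * (x ^ n * y) * (g * (x * f)⁻¹) * (x ^ n * y * g)⁻¹ := by group
      _ = x * f * (x ^ n * y) * ((x * f)⁻¹ * g) * (x ^ n * y * g)⁻¹ := by rw [e1.eq]
      _ = x * (f * (x ^ n * y)) * f⁻¹ * x⁻¹ * (x ^ n * y)⁻¹ := by group
      _ = _ := by rw [e2.eq]; group
  rw [h1]
  simp only [commutatorElement_def]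
  calc x * (x ^ n * y) * x⁻¹ * (x ^ n * y)⁻¹ = x ^ n * (x * y * x⁻¹ * y⁻¹) * (x ^ n)⁻¹ := by group
    _ = x ^ n * ⁅x, y⁆ * (x ^ n)⁻¹ := by rw [commutatorElement_def]
    _ = _ := by rw [(hc.pow_left n).eq, mul_inv_cancel_right, commutatorElement_def]

/-- The automorphisms of `P / F` induced by the normaliser. -/
def quotientAct (P : Subgroup G) (F : Subgroup P) [F.Normal]
    (hF : ∀ g : Subgroup.normalizer (P : Set G),
      F.map (Subgroup.normalizerMonoidHom P g).toMonoidHom = F) :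
    Subgroup.normalizer (P : Set G) →* MulAut (P ⧸ F) where
  toFun g := QuotientGroup.congr F F (Subgroup.normalizerMonoidHom P g) (hF g)
  map_one' := MulEquiv.ext fun q => by
    obtain ⟨x, rfl⟩ := QuotientGroup.mk_surjective q
    show ((Subgroup.normalizerMonoidHom P 1 x : P) : P ⧸ F) = _
    rw [map_one]; rfl
  map_mul' g g' := MulEquiv.ext fun q => by
    obtain ⟨x, rfl⟩ := QuotientGroup.mk_surjective q
    show ((Subgroup.normalizerMonoidHom P (g * g') x : P) : P ⧸ F) = _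
    rw [map_mul]; rfl

theorem quotientAct_mk (P : Subgroup G) (F : Subgroup P) [F.Normal]
    (hF : ∀ g : Subgroup.normalizer (P : Set G),
      F.map (Subgroup.normalizerMonoidHom P g).toMonoidHom = F)
    (g : Subgroup.normalizer (P : Set G)) (x : P) :
    quotientAct P F hF g (x : P ⧸ F) = ((Subgroup.normalizerMonoidHom P g x : P) : P ⧸ F) := rfl

variable [Finite G]

theorem exists_pPrime_power (y : G) : ∃ i : ℕ, (orderOf (y ^ p ^ i)).Coprime p := by
  obtain ⟨i, m, hm, hord⟩ := Nat.exists_eq_pow_mul_and_not_dvd (orderOf_pos y).ne' p hp.out.one_lt.ne'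
  refine ⟨i, Nat.Coprime.coprime_dvd_left (k := m) ?_ (Nat.Coprime.symm (hp.out.coprime_iff_not_dvd.2 hm))⟩
  apply orderOf_dvd_of_pow_eq_one
  rw [← pow_mul, ← hord, pow_orderOf_eq_one]

/-- A `p'`-element with a `p`-power power in a subgroup lies in it. -/
theorem mem_of_pow_mem_coprime {C : Subgroup G} {y : G} {k : ℕ} (h : y ^ p ^ k ∈ C)
    (hy : (orderOf y).Coprime p) : y ∈ C := by
  rcases eq_or_ne (orderOf y) 1 with h1 | h1
  · rw [orderOf_eq_one_iff.1 h1]; exact one_mem _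
  obtain ⟨m, hm⟩ := Nat.exists_mul_mod_eq_one_of_coprime (hy.pow_right k).symm
    (lt_of_le_of_ne (orderOf_pos y) (Ne.symm h1))
  have e : y = (y ^ p ^ k) ^ m := by
    rw [← pow_mul, ← pow_mod_orderOf, hm.2, pow_one]
  rw [e]; exact pow_mem h m

open Subgroup in
set_option maxHeartbeats 1600000 in
/-- The pair lemma modulo a central `p`-subgroup. -/
theorem exists_pow_mem_centralizer_of_central_pair (hp2 : p ≠ 2) (hst : StableAll p G) (Z : Subgroup G)
    (hZc : ∀ z ∈ Z, ∀ g : G, g * z = z * g) :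
    ∀ (n : ℕ) (P : Subgroup G), Nat.card P ≤ n → IsPGroup p P → ∀ a ∈ normalizer (P : Set G),
      ∀ b ∈ normalizer (P : Set G), (∀ x ∈ P, ⁅⁅x, a⁆, a⁆ ∈ Z) → (∀ x ∈ P, ⁅⁅x, b⁆, b⁆ ∈ Z) →
      ∀ h ∈ closure ({a, b} : Set G), ∃ k : ℕ, h ^ p ^ k ∈ centralizer (P : Set G) := by
  intro n
  induction n using Nat.strong_induction_on with
  | _ n ih =>
  intro P hPn hP a ha b hb haq hbq h hh
  by_contra hne
  push Not at hne
  set N := normalizer (P : Set G) with hN
  have hfixlt : ∀ P1 : Subgroup G, P1 < P → ∀ a' ∈ normalizer (P1 : Set G), ∀ b' ∈ normalizer (P1 : Set G),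
      (∀ x ∈ P1, ⁅⁅x, a'⁆, a'⁆ ∈ Z) → (∀ x ∈ P1, ⁅⁅x, b'⁆, b'⁆ ∈ Z) →
      ∀ y ∈ closure ({a', b'} : Set G), (orderOf y).Coprime p → y ∈ centralizer (P1 : Set G) := by
    intro P1 hlt a' ha' b' hb' qa qb y hy hyc
    have hc : Nat.card P1 < Nat.card P :=
      lt_of_le_of_ne (card_le_of_le hlt.le) fun e => hlt.ne (eq_of_le_of_card_ge hlt.le e.ge)
    obtain ⟨k, hk⟩ := ih (Nat.card P1) (by omega) P1 le_rfl (hP.to_le hlt.le) a' ha' b' hb' qa qb y hy
    exact mem_of_pow_mem_coprime hk hyc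
  -- the quotient
  set F : Subgroup P := frattini P ⊔ Z.subgroupOf P with hFdef
  have hZn : (Z.subgroupOf P).Normal := ⟨fun z hz g => by
    rw [mem_subgroupOf] at hz ⊢
    rw [coe_mul, coe_mul, coe_inv, hZc _ hz, mul_inv_cancel_right]; exact hz⟩
  have hFn : F.Normal := by rw [hFdef]; infer_instance
  have hFchar : ∀ g : N, F.map (normalizerMonoidHom P g).toMonoidHom = F := by
    intro g
    rw [hFdef, Subgroup.map_sup]
    congr 1
    · exact characteristic_iff_map_eq.1 inferInstance _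
    · ext z
      have e : ∀ w : P, (w : G) ∈ Z → normalizerMonoidHom P g w = w := fun w hw => by
        apply Subtype.ext
        show (g : G) * w * (g : G)⁻¹ = w
        rw [hZc _ hw, mul_inv_cancel_right]
      constructor
      · rintro ⟨w, hw, rfl⟩
        show normalizerMonoidHom P g w ∈ Z.subgroupOf P
        rw [e w (mem_subgroupOf.1 hw)]; exact hw
      · intro hz
        exact ⟨z, hz, e z (mem_subgroupOf.1 hz)⟩
  set ψ := quotientAct P F hFchar with hψdef
  have ψapp : ∀ (g : N) (x : P), ψ g (x : P ⧸ F) = ((normalizerMonoidHom P g x : P) : P ⧸ F) :=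
    quotientAct_mk P F hFchar
  have μapp : ∀ (g : N) (x : P), ((normalizerMonoidHom P g x : P) : G) = g * x * (g : G)⁻¹ := fun g x => rfl
  letI : CommGroup (P ⧸ F) :=
    { (inferInstance : Group (P ⧸ F)) with
      mul_comm := fun u v => by
        obtain ⟨x, rfl⟩ := QuotientGroup.mk_surjective u
        obtain ⟨y, rfl⟩ := QuotientGroup.mk_surjective v
        rw [← QuotientGroup.mk_mul, ← QuotientGroup.mk_mul, QuotientGroup.eq]
        refine mem_sup_left ((QuotientGroup.eq (s := frattini P)).1 ?_)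
        rw [QuotientGroup.mk_mul, QuotientGroup.mk_mul]
        exact CfsgLib.PGroup.quotient_frattini_comm hP _ _ }
  have hVpow : ∀ u : P ⧸ F, u ^ p = 1 := fun u => by
    obtain ⟨x, rfl⟩ := QuotientGroup.mk_surjective u
    rw [← QuotientGroup.mk_pow, QuotientGroup.eq_one_iff]
    refine mem_sup_left ((QuotientGroup.eq_one_iff (N := frattini P) _).1 ?_)
    rw [QuotientGroup.mk_pow, CfsgLib.PGroup.quotient_frattini_pow hP]
  set X := closure ({a, b} : Set G) with hX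
  have hXN : X ≤ N := (closure_le _).2 (by rintro _ (rfl | rfl) <;> assumption)
  set ψX : X →* MulAut (P ⧸ F) := ψ.comp (inclusion hXN) with hψX
  have hXgen : closure ({⟨a, Subgroup.subset_closure (Or.inl rfl)⟩, ⟨b, Subgroup.subset_closure (Or.inr rfl)⟩} : Set X) = ⊤ := by
    apply Subgroup.map_injective X.subtype_injective
    rw [MonoidHom.map_closure, ← MonoidHom.range_eq_map, range_subtype]
    simp [Set.image_insert_eq, hX]
  have quad : ∀ c : X, (∀ x ∈ P, ⁅⁅x, (c : G)⁆, (c : G)⁆ ∈ Z) →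
      ∀ v, ψX c (ψX c v) * v = ψX c v * ψX c v := by
    intro c hc v
    obtain ⟨x, rfl⟩ := QuotientGroup.mk_surjective v
    set g : N := inclusion hXN c
    set μ := normalizerMonoidHom P g
    show ψ g (ψ g (x : P ⧸ F)) * (x : P ⧸ F) = ψ g (x : P ⧸ F) * ψ g (x : P ⧸ F)
    rw [ψapp, ψapp]
    have h1 : ((x * (μ x)⁻¹ * (μ (x * (μ x)⁻¹))⁻¹ : P) : P ⧸ F) = 1 := by
      rw [QuotientGroup.eq_one_iff]
      refine mem_sup_right (mem_subgroupOf.2 ?_)
      have := hc x x.2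
      simp only [coe_mul, coe_inv, μ, μapp]
      simp only [g, coe_inclusion]
      convert this using 1
      simp only [commutatorElement_def]
      group
    rw [map_mul, map_inv, QuotientGroup.mk_mul, QuotientGroup.mk_mul, QuotientGroup.mk_inv,
      QuotientGroup.mk_inv, QuotientGroup.mk_mul, QuotientGroup.mk_inv, mul_inv_eq_one,
      mul_inv_eq_iff_eq_mul, mul_right_comm, eq_mul_inv_iff_mul_eq] at h1
    rw [mul_comm, h1]
  have quadconj : ∀ g ∈ N, ∀ c : G, (∀ x ∈ P, ⁅⁅x, c⁆, c⁆ ∈ Z) →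
      ∀ x ∈ P, ⁅⁅x, g * c * g⁻¹⁆, g * c * g⁻¹⁆ ∈ Z := by
    intro g hg c hc x hx
    have h1 := hc (g⁻¹ * x * g) ((mem_normalizer_iff''.1 hg x).1 hx)
    have e : ⁅⁅x, g * c * g⁻¹⁆, g * c * g⁻¹⁆ = g * ⁅⁅g⁻¹ * x * g, c⁆, c⁆ * g⁻¹ := by
      simp only [commutatorElement_def]; group
    rw [e, hZc _ h1, mul_inv_cancel_right]; exact h1
  have hhX : ∀ k : ℕ, ψX ((⟨h, hh⟩ : X) ^ p ^ k) ≠ 1 := by
    intro k hk
    obtain ⟨i, hi⟩ := exists_pPrime_power (p := p) h
    refine hne (k + i) (mem_centralizer_of_frattini hP (Subgroup.pow_mem _ (hXN hh) _) ?_ fun x hx => ?_)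
    · rw [pow_add, mul_comm, pow_mul]
      exact Nat.Coprime.coprime_dvd_left (orderOf_pow_dvd _) hi
    set y : N := (⟨h, hXN hh⟩ : N) ^ p ^ (k + i) with hy
    have hψy : ψ y = 1 := by
      have h1 : ψ ((⟨h, hXN hh⟩ : N) ^ p ^ k) = 1 := hk
      rw [hy, pow_add, pow_mul, map_pow, h1, one_pow]
    have h2 := ψapp y ⟨x, hx⟩
    rw [hψy, MulAut.one_apply, QuotientGroup.eq, hFdef, mem_sup_of_normal_right] at h2
    obtain ⟨φ, hφ, z, hz, e⟩ := h2
    -- work modulo the Frattini subgroup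
    let μbar : MulAut (P ⧸ frattini P) := QuotientGroup.congr _ _ (normalizerMonoidHom P y)
      (characteristic_iff_map_eq.1 inferInstance _)
    have e1 : μbar ((⟨x, hx⟩ : P) : P ⧸ frattini P) =
        ((⟨x, hx⟩ : P) : P ⧸ frattini P) * ((z : P) : P ⧸ frattini P) := by
      show ((normalizerMonoidHom P y ⟨x, hx⟩ : P) : P ⧸ frattini P) = _
      rw [← mul_inv_cancel_left (⟨x, hx⟩ : P) (normalizerMonoidHom P y ⟨x, hx⟩), ← e, QuotientGroup.mk_mul,
        QuotientGroup.mk_mul, (QuotientGroup.eq_one_iff φ).2 hφ, one_mul]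
    have e2 : μbar ((z : P) : P ⧸ frattini P) = (z : P ⧸ frattini P) := by
      show ((normalizerMonoidHom P y z : P) : P ⧸ frattini P) = _
      congr 1
      apply Subtype.ext
      rw [μapp, hZc _ (mem_subgroupOf.1 hz), mul_inv_cancel_right]
    have e3 : ∀ m : ℕ, (μbar ^ m) ((⟨x, hx⟩ : P) : P ⧸ frattini P) =
        ((⟨x, hx⟩ : P) : P ⧸ frattini P) * ((z : P) : P ⧸ frattini P) ^ m := by
      intro m
      induction m with
      | zero => simp
      | succ m ih2 => rw [pow_succ', MulAut.mul_apply, ih2, map_mul, map_pow, e1, e2, pow_succ', mul_assoc]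
    have hord : μbar ^ orderOf y = 1 := by
      apply MulEquiv.ext
      intro q
      obtain ⟨w, rfl⟩ := QuotientGroup.mk_surjective q
      have : ∀ m : ℕ, (μbar ^ m) (w : P ⧸ frattini P) =
          ((normalizerMonoidHom P (y ^ m) w : P) : P ⧸ frattini P) := by
        intro m
        induction m with
        | zero => simp
        | succ m ih2 =>
          rw [pow_succ', MulAut.mul_apply, ih2, pow_succ', map_mul]
          rfl
      rw [this, pow_orderOf_eq_one, map_one]; rfl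
    have hzn := e3 (orderOf y)
    rw [hord, MulAut.one_apply, left_eq_mul] at hzn
    have hz1 : ((z : P) : P ⧸ frattini P) = 1 := by
      have h3 := pow_gcd_eq_one.2 ⟨hzn, CfsgLib.PGroup.quotient_frattini_pow hP ((z : P) : P ⧸ frattini P)⟩
      have hyc : (orderOf y).Coprime p := by
        rw [← Subgroup.orderOf_coe, hy, SubmonoidClass.coe_pow, pow_add, mul_comm, pow_mul]
        exact Nat.Coprime.coprime_dvd_left (orderOf_pow_dvd _) hi
      rwa [hyc, pow_one] at h3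
    rw [hz1, mul_one] at e1
    have e4 : (⟨x, hx⟩ : P)⁻¹ * normalizerMonoidHom P y ⟨x, hx⟩ ∈ frattini P :=
      QuotientGroup.eq.1 e1.symm
    refine ⟨_, (inferInstance : (frattini P).Normal).conj_mem _ e4 ⟨x, hx⟩, ?_⟩
    simp only [Subgroup.subtype_apply, coe_mul, coe_inv, μapp, hy, SubmonoidClass.coe_pow,
      commutatorElement_def]
    group
  have : Module (ZMod p) (Additive (P ⧸ F)) := AddCommGroup.zmodModule fun x => by
    apply Additive.toMul.injective
    rw [toMul_nsmul, toMul_zero]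
    exact hVpow _
  obtain ⟨a₁, b₁, ι, j, ha₁, hb₁, hι, hj, hact_a, hact_b⟩ :=
    exists_natural_pair_aux hp2 ψX hXgen (quad _ haq) (quad _ hbq) hhX
  set a' : N := inclusion hXN a₁ with ha'def
  set b' : N := inclusion hXN b₁ with hb'def
  have qa : ∀ x ∈ P, ⁅⁅x, (a' : G)⁆, (a' : G)⁆ ∈ Z := by
    obtain ⟨g, rfl | rfl⟩ := ha₁
    · exact quadconj g (hXN g.2) a haq
    · exact quadconj g (hXN g.2) b hbq
  have qb : ∀ x ∈ P, ⁅⁅x, (b' : G)⁆, (b' : G)⁆ ∈ Z := by
    obtain ⟨g, rfl | rfl⟩ := hb₁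
    · exact quadconj g (hXN g.2) a haq
    · exact quadconj g (hXN g.2) b hbq
  -- matrices
  let Act : N → Matrix (Fin 2) (Fin 2) (ZMod p) → Prop := fun g M =>
    ∀ x, ψ g (ι (Multiplicative.ofAdd x)) = ι (Multiplicative.ofAdd (M *ᵥ x))
  have act_mul : ∀ {g g' : N} {M M' : Matrix (Fin 2) (Fin 2) (ZMod p)}, Act g M → Act g' M' →
      Act (g * g') (M * M') := fun {g g' M M'} hg hg' x => by
    rw [map_mul, MulAut.mul_apply, hg', hg, Matrix.mulVec_mulVec]
  have act_one : Act 1 1 := fun x => by rw [map_one, MulAut.one_apply, Matrix.one_mulVec]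
  have act_pow : ∀ {g : N} {M : Matrix (Fin 2) (Fin 2) (ZMod p)}, Act g M → ∀ m : ℕ,
      Act (g ^ m) (M ^ m) := fun {g M} hg m => by
    induction m with
    | zero => simpa using act_one
    | succ m ihm => rw [pow_succ, pow_succ]; exact act_mul ihm hg
  have act_inv : ∀ {g : N} {M M' : Matrix (Fin 2) (Fin 2) (ZMod p)}, Act g M → M * M' = 1 →
      Act g⁻¹ M' := fun {g M M'} hg hMM x => by
    apply (ψ g).injective
    rw [hg, Matrix.mulVec_mulVec, hMM, Matrix.one_mulVec, ← MulAut.mul_apply, ← map_mul,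
      mul_inv_cancel, map_one, MulAut.one_apply]
  have pu : ∀ (c : ZMod p) (m : ℕ), (!![1, c; 0, 1] : Matrix (Fin 2) (Fin 2) (ZMod p)) ^ m =
      !![1, (m : ZMod p) * c; 0, 1] := fun c m => by
    induction m with
    | zero => simp [Matrix.one_fin_two]
    | succ m ihm => rw [pow_succ, ihm]; simp; ring
  have pl : ∀ (c : ZMod p) (m : ℕ), (!![1, 0; c, 1] : Matrix (Fin 2) (Fin 2) (ZMod p)) ^ m =
      !![1, 0; (m : ZMod p) * c, 1] := fun c m => by
    induction m with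
    | zero => simp [Matrix.one_fin_two]
    | succ m ihm => rw [pow_succ, ihm]; simp; ring
  have : NeZero p := ⟨hp.out.ne_zero⟩
  set i := (j⁻¹ : ZMod p).val with hi
  have hij : (i : ZMod p) * j = 1 := by
    rw [hi, ZMod.natCast_rightInverse, inv_mul_cancel₀ hj]
  set m1 := (-1 : ZMod p).val with hm1
  have hA : Act a' !![1, j; 0, 1] := hact_a
  have hB : Act b' !![1, 0; 1, 1] := hact_b
  set w : N := a' ^ i * b' ^ m1 * a' ^ i with hw
  have hW : Act w !![0, 1; -1, 0] := by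
    have := act_mul (act_mul (act_pow hA i) (act_pow hB m1)) (act_pow hA i)
    rw [pu, pl, hij, hm1, ZMod.natCast_rightInverse, mul_one] at this
    convert this using 1
    simp
  set e := (orderOf ((w * w : N) : G)).factorization p with he
  set t : N := (w * w) ^ p ^ e with ht
  have hT : Act t (-1) := by
    have h2 : (!![0, 1; -1, 0] : Matrix (Fin 2) (Fin 2) (ZMod p)) * !![0, 1; -1, 0] = -1 := by
      ext r s; fin_cases r <;> fin_cases s <;> simp
    have := act_pow (act_mul hW hW) (p ^ e)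
    rwa [h2, ((hp.out.odd_of_ne_two hp2).pow).neg_one_pow] at this
  have htc : (orderOf (t : G)).Coprime p := by
    rw [ht, SubmonoidClass.coe_pow, orderOf_pow' _ (pow_ne_zero _ hp.out.ne_zero),
      Nat.gcd_eq_right (Nat.ordProj_dvd _ _)]
    exact (Nat.coprime_ordCompl hp.out (orderOf_pos _).ne').symm
  have htmem : (t : G) ∈ closure ({(a' : G), (b' : G)} : Set G) := by
    have hwm : (w : G) ∈ closure ({(a' : G), (b' : G)} : Set G) := by
      simp only [hw, coe_mul, SubmonoidClass.coe_pow]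
      have ma : (a' : G) ∈ closure ({(a' : G), (b' : G)} : Set G) := Subgroup.subset_closure (Or.inl rfl)
      have mb : (b' : G) ∈ closure ({(a' : G), (b' : G)} : Set G) := Subgroup.subset_closure (Or.inr rfl)
      exact mul_mem (mul_mem (Subgroup.pow_mem _ ma _) (Subgroup.pow_mem _ mb _)) (Subgroup.pow_mem _ ma _)
    simp only [ht, SubmonoidClass.coe_pow, coe_mul]
    exact pow_mem (mul_mem hwm hwm) _
  have h2 : (2 : ZMod p) ≠ 0 := by
    intro h
    have h' : ((2 : ℕ) : ZMod p) = 0 := by exact_mod_cast h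
    rw [CharP.cast_eq_zero_iff (ZMod p) p] at h'
    exact hp2 ((Nat.prime_dvd_prime_iff_eq hp.out Nat.prime_two).1 h')
  have hmove : ∀ (q : P) (x : Fin 2 → ZMod p), ι (Multiplicative.ofAdd x) = (q : P ⧸ F) → x ≠ 0 →
      (t : G) * q * (t : G)⁻¹ ≠ q := by
    intro q x hq hx0 hfix
    refine hx0 ?_
    have h1 := hT x
    rw [hq, ψapp, show normalizerMonoidHom P t q = q from Subtype.ext hfix, ← hq] at h1
    have h3 := Multiplicative.ofAdd.injective (hι h1)
    rw [Matrix.neg_mulVec, Matrix.one_mulVec] at h3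
    funext r
    have h4 := congrFun h3 r
    simp only [Pi.neg_apply] at h4
    have : (2 : ZMod p) * x r = 0 := by linear_combination h4
    exact (mul_eq_zero.1 this).resolve_left h2
  have hconjmem : ∀ g : N, ∀ q : P, (q : P ⧸ F) ∈ ι.range → ∀ M, Act g M →
      ((normalizerMonoidHom P g q : P) : P ⧸ F) ∈ ι.range := by
    rintro g q ⟨x, hx⟩ M hg
    obtain ⟨x, rfl⟩ := Multiplicative.ofAdd.surjective x
    rw [← ψapp, ← hx, hg]
    exact ⟨_, rfl⟩
  have hnormsub : ∀ (S1 : Subgroup P) (g : N),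
      (∀ q ∈ S1, normalizerMonoidHom P g q ∈ S1) → (g : G) ∈ normalizer ((S1.map P.subtype : Subgroup G) : Set G) :=
    fun S1 g hS1 => CfsgLib.Solvable.mem_normalizer_of_conj_mem (by
      rintro _ ⟨q, hq, rfl⟩
      exact ⟨_, hS1 q hq, rfl⟩)
  -- the plane is everything
  have hsurj : Function.Surjective ι := by
    rw [← MonoidHom.range_eq_top]
    by_contra hr
    set S1 := ι.range.comap (QuotientGroup.mk' F) with hS1
    have hlt : S1.map P.subtype < P := by
      refine lt_of_le_of_ne (map_subtype_le _) fun e1 => hr (eq_top_iff.2 fun u _ => ?_)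
      obtain ⟨q, rfl⟩ := QuotientGroup.mk_surjective u
      obtain ⟨q', hq', e2⟩ := e1.ge q.2
      rw [show q = q' from Subtype.ext e2.symm]
      exact hq'
    have hcen := hfixlt _ hlt a' (hnormsub S1 a' fun q hq => hconjmem a' q hq _ hA)
      b' (hnormsub S1 b' fun q hq => hconjmem b' q hq _ hB)
      (fun x hx => qa x (map_subtype_le _ hx)) (fun x hx => qb x (map_subtype_le _ hx)) _ htmem htc
    obtain ⟨q, hq⟩ := QuotientGroup.mk_surjective (ι (Multiplicative.ofAdd ![(1 : ZMod p), 0]))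
    refine hmove q _ hq.symm (fun e => by simpa using congrFun e 0) ?_
    rw [← mem_centralizer_iff.1 hcen q ⟨q, ⟨_, hq.symm⟩, rfl⟩, mul_inv_cancel_right]
  -- `F` is centralised by `t`
  set F' := F.map P.subtype with hF'
  have hF'lt : F' < P := by
    refine lt_of_le_of_ne (map_subtype_le _) fun e1 => ?_
    obtain ⟨q, hq⟩ := QuotientGroup.mk_surjective (ι (Multiplicative.ofAdd ![(1 : ZMod p), 0]))
    obtain ⟨q', hq', e2⟩ := e1.ge q.2
    rw [show q = q' from Subtype.ext e2.symm, (QuotientGroup.eq_one_iff q').2 hq', ← map_one ι] at hq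
    have := congrFun (Multiplicative.ofAdd.injective (hι hq.symm)) 0
    simp at this
  have hNF : ∀ g : N, (g : G) ∈ normalizer (F' : Set G) := fun g =>
    hnormsub F g fun q hq => (hFchar g).le ⟨q, hq, rfl⟩
  have htF := mem_centralizer_iff.1 (hfixlt F' hF'lt a' (hNF a') b' (hNF b')
    (fun x hx => qa x (map_subtype_le _ hx)) (fun x hx => qb x (map_subtype_le _ hx)) _ htmem htc)
  have hFP : ∀ q ∈ P, ∀ f ∈ F', q * f * q⁻¹ ∈ F' := fun q hq f hf =>
    (mem_normalizer_iff.1 (hNF ⟨q, le_normalizer hq⟩) f).1 hf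
  have htwist : ∀ x : P, ((x : G) * ((t : G) * (x : G)⁻¹ * (t : G)⁻¹)) ∈ centralizer (F' : Set G) := by
    intro x
    refine mem_centralizer_iff.2 fun f hf => ?_
    have h1 := hFP (x : G)⁻¹ (inv_mem x.2) f hf
    rw [inv_inv] at h1
    have h2 := htF _ h1
    have h3 := htF _ hf
    calc f * ((x : G) * ((t : G) * (x : G)⁻¹ * (t : G)⁻¹))
        = (x : G) * (((x : G)⁻¹ * f * x) * t) * (x : G)⁻¹ * (t : G)⁻¹ := by group
      _ = (x : G) * ((t : G) * ((x : G)⁻¹ * f * x)) * (x : G)⁻¹ * (t : G)⁻¹ := by rw [h2]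
      _ = (x : G) * t * (x : G)⁻¹ * (f * (t : G)⁻¹) := by group
      _ = (x : G) * t * (x : G)⁻¹ * ((t : G)⁻¹ * f) := by
          rw [show f * (t : G)⁻¹ = (t : G)⁻¹ * f from (Commute.inv_right h3).eq]
      _ = _ := by group
  set tw : P → P := fun x => x * normalizerMonoidHom P t x⁻¹ with htw
  have htwcoe : ∀ x : P, (tw x : G) = (x : G) * ((t : G) * (x : G)⁻¹ * (t : G)⁻¹) := fun x => rfl
  have htwbar : ∀ (x : P) (v : Fin 2 → ZMod p), ι (Multiplicative.ofAdd v) = (x : P ⧸ F) →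
      ι (Multiplicative.ofAdd (v + v)) = ((tw x : P) : P ⧸ F) := by
    intro x v hv
    rw [htw, QuotientGroup.mk_mul, ← ψapp, QuotientGroup.mk_inv, ← hv, map_inv, hT, Matrix.neg_mulVec,
      Matrix.one_mulVec, ofAdd_neg, map_inv, inv_inv, ← map_mul, ← ofAdd_add]
  have hlift : ∀ v : Fin 2 → ZMod p, ∃ x : P, ι (Multiplicative.ofAdd v) = ((tw x : P) : P ⧸ F) := by
    intro v
    obtain ⟨x, hx⟩ := QuotientGroup.mk_surjective (ι (Multiplicative.ofAdd ((2 : ZMod p)⁻¹ • v)))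
    refine ⟨x, ?_⟩
    rw [← htwbar x _ hx.symm, ← add_smul, ← two_mul, mul_inv_cancel₀ h2, one_smul]
  -- `F` is central in `P`
  have hFcen : ∀ q ∈ P, ∀ f ∈ F', f * q = q * f := by
    by_contra hnc
    set S2 := (centralizer (F' : Set G)).subgroupOf P with hS2
    have hlt : S2.map P.subtype < P := by
      refine lt_of_le_of_ne (map_subtype_le _) fun e1 => hnc fun q hq f hf => ?_
      obtain ⟨q', hq', e2⟩ := e1.ge hq
      rw [← e2]
      exact mem_centralizer_iff.1 (mem_subgroupOf.1 hq') f hf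
    have hnorm : ∀ g : N, ∀ q ∈ S2, normalizerMonoidHom P g q ∈ S2 := by
      intro g q hq
      rw [hS2, mem_subgroupOf, mem_centralizer_iff] at hq ⊢
      intro f hf
      have h1 := hq _ ((mem_normalizer_iff''.1 (hNF g) f).1 hf)
      rw [μapp]
      calc f * ((g : G) * q * (g : G)⁻¹) = g * (((g : G)⁻¹ * f * g) * q) * (g : G)⁻¹ := by group
        _ = g * q * (g : G)⁻¹ * f := by rw [h1]; group
    have hcen := hfixlt _ hlt a' (hnormsub S2 a' (hnorm a')) b' (hnormsub S2 b' (hnorm b'))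
      (fun x hx => qa x (map_subtype_le _ hx)) (fun x hx => qb x (map_subtype_le _ hx)) _ htmem htc
    obtain ⟨x, hx⟩ := hlift ![(1 : ZMod p), 0]
    refine hmove (tw x) _ hx (fun e => by simpa using congrFun e 0) ?_
    rw [← mem_centralizer_iff.1 hcen (tw x : G) ⟨tw x, mem_subgroupOf.2 (htwcoe x ▸ htwist x), rfl⟩,
      mul_inv_cancel_right]
  -- `t` squares to the identity on `P`
  have hFpow : ∀ f ∈ F', ∃ k : ℕ, f ^ p ^ k = 1 := fun f hf => by
    obtain ⟨k, hk⟩ := hP ⟨f, map_subtype_le _ hf⟩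
    exact ⟨k, by simpa using congrArg Subtype.val hk⟩
  have ht2 : ∀ x : P, (t : G) * ((t : G) * x * (t : G)⁻¹) * (t : G)⁻¹ = x := by
    intro x
    obtain ⟨v, hv⟩ := hsurj (x : P ⧸ F)
    obtain ⟨v, rfl⟩ := Multiplicative.ofAdd.surjective v
    have h1 : ψ (t * t) (x : P ⧸ F) = (x : P ⧸ F) := by
      rw [← hv, act_mul hT hT, neg_mul_neg, one_mul, Matrix.one_mulVec]
    rw [ψapp, eq_comm, QuotientGroup.eq] at h1
    set f := ((x⁻¹ * normalizerMonoidHom P (t * t) x : P) : G) with hf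
    have hfF : f ∈ F' := ⟨_, h1, rfl⟩
    obtain ⟨k, hk⟩ := hFpow f hfF
    have hz := eq_one_of_coprime_fix (y := (t : G) * t) (x := (x : G)) (z := f)
      (by rw [hf, coe_mul, coe_inv, μapp, coe_mul]; group)
      (by
        have h3 : Commute f ((t : G) * t) := (Commute.mul_right (htF f hfF) (htF f hfF))
        rw [← h3.eq, mul_inv_cancel_right])
      hk (by rw [← pow_two]; exact Nat.Coprime.coprime_dvd_left (orderOf_pow_dvd _) htc)
    rw [hf, coe_mul, coe_inv, μapp, inv_mul_eq_one] at hz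
    conv_rhs => rw [hz, coe_mul]
    group
  have htwinv : ∀ x : P, (t : G) * tw x * (t : G)⁻¹ = (tw x : G)⁻¹ := by
    intro x
    have h1 := ht2 x⁻¹
    rw [htwcoe]
    calc (t : G) * ((x : G) * ((t : G) * (x : G)⁻¹ * (t : G)⁻¹)) * (t : G)⁻¹
        = (t : G) * x * (t : G)⁻¹ * ((t : G) * ((t : G) * ((x⁻¹ : P) : G) * (t : G)⁻¹) * (t : G)⁻¹) := by
          rw [coe_inv]; group
      _ = _ := by rw [h1, coe_inv]; group
  obtain ⟨x₀', hx₀'⟩ := hlift ![(1 : ZMod p), 0]
  obtain ⟨y₀', hy₀'⟩ := hlift ![(0 : ZMod p), 1]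
  set x0 := tw x₀' with hx0
  set y0 := tw y₀' with hy0
  have hpowone : ∀ x : P, (tw x) ^ p = 1 := by
    intro x
    have hF1 : ((tw x ^ p : P) : G) ∈ F' := ⟨tw x ^ p, (QuotientGroup.eq_one_iff _).1 (by
      rw [QuotientGroup.mk_pow, hVpow]), rfl⟩
    have h1 := htF _ hF1
    have h3 : (t : G) * ((tw x : G) ^ p) * (t : G)⁻¹ = ((tw x : G) ^ p)⁻¹ := by
      rw [← conj_pow, htwinv, inv_pow]
    rw [SubmonoidClass.coe_pow] at h1
    rw [← h1, mul_inv_cancel_right] at h3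
    have h4 : ((tw x : G) ^ p) ^ 2 = 1 := by rw [pow_two]; nth_rw 1 [h3]; rw [inv_mul_cancel]
    apply Subtype.ext
    rw [SubmonoidClass.coe_pow, coe_one]
    obtain ⟨k, hk⟩ := hFpow _ (SubmonoidClass.coe_pow (tw x) p ▸ hF1)
    have h5 := pow_gcd_eq_one.2 ⟨h4, hk⟩
    rwa [Nat.Coprime.pow_right k ((Nat.coprime_primes Nat.prime_two hp.out).2 (Ne.symm hp2)), pow_one] at h5
  -- `a'` centralises `F`
  set R0 : Subgroup P := F ⊓ (centralizer ({(a' : G)} : Set G)).subgroupOf P with hR0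
  have hR0n : R0.Normal := ⟨fun r hr g => by
    have e1 : g * r * g⁻¹ = r := by
      apply Subtype.ext
      rw [coe_mul, coe_mul, coe_inv, ← hFcen g g.2 r ⟨r, hr.1, rfl⟩, mul_inv_cancel_right]
    rw [e1]; exact hr⟩
  have hax : ∃ f ∈ F', (a' : G) * x0 * (a' : G)⁻¹ = (x0 : G) * f := by
    have h1 := hA ![(1 : ZMod p), 0]
    rw [show (!![1, j; 0, 1] : Matrix (Fin 2) (Fin 2) (ZMod p)) *ᵥ ![1, 0] = ![1, 0] from by
        ext r; fin_cases r <;> simp [dotProduct, Fin.sum_univ_two], hx₀', ψapp, eq_comm,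
      QuotientGroup.eq] at h1
    exact ⟨_, ⟨_, h1, rfl⟩, by simp only [subtype_apply, coe_mul, coe_inv, μapp]; group⟩
  have hay : ∃ f ∈ F', (a' : G) * y0 * (a' : G)⁻¹ = (x0 : G) ^ j.val * y0 * f := by
    have h1 := hA ![(0 : ZMod p), 1]
    rw [show (!![1, j; 0, 1] : Matrix (Fin 2) (Fin 2) (ZMod p)) *ᵥ ![0, 1] = j.val • ![1, 0] + ![0, 1] from by
        ext r; fin_cases r <;> simp [dotProduct, Fin.sum_univ_two], ofAdd_add, ofAdd_nsmul, map_mul,
      map_pow, hx₀', hy₀', ψapp, ← QuotientGroup.mk_pow, ← QuotientGroup.mk_mul, eq_comm,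
      QuotientGroup.eq] at h1
    exact ⟨_, ⟨_, h1, rfl⟩, by simp only [subtype_apply, coe_mul, coe_inv, μapp, SubmonoidClass.coe_pow]; group⟩
  have hcR : ⁅x0, y0⁆ ∈ R0 := by
    have hcF : ⁅x0, y0⁆ ∈ F := by
      rw [← QuotientGroup.eq_one_iff]
      show QuotientGroup.mk' F ⁅x0, y0⁆ = 1
      rw [map_commutatorElement, commutatorElement_eq_one_iff_mul_comm]
      exact mul_comm _ _
    refine ⟨hcF, mem_subgroupOf.2 (mem_centralizer_singleton_iff.2 ?_)⟩
    obtain ⟨f, hf, ef⟩ := hax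
    obtain ⟨g, hg, eg⟩ := hay
    have hcomm : ((⁅x0, y0⁆ : P) : G) = ⁅(x0 : G), (y0 : G)⁆ := map_commutatorElement P.subtype _ _
    have h1 : (a' : G) * ⁅(x0 : G), (y0 : G)⁆ * (a' : G)⁻¹ = ⁅(x0 : G), (y0 : G)⁆ := by
      have e3 : (a' : G) * ⁅(x0 : G), (y0 : G)⁆ * (a' : G)⁻¹ =
          ⁅(a' : G) * x0 * (a' : G)⁻¹, (a' : G) * y0 * (a' : G)⁻¹⁆ := by
        simp only [commutatorElement_def]; group
      rw [e3, ef, eg]
      exact commutator_shift _ (hFcen _ x0.2 f hf) (hFcen _ y0.2 f hf) (hFcen _ x0.2 g hg)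
        (hFcen _ y0.2 g hg) (hFcen g (map_subtype_le _ hg) f hf)
        (hFcen _ x0.2 _ ⟨_, hcF, hcomm⟩).symm
    rw [hcomm]
    conv_lhs => rw [← h1]
    group
  have hZR : Z.subgroupOf P ≤ R0 := fun z hz =>
    ⟨mem_sup_right hz, mem_subgroupOf.2 (mem_centralizer_singleton_iff.2 (hZc _ (mem_subgroupOf.1 hz) _).symm)⟩
  have hFfix : ∀ f ∈ F', (a' : G) * f * (a' : G)⁻¹ = f := by
    set K1 := zpowers y0 ⊔ R0 with hK1
    have hK1n : K1.Normal := by
      rw [← normalizer_eq_top_iff, eq_top_iff]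
      have hgen : zpowers x0 ⊔ (zpowers y0 ⊔ Z.subgroupOf P) = ⊤ := by
        apply CfsgLib.PGroup.eq_top_of_sup_frattini
        rw [eq_top_iff]
        intro q _
        obtain ⟨v, hv⟩ := hsurj (q : P ⧸ F)
        obtain ⟨v, rfl⟩ := Multiplicative.ofAdd.surjective v
        have e1 : v = (v 0).val • ![(1 : ZMod p), 0] + (v 1).val • ![(0 : ZMod p), 1] := by
          ext r; fin_cases r <;> simp
        rw [e1, ofAdd_add, ofAdd_nsmul, ofAdd_nsmul, map_mul, map_pow, map_pow, hx₀', hy₀',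
          ← QuotientGroup.mk_pow, ← QuotientGroup.mk_pow, ← QuotientGroup.mk_mul, QuotientGroup.eq,
          hFdef, mem_sup_of_normal_right] at hv
        obtain ⟨φ, hφ, z, hz, e2⟩ := hv
        have e3 : q = x0 ^ (v 0).val * y0 ^ (v 1).val * (φ * z) := by rw [e2]; group
        rw [e3]
        exact mul_mem (mem_sup_left (mul_mem (mem_sup_left (pow_mem (mem_zpowers _) _))
          (mem_sup_right (mem_sup_left (pow_mem (mem_zpowers _) _)))))
          (mul_mem (mem_sup_right hφ) (mem_sup_left (mem_sup_right (mem_sup_right hz))))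
      rw [← hgen, sup_le_iff, sup_le_iff, zpowers_le]
      refine ⟨?_, le_trans le_sup_left le_normalizer, (hZR.trans le_sup_right).trans le_normalizer⟩
      refine CfsgLib.Solvable.mem_normalizer_of_conj_mem fun k hk => ?_
      rw [hK1, mem_sup_of_normal_right] at hk
      obtain ⟨q, hq, r, hr, rfl⟩ := hk
      obtain ⟨m, rfl⟩ := mem_zpowers_iff.1 hq
      have e1 : x0 * (y0 ^ m * r) * x0⁻¹ = (x0 * y0 * x0⁻¹) ^ m * (x0 * r * x0⁻¹) := by
        rw [conj_zpow]; group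
      rw [e1]
      refine mul_mem (zpow_mem ?_ _) (mem_sup_right (hR0n.conj_mem r hr x0))
      rw [show x0 * y0 * x0⁻¹ = ⁅x0, y0⁆ * y0 by rw [commutatorElement_def]; group]
      exact mul_mem (mem_sup_right hcR) (mem_sup_left (mem_zpowers _))
    have htop : zpowers x0 ⊔ K1 = ⊤ := by
      apply CfsgLib.PGroup.eq_top_of_sup_frattini
      rw [eq_top_iff]
      intro q _
      obtain ⟨v, hv⟩ := hsurj (q : P ⧸ F)
      obtain ⟨v, rfl⟩ := Multiplicative.ofAdd.surjective v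
      have e1 : v = (v 0).val • ![(1 : ZMod p), 0] + (v 1).val • ![(0 : ZMod p), 1] := by
        ext r; fin_cases r <;> simp
      rw [e1, ofAdd_add, ofAdd_nsmul, ofAdd_nsmul, map_mul, map_pow, map_pow, hx₀', hy₀',
        ← QuotientGroup.mk_pow, ← QuotientGroup.mk_pow, ← QuotientGroup.mk_mul, QuotientGroup.eq,
        hFdef, mem_sup_of_normal_right] at hv
      obtain ⟨φ, hφ, z, hz, e2⟩ := hv
      have e3 : q = x0 ^ (v 0).val * y0 ^ (v 1).val * (φ * z) := by rw [e2]; group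
      rw [e3]
      exact mul_mem (mem_sup_left (mul_mem (mem_sup_left (pow_mem (mem_zpowers _) _))
        (mem_sup_right (mem_sup_left (pow_mem (mem_zpowers _) _)))))
        (mul_mem (mem_sup_right hφ) (mem_sup_left (mem_sup_right (mem_sup_right (hZR hz)))))
    rintro _ ⟨f, hf, rfl⟩
    have hf' : f ∈ zpowers x0 ⊔ K1 := htop ▸ mem_top f
    rw [mem_sup_of_normal_right] at hf'
    obtain ⟨q, hq, k, hk, rfl⟩ := hf'
    rw [hK1, mem_sup_of_normal_right] at hk
    obtain ⟨q', hq', r, hr, rfl⟩ := hk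
    obtain ⟨n1, rfl⟩ := mem_zpowers_iff.1 hq
    obtain ⟨n2, rfl⟩ := mem_zpowers_iff.1 hq'
    have hr1 : (r : P ⧸ F) = 1 := (QuotientGroup.eq_one_iff r).2 hr.1
    have h1 := (QuotientGroup.eq_one_iff _).2 hf
    rw [QuotientGroup.mk_mul, QuotientGroup.mk_mul, hr1, mul_one, QuotientGroup.mk_zpow,
      QuotientGroup.mk_zpow, ← hx₀', ← hy₀', ← map_zpow ι, ← map_zpow ι, ← map_mul ι, ← map_one ι,
      ← ofAdd_zsmul, ← ofAdd_zsmul, ← ofAdd_add, ← ofAdd_zero] at h1
    have h3 := Multiplicative.ofAdd.injective (hι h1)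
    have c0 := congrFun h3 0
    have c1 := congrFun h3 1
    simp [ZMod.intCast_zmod_eq_zero_iff_dvd] at c0 c1
    have z0 : x0 ^ n1 = 1 := orderOf_dvd_iff_zpow_eq_one.1
      ((Int.natCast_dvd_natCast.2 (orderOf_dvd_of_pow_eq_one (hpowone x₀'))).trans
        c0)
    have z1 : y0 ^ n2 = 1 := orderOf_dvd_iff_zpow_eq_one.1
      ((Int.natCast_dvd_natCast.2 (orderOf_dvd_of_pow_eq_one (hpowone y₀'))).trans
        c1)
    rw [z0, z1, one_mul, one_mul, subtype_apply]
    have h4 : (r : G) * a' = a' * r := mem_centralizer_singleton_iff.1 (mem_subgroupOf.1 hr.2)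
    rw [← h4, mul_inv_cancel_right]
  -- the corrected element
  set d : N := t * a' * t⁻¹ * a'⁻¹ with hd
  obtain ⟨f, hfF, hfax⟩ := hax
  have htfix : ∀ f ∈ F', (t : G) * f * (t : G)⁻¹ = f := fun f hf => by
    rw [← htF f hf, mul_inv_cancel_right]
  have htinvfix : ∀ f ∈ F', (t : G)⁻¹ * f * (t : G) = f := fun f hf => by
    conv_lhs => rw [← htfix f hf]
    group
  have hainvfix : ∀ f ∈ F', (a' : G)⁻¹ * f * (a' : G) = f := fun f hf => by
    conv_lhs => rw [← hFfix f hf]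
    group
  have hdfix : ∀ f ∈ F', (d : G) * f * (d : G)⁻¹ = f := fun f hf => by
    simp only [hd, coe_mul, coe_inv]
    calc (t : G) * a' * (t : G)⁻¹ * (a' : G)⁻¹ * f * ((t : G) * a' * (t : G)⁻¹ * (a' : G)⁻¹)⁻¹
        = (t : G) * ((a' : G) * ((t : G)⁻¹ * ((a' : G)⁻¹ * f * a') * t) * (a' : G)⁻¹) * (t : G)⁻¹ := by group
      _ = f := by rw [hainvfix f hf, htinvfix f hf, hFfix f hf, htfix f hf]
  have hdx : (d : G) * x0 * (d : G)⁻¹ = (x0 : G) * (f⁻¹ * f⁻¹) := by
    have hcx : (f : G) * x0 = x0 * f := hFcen _ x0.2 f hfF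
    have e1 : (a' : G)⁻¹ * x0 * a' = x0 * f⁻¹ := by
      calc (a' : G)⁻¹ * x0 * a' = (a' : G)⁻¹ * ((a' : G) * x0 * (a' : G)⁻¹ * f⁻¹) * a' := by
            rw [hfax, mul_inv_cancel_right]
        _ = x0 * ((a' : G)⁻¹ * f⁻¹ * a') := by group
        _ = _ := by rw [hainvfix _ (inv_mem hfF)]
    have e2 : (t : G)⁻¹ * x0 * t = (x0 : G)⁻¹ := by
      have h1 : (t : G) * (x0 : G)⁻¹ * (t : G)⁻¹ = x0 := by rw [← conj_inv, htwinv, inv_inv]
      conv_lhs => rw [← h1]
      group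
    have e3 : (a' : G) * (x0 : G)⁻¹ * (a' : G)⁻¹ = f⁻¹ * (x0 : G)⁻¹ := by rw [← conj_inv, hfax, _root_.mul_inv_rev]
    have e4 : (t : G) * (x0 : G)⁻¹ * (t : G)⁻¹ = x0 := by rw [← conj_inv, htwinv, inv_inv]
    simp only [hd, coe_mul, coe_inv]
    calc (t : G) * a' * (t : G)⁻¹ * (a' : G)⁻¹ * x0 * ((t : G) * a' * (t : G)⁻¹ * (a' : G)⁻¹)⁻¹
        = (t : G) * ((a' : G) * ((t : G)⁻¹ * ((a' : G)⁻¹ * x0 * a') * t) * (a' : G)⁻¹) * (t : G)⁻¹ := by group
      _ = (t : G) * ((a' : G) * (((t : G)⁻¹ * x0 * t) * ((t : G)⁻¹ * f⁻¹ * t)) * (a' : G)⁻¹) * (t : G)⁻¹ := by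
          rw [e1]; group
      _ = (t : G) * (((a' : G) * (x0 : G)⁻¹ * (a' : G)⁻¹) * ((a' : G) * f⁻¹ * (a' : G)⁻¹)) * (t : G)⁻¹ := by
          rw [e2, htinvfix _ (inv_mem hfF)]; group
      _ = ((t : G) * f⁻¹ * (t : G)⁻¹) * ((t : G) * (x0 : G)⁻¹ * (t : G)⁻¹) * ((t : G) * f⁻¹ * (t : G)⁻¹) := by
          rw [e3, hFfix _ (inv_mem hfF)]; group
      _ = f⁻¹ * x0 * f⁻¹ := by rw [htfix _ (inv_mem hfF), e4]
      _ = x0 * (f⁻¹ * f⁻¹) := by rw [(Commute.inv_left hcx).eq, mul_assoc]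
  set i2 := ((2 : ZMod p)⁻¹).val with hi2
  set a'' : N := d ^ i2 * a' with ha''
  have hfp : f ^ p = 1 := by
    have h1 : ((x0 : G) * f) ^ p = 1 := by
      rw [← hfax, conj_pow, ← SubmonoidClass.coe_pow, hpowone, coe_one, mul_one, mul_inv_cancel]
    rwa [(show Commute (x0 : G) f from (hFcen _ x0.2 f hfF).symm).mul_pow, ← SubmonoidClass.coe_pow, hpowone,
      coe_one, one_mul] at h1
  have hdpow : ∀ m : ℕ, (d : G) ^ m * x0 * ((d : G) ^ m)⁻¹ = x0 * (f⁻¹ * f⁻¹) ^ m := by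
    intro m
    induction m with
    | zero => simp
    | succ m ihm =>
      calc (d : G) ^ (m + 1) * x0 * ((d : G) ^ (m + 1))⁻¹ = d * ((d : G) ^ m * x0 * ((d : G) ^ m)⁻¹) * (d : G)⁻¹ := by
            rw [pow_succ']; group
        _ = d * x0 * (d : G)⁻¹ * ((d : G) * (f⁻¹ * f⁻¹) * (d : G)⁻¹) ^ m := by rw [ihm, conj_pow]; group
        _ = _ := by rw [hdx, hdfix _ (mul_mem (inv_mem hfF) (inv_mem hfF)), pow_succ', mul_assoc]
  have hdmfix : ∀ (m : ℕ) (g : G), g ∈ F' → (d : G) ^ m * g * ((d : G) ^ m)⁻¹ = g := by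
    intro m g hg
    induction m with
    | zero => simp
    | succ m ihm =>
      calc (d : G) ^ (m + 1) * g * ((d : G) ^ (m + 1))⁻¹ = d * ((d : G) ^ m * g * ((d : G) ^ m)⁻¹) * (d : G)⁻¹ := by
            rw [pow_succ']; group
        _ = g := by rw [ihm, hdfix g hg]
  have ha''F : ∀ g ∈ F', (a'' : G) * g * (a'' : G)⁻¹ = g := fun g hg => by
    simp only [ha'', coe_mul, SubmonoidClass.coe_pow]
    calc (d : G) ^ i2 * a' * g * ((d : G) ^ i2 * a')⁻¹ = (d : G) ^ i2 * ((a' : G) * g * (a' : G)⁻¹) * ((d : G) ^ i2)⁻¹ := by group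
      _ = g := by rw [hFfix g hg, hdmfix i2 g hg]
  have ha''x : (a'' : G) * x0 * (a'' : G)⁻¹ = x0 := by
    simp only [ha'', coe_mul, SubmonoidClass.coe_pow]
    have hff : (f⁻¹ * f⁻¹) ^ i2 * f = 1 := by
      rw [← _root_.mul_inv_rev, ← pow_two, inv_pow, ← pow_mul, inv_mul_eq_one, ← pow_mod_orderOf]
      rcases (Nat.dvd_prime hp.out).1 (orderOf_dvd_of_pow_eq_one hfp) with ho | ho
      · rw [orderOf_eq_one_iff.1 ho, one_pow]
      · rw [ho]
        have : ((2 * i2 : ℕ) : ZMod p) = ((1 : ℕ) : ZMod p) := by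
          push_cast
          rw [hi2, ZMod.natCast_rightInverse, mul_inv_cancel₀ h2]
        rw [ZMod.natCast_eq_natCast_iff'] at this
        rw [this, Nat.one_mod_eq_one.2 hp.out.one_lt.ne', pow_one]
    calc (d : G) ^ i2 * a' * x0 * ((d : G) ^ i2 * a')⁻¹
        = (d : G) ^ i2 * ((a' : G) * x0 * (a' : G)⁻¹) * ((d : G) ^ i2)⁻¹ := by group
      _ = ((d : G) ^ i2 * x0 * ((d : G) ^ i2)⁻¹) * ((d : G) ^ i2 * f * ((d : G) ^ i2)⁻¹) := by rw [hfax]; group
      _ = x0 := by rw [hdpow, hdmfix i2 f hfF, mul_assoc, hff, mul_one]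
  have hA'' : Act a'' !![1, j; 0, 1] := by
    have hinvA : (!![1, j; 0, 1] : Matrix (Fin 2) (Fin 2) (ZMod p)) * !![1, -j; 0, 1] = 1 := by
      simp [Matrix.one_fin_two]
    have hdA : Act d 1 := by
      have := act_mul (act_mul (act_mul hT hA) (act_inv hT (by simp : (-1 : Matrix (Fin 2) (Fin 2) (ZMod p)) * -1 = 1))) (act_inv hA hinvA)
      convert this using 1
      rw [neg_one_mul, neg_mul_neg, mul_one, hinvA]
    have := act_mul (act_pow hdA i2) hA
    rwa [one_pow, one_mul] at this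
  have hquad : IsQuad P (a'' : G) := by
    intro q hq
    obtain ⟨v, hv⟩ := hsurj ((⟨q, hq⟩ : P) : P ⧸ F)
    obtain ⟨v, rfl⟩ := Multiplicative.ofAdd.surjective v
    set c : P := ⟨q, hq⟩ * (normalizerMonoidHom P a'' ⟨q, hq⟩)⁻¹ with hc
    have hcG : ⁅q, (a'' : G)⁆ = (c : G) := by
      simp only [hc, coe_mul, coe_inv, μapp, commutatorElement_def]; group
    obtain ⟨k, hk⟩ : ∃ k : ℕ, (x0 ^ k)⁻¹ * c ∈ F := by
      refine ⟨(-(j * v 1)).val, QuotientGroup.eq.1 ?_⟩
      rw [hc, QuotientGroup.mk_mul, QuotientGroup.mk_inv, ← ψapp, ← hv, hA'', QuotientGroup.mk_pow, ← hx₀',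
        ← map_pow, ← ofAdd_nsmul, ← map_inv, ← ofAdd_neg, ← map_mul, ← ofAdd_add]
      congr 2
      ext r; fin_cases r <;> simp [dotProduct, Fin.sum_univ_two]
    have e1 : (c : G) = (x0 : G) ^ k * (((x0 ^ k)⁻¹ * c : P) : G) := by
      simp only [coe_mul, coe_inv, SubmonoidClass.coe_pow]; group
    rw [hcG, commutatorElement_eq_one_iff_mul_comm]
    have h1 : (a'' : G) * c * (a'' : G)⁻¹ = c := by
      rw [e1]
      calc (a'' : G) * ((x0 : G) ^ k * (((x0 ^ k)⁻¹ * c : P) : G)) * (a'' : G)⁻¹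
          = ((a'' : G) * x0 * (a'' : G)⁻¹) ^ k *
              ((a'' : G) * (((x0 ^ k)⁻¹ * c : P) : G) * (a'' : G)⁻¹) := by rw [conj_pow]; group
        _ = _ := by rw [ha''x, ha''F (((x0 ^ k)⁻¹ * c : P) : G) ⟨_, hk, rfl⟩]
    conv_lhs => rw [← h1]
    group
  obtain ⟨K, hKN, hNK, haK, hK⟩ := hst P hP (a'' : G) a''.2 hquad
  set b'' : N := w * a'' * w⁻¹ with hb''
  have hbK : (b'' : G) ∈ K := (mem_normalizer_iff.1 (hNK w.2) _).1 haK
  have hB'' : Act b'' !![1, 0; -j, 1] := by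
    have h3 : (!![0, 1; -1, 0] : Matrix (Fin 2) (Fin 2) (ZMod p)) * !![0, -1; 1, 0] = 1 := by
      simp [Matrix.one_fin_two]
    have := act_mul (act_mul hW hA'') (act_inv hW h3)
    convert this using 1
    simp
  set t1 : N := (a'' ^ i * b'' ^ i * a'' ^ i) ^ 2 with ht1
  have hT1 : Act t1 (-1) := by
    have h3 := act_mul (act_mul (act_pow hA'' i) (act_pow hB'' i)) (act_pow hA'' i)
    rw [pu, pl, hij, mul_neg, hij] at h3
    have := act_pow h3 2
    convert this using 1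
    rw [pow_two]
    ext r s; fin_cases r <;> fin_cases s <;> simp
  have ht1K : (t1 : G) ∈ K := by
    simp only [ht1, SubmonoidClass.coe_pow, coe_mul]
    exact pow_mem (mul_mem (mul_mem (pow_mem haK _) (pow_mem hbK _)) (pow_mem haK _)) _
  obtain ⟨n1, hn1⟩ := hK _ ht1K
  have h5 := act_pow hT1 (p ^ n1) ![(1 : ZMod p), 0]
  rw [((hp.out.odd_of_ne_two hp2).pow).neg_one_pow, hx₀', ψapp,
    show normalizerMonoidHom P (t1 ^ p ^ n1) x0 = x0 from Subtype.ext (by
      rw [μapp, SubmonoidClass.coe_pow, ← mem_centralizer_iff.1 hn1 x0 x0.2, mul_inv_cancel_right]),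
    ← hx₀'] at h5
  have h6 := congrFun (Multiplicative.ofAdd.injective (hι h5)) 0
  simp [Matrix.neg_mulVec] at h6
  exact h2 (by linear_combination h6)

open Subgroup in
/-- Stability passes to quotients by central `p`-subgroups. -/
theorem StableAll.quotient_central (hp2 : p ≠ 2) (hst : StableAll p G) (Z : Subgroup G) [Z.Normal]
    (hZ : IsPGroup p Z) (hZc : ∀ z ∈ Z, ∀ g : G, g * z = z * g) : StableAll p (G ⧸ Z) := by
  intro P hP a ha hq
  set π := QuotientGroup.mk' Z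
  have hπ : Function.Surjective π := QuotientGroup.mk'_surjective Z
  set P' := P.comap π with hP'
  have hP'p : IsPGroup p P' := hP.comap_of_ker_isPGroup π (by rwa [QuotientGroup.ker_mk'])
  have hnorm : ∀ g : G, π g ∈ normalizer (P : Set (G ⧸ Z)) → g ∈ normalizer (P' : Set G) := by
    intro g hg
    refine CfsgLib.Solvable.mem_normalizer_of_conj_mem fun x hx => ?_
    rw [hP', mem_comap, map_mul, map_mul, map_inv]
    exact (mem_normalizer_iff.1 hg _).1 hx
  refine inCoreAct_of_pairs hP le_rfl ha fun g hg h hh => ?_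
  obtain ⟨a', rfl⟩ := hπ a
  obtain ⟨g', rfl⟩ := hπ g
  rw [show ({π a', π g' * π a' * (π g')⁻¹} : Set (G ⧸ Z)) = π '' {a', g' * a' * g'⁻¹} from by
    simp [Set.image_pair], ← MonoidHom.map_closure] at hh
  obtain ⟨h', hh', rfl⟩ := hh
  have qmod : ∀ c : G, IsQuad P (π c) → ∀ x ∈ P', ⁅⁅x, c⁆, c⁆ ∈ Z := fun c hc x hx => by
    rw [← QuotientGroup.eq_one_iff]
    show π ⁅⁅x, c⁆, c⁆ = 1
    rw [map_commutatorElement, map_commutatorElement]
    exact hc _ hx
  have hq2 : IsQuad P (π (g' * a' * g'⁻¹)) := by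
    rw [map_mul, map_mul, map_inv]; exact isQuad_conj hg hq
  obtain ⟨k, hk⟩ := exists_pow_mem_centralizer_of_central_pair hp2 hst Z hZc _ P' le_rfl hP'p a'
    (hnorm a' ha) (g' * a' * g'⁻¹) (hnorm _ (by rw [map_mul, map_mul, map_inv]; exact mul_mem (mul_mem hg ha) (inv_mem hg)))
    (qmod _ hq) (qmod _ hq2) h' hh'
  refine ⟨k, mem_centralizer_iff.2 fun x hx => ?_⟩
  obtain ⟨x', rfl⟩ := hπ x
  rw [← map_pow, ← map_mul, ← map_mul, mem_centralizer_iff.1 hk x' hx]

end CfsgLib.PStab
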