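import Cfsg.Agent.Lib.PStab.TameSeries
import Cfsg.Agent.Lib.Transfer.Basic
import Cfsg.Agent.Lib.Transfer.Fusion
import Cfsg.Agent.Lib.Transfer.Frobenius
import Cfsg.Agent.Lib.Transfer.PSolvable

/-!
The reduction of a normal `p`-complement criterion to the case `G = O_{p,p'}(G)P` with `P` maximal.
-/

set_option autoImplicit false

namespace CfsgLib.PStab

open Cfsg Subgroup
open scoped commutatorElement

variable {G : Type*} [Group G] [Finite G] {p : ℕ} [hp : Fact p.Prime]

/-- `P ⊓ N` is a Sylow subgroup of `N`. -/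
def SylowIn (p : ℕ) (P N : Subgroup G) : Prop :=
  ∃ T : Sylow p N, (T : Subgroup N).map N.subtype = P ⊓ N

theorem sylowIn_of_le (P : Sylow p G) {N : Subgroup G} (h : (P : Subgroup G) ≤ N) :
    SylowIn p (P : Subgroup G) N :=
  ⟨P.subtype h, by rw [Sylow.coe_subtype, Subgroup.subgroupOf_map_subtype]⟩

theorem npc_of_le {M N : Subgroup G} (h : M ≤ N) (hN : HasNormalPComplement p N) :
    HasNormalPComplement p M :=
  CfsgLib.Transfer.hasNormalPComplement_of_injective (Subgroup.inclusion h)
    (Subgroup.inclusion_injective h) hN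

theorem npc_of_le_map {H : Type*} [Group H] [Finite H] (f : G →* H) {M : Subgroup G} {X : Subgroup H}
    (hX : X ≤ M.map f) (hM : HasNormalPComplement p M) : HasNormalPComplement p X :=
  npc_of_le hX
    (CfsgLib.Transfer.hasNormalPComplement_of_surjective (f.subgroupMap M)
      (f.subgroupMap_surjective M) hM)

theorem npc_top_iff {M : Subgroup G} (h : M = ⊤) :
    HasNormalPComplement p M ↔ HasNormalPComplement p G := by
  subst h
  exact CfsgLib.Transfer.hasNormalPComplement_congr Subgroup.topEquiv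

theorem card_le_pow_factorization {M K : Subgroup G} (hK : IsPGroup p K) (h : K ≤ M) :
    Nat.card K ≤ p ^ (Nat.card M).factorization p := by
  obtain ⟨T, hT⟩ := (hK.of_equiv (Subgroup.subgroupOfEquivOfLe h).symm).exists_le_sylow
  rw [← T.card_eq_multiplicity, ← Nat.card_congr (Subgroup.subgroupOfEquivOfLe h).toEquiv]
  exact Subgroup.card_le_of_le hT

theorem map_conj_normalizer (g : G) (H : Subgroup G) :
    (Subgroup.normalizer (H : Set G)).map (MulAut.conj g).toMonoidHom =
      Subgroup.normalizer ((H.map (MulAut.conj g).toMonoidHom : Subgroup G) : Set G) :=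
  Subgroup.map_equiv_normalizer_eq H (MulAut.conj g)

/-- Frobenius: without a normal complement some non-trivial `p`-subgroup has a bad normaliser. -/
theorem exists_bad (hG : ¬ HasNormalPComplement p G) :
    ∃ Q : Subgroup G, IsPGroup p Q ∧ Q ≠ ⊥ ∧
      ¬ HasNormalPComplement p (Subgroup.normalizer (Q : Set G)) := by
  by_contra hno
  push Not at hno
  refine hG (CfsgLib.Transfer.hasNormalPComplement_of_frobeniusCond fun Q hQ g hg hco => ?_)
  by_cases hQ0 : Q = ⊥
  · subst hQ0
    exact Subgroup.mem_centralizer_iff.2 fun x hx => by rw [Subgroup.mem_bot.1 hx, one_mul, mul_one]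
  set N := Subgroup.normalizer (Q : Set G) with hN
  have h := CfsgLib.Transfer.mem_centralizer_of_hasNormalPComplement (hno Q hQ hQ0)
    (Q := Q.subgroupOf N) (hQ.of_equiv (Subgroup.subgroupOfEquivOfLe Subgroup.le_normalizer).symm)
    (g := ⟨g, hg⟩) ?_ (by rwa [Subgroup.orderOf_mk])
  · exact Subgroup.mem_centralizer_iff.2 fun x hx => congrArg Subtype.val
      (Subgroup.mem_centralizer_iff.1 h ⟨x, Subgroup.le_normalizer hx⟩ hx)
  · exact Subgroup.mem_normalizer_iff.2 fun x => Subgroup.mem_normalizer_iff.1 hg (x : G)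

/-- A group without normal complement, all of whose smaller cases are settled, has a bad normal
`p`-subgroup. -/
theorem reduce_pCore (P : Sylow p G) (W : Subgroup G → Subgroup G)
    (hWle : ∀ P1 ≤ (P : Subgroup G), W P1 ≤ P1)
    (hWne : ∀ P1 ≤ (P : Subgroup G),
      (P : Subgroup G) ⊓ Subgroup.centralizer ((P : Subgroup G) : Set G) ≤ P1 → P1 ≠ ⊥ → W P1 ≠ ⊥)
    (hWn : ∀ P1 ≤ (P : Subgroup G), (P : Subgroup G) ⊓ Subgroup.normalizer (P1 : Set G) ≤
      Subgroup.normalizer (W P1 : Set G))
    (hW : HasNormalPComplement p (Subgroup.normalizer (W (P : Subgroup G) : Set G)))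
    (hind : ∀ N : Subgroup G, N ≠ ⊤ → SylowIn p (P : Subgroup G) N →
      (P : Subgroup G) ⊓ Subgroup.centralizer ((P : Subgroup G) : Set G) ≤ N →
      HasNormalPComplement p (Subgroup.normalizer (W ((P : Subgroup G) ⊓ N) : Set G)) →
      HasNormalPComplement p N)
    (hG : ¬ HasNormalPComplement p G) :
    pCore p G ≠ ⊥ ∧
      (∀ M : Subgroup G, M ≠ ⊤ → (P : Subgroup G) ≤ M → HasNormalPComplement p M) ∧
      ∀ K : Subgroup G, IsPGroup p K → pCore p G < K →
        (P : Subgroup G) ≤ Subgroup.normalizer (K : Set G) →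
        HasNormalPComplement p (Subgroup.normalizer (K : Set G)) := by
  set bad := {Q : Subgroup G | IsPGroup p Q ∧ Q ≠ ⊥ ∧
    ¬ HasNormalPComplement p (Subgroup.normalizer (Q : Set G))} with hbad
  set f : Subgroup G → ℕ := fun Q =>
    (Nat.card (Subgroup.normalizer (Q : Set G))).factorization p * (Nat.card G + 1) + Nat.card Q with hf
  obtain ⟨H₀, ⟨hH₀p, hH₀ne, hH₀⟩, hmax⟩ :=
    (Set.toFinite bad).exists_maximalFor f bad (exists_bad hG)
  have hmax' : ∀ Q ∈ bad, f Q ≤ f H₀ := fun Q hQ => le_of_not_gt fun hlt =>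
    absurd (hmax hQ hlt.le) (not_le.2 hlt)
  -- move a Sylow subgroup of the normaliser into `P`
  obtain ⟨T⟩ : Nonempty (Sylow p (Subgroup.normalizer (H₀ : Set G))) := inferInstance
  obtain ⟨g, hg⟩ := CfsgLib.Transfer.exists_conj_mem_sylow P
    (T.2.map (Subgroup.normalizer (H₀ : Set G)).subtype)
  set c := (MulAut.conj g).toMonoidHom with hc
  set H := H₀.map c with hH
  have hN := map_conj_normalizer g H₀
  rw [← hc, ← hH] at hN
  set N := Subgroup.normalizer (H : Set G) with hNdef
  have hcinj : Function.Injective c := (MulAut.conj g).injective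
  have hcardN : Nat.card N = Nat.card (Subgroup.normalizer (H₀ : Set G)) := by
    rw [← hN, Subgroup.card_map_of_injective hcinj]
  have hHp : IsPGroup p H := hH₀p.map _
  have hHne : H ≠ ⊥ := fun e => hH₀ne ((Subgroup.map_eq_bot_iff_of_injective _ hcinj).1 e)
  have hNbad : ¬ HasNormalPComplement p N := fun h => hH₀
    ((CfsgLib.Transfer.hasNormalPComplement_congr
      (Subgroup.equivMapOfInjective _ c hcinj)).2 (hN ▸ h))
  have hfH : f H = f H₀ := by
    show (Nat.card N).factorization p * (Nat.card G + 1) + Nat.card H = _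
    rw [hcardN, hH, Subgroup.card_map_of_injective hcinj]
  -- the Sylow subgroup of `N`
  obtain ⟨T', hT'⟩ := ((P.2.to_le (inf_le_left : (P : Subgroup G) ⊓ N ≤ P)).of_equiv
    (Subgroup.subgroupOfEquivOfLe (inf_le_right : (P : Subgroup G) ⊓ N ≤ N)).symm).exists_le_sylow
  have hcT : ((T : Subgroup (Subgroup.normalizer (H₀ : Set G))).map
      (Subgroup.normalizer (H₀ : Set G)).subtype).map c ≤ (P : Subgroup G) ⊓ N := by
    rintro _ ⟨x, hx, rfl⟩
    exact ⟨hg x hx, hN.le ⟨x, Subgroup.map_subtype_le _ hx, rfl⟩⟩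
  have hT'eq : (T' : Subgroup N).map N.subtype = (P : Subgroup G) ⊓ N := by
    refine (Subgroup.eq_of_le_of_card_ge
      (fun x hx => ⟨⟨x, hx.2⟩, hT' hx, rfl⟩ : (P : Subgroup G) ⊓ N ≤ (T' : Subgroup N).map N.subtype) ?_).symm
    refine le_of_eq_of_le ?_ (Subgroup.card_le_of_le hcT)
    rw [Subgroup.card_map_of_injective hcinj, Subgroup.card_map_of_injective N.subtype_injective,
      Subgroup.card_map_of_injective (Subgroup.normalizer (H₀ : Set G)).subtype_injective,
      T'.card_eq_multiplicity, T.card_eq_multiplicity, hcardN]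
  have hSN : SylowIn p (P : Subgroup G) N := ⟨T', hT'eq⟩
  have hHP : H ≤ (P : Subgroup G) := by
    intro x hx
    have h1 : (⟨x, Subgroup.le_normalizer hx⟩ : N) ∈ (T' : Subgroup N) :=
      CfsgLib.Cores.pCore_le_sylow T' (CfsgLib.Cores.le_pCore (N := H.subgroupOf N)
        (hn := Subgroup.normal_in_normalizer)
        (hHp.of_equiv (Subgroup.subgroupOfEquivOfLe Subgroup.le_normalizer).symm) hx)
    exact (hT'eq.le ⟨_, h1, rfl⟩).1
  have hZN : (P : Subgroup G) ⊓ Subgroup.centralizer ((P : Subgroup G) : Set G) ≤ N := fun z hz =>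
    CfsgLib.Solvable.mem_normalizer_of_conj_mem fun x hx => by
      rw [← Subgroup.mem_centralizer_iff.1 hz.2 x (hHP hx), mul_inv_cancel_right]; exact hx
  by_cases hNtop : N = ⊤
  · have hHn : H.Normal := Subgroup.normalizer_eq_top_iff.1 hNtop
    have hle : H ≤ pCore p G := CfsgLib.Cores.le_pCore hHp
    refine ⟨fun e => hHne (le_bot_iff.1 (hle.trans e.le)), fun M hM hPM => ?_, fun K hKp hK _ => ?_⟩
    · refine hind M hM (sylowIn_of_le P hPM) (inf_le_left.trans hPM) ?_
      rw [inf_eq_left.2 hPM]; exact hW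
    by_contra hKbad
    have hKne : K ≠ ⊥ := fun e => not_lt_bot (e ▸ hK)
    have h1 := hmax' K ⟨hKp, hKne, hKbad⟩
    have htop : Subgroup.normalizer (K : Set G) ≠ ⊤ := fun e => hK.not_ge
      (CfsgLib.Cores.le_pCore (hn := Subgroup.normalizer_eq_top_iff.1 e) hKp)
    have h2 : (Nat.card (Subgroup.normalizer (K : Set G))).factorization p =
        (Nat.card G).factorization p := by
      refine le_antisymm ?_ ?_
      · exact (Nat.factorization_le_iff_dvd Nat.card_pos.ne' Nat.card_pos.ne').2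
          (Subgroup.card_subgroup_dvd_card _) p
      · rw [← Nat.pow_le_pow_iff_right hp.out.one_lt, ← P.card_eq_multiplicity]
        exact card_le_pow_factorization P.2 (by assumption)
    rw [← hfH] at h1
    simp only [hf, ← hNdef, hNtop, Subgroup.card_top, h2, add_le_add_iff_left] at h1
    exact hK.ne (Subgroup.eq_of_le_of_card_ge hK.le (h1.trans (Subgroup.card_le_of_le hle)))
  exfalso
  set P1 := (P : Subgroup G) ⊓ N with hP1
  have hfail : ¬ HasNormalPComplement p (Subgroup.normalizer (W P1 : Set G)) := fun h =>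
    hNbad (hind N hNtop hSN hZN h)
  rcases (inf_le_left : P1 ≤ (P : Subgroup G)).lt_or_eq with hlt | heq
  swap
  · exact hfail ((congrArg W heq).symm ▸ hW)
  have : Group.IsNilpotent (P : Subgroup G) := P.2.isNilpotent
  obtain ⟨x, hx, hx1⟩ := SetLike.exists_of_lt (normalizerCondition_of_isNilpotent
    (P1.subgroupOf (P : Subgroup G))
    (lt_top_iff_ne_top.2 fun e => hlt.not_ge (Subgroup.subgroupOf_eq_top.1 e)))
  have hxN : (x : G) ∈ (P : Subgroup G) ⊓ Subgroup.normalizer (P1 : Set G) := by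
    refine ⟨x.2, CfsgLib.Solvable.mem_normalizer_of_conj_mem fun y hy => ?_⟩
    exact Subgroup.mem_subgroupOf.1 ((Subgroup.mem_normalizer_iff.1 hx ⟨y, hlt.le hy⟩).1
      (Subgroup.mem_subgroupOf.2 hy))
  have hbig : P1 < (P : Subgroup G) ⊓ Subgroup.normalizer (P1 : Set G) :=
    lt_of_le_not_ge (le_inf inf_le_left Subgroup.le_normalizer) fun hge => hx1 (hge hxN)
  have hcard : p ^ (Nat.card N).factorization p <
      p ^ (Nat.card (Subgroup.normalizer (W P1 : Set G))).factorization p := by
    refine lt_of_lt_of_le ?_ (card_le_pow_factorization (P.2.to_le inf_le_left) (hWn P1 inf_le_left))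
    rw [← T'.card_eq_multiplicity, ← Subgroup.card_map_of_injective N.subtype_injective, hT'eq]
    refine lt_of_le_of_ne (Subgroup.card_le_of_le hbig.le) fun e => hbig.ne ?_
    exact Subgroup.eq_of_le_of_card_ge hbig.le e.ge
  have hfac := (Nat.pow_lt_pow_iff_right hp.out.one_lt).1 hcard
  have hW1 : W P1 ∈ bad := ⟨P.2.to_le ((hWle P1 inf_le_left).trans inf_le_left),
    hWne P1 inf_le_left (le_inf inf_le_left hZN)
      (fun e => hHne (le_bot_iff.1 ((le_inf hHP Subgroup.le_normalizer).trans e.le))), hfail⟩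
  have h1 := hmax' _ hW1
  rw [← hfH] at h1
  simp only [hf, ← hNdef] at h1
  have h2 : Nat.card H ≤ Nat.card G := Subgroup.card_le_card_group H
  have h3 := Nat.mul_le_mul_right (Nat.card G + 1) hfac
  rw [Nat.succ_mul] at h3
  omega

/-- A normal complement of a quotient by a `p'`-group gives one of the group. -/
theorem npc_of_quotient {N : Subgroup G} [N.Normal] (hN : (Nat.card N).Coprime p)
    (h : HasNormalPComplement p (G ⧸ N)) : HasNormalPComplement p G := by
  obtain ⟨K, hK, hc, k, hk⟩ := CfsgLib.Transfer.hasNormalPComplement_iff.1 h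
  refine CfsgLib.Transfer.hasNormalPComplement_of (N := K.comap (QuotientGroup.mk' N))
    (hK.comap _) ?_ (k := k) (by rw [Subgroup.index_comap_of_surjective _ (QuotientGroup.mk'_surjective N), hk])
  have hdvd : Nat.card (K.comap (QuotientGroup.mk' N)) = Nat.card N * Nat.card K := by
    have h1 := Subgroup.card_mul_index (K.comap (QuotientGroup.mk' N))
    have h2 := Subgroup.card_mul_index K
    have h3 := Subgroup.card_eq_card_quotient_mul_card_subgroup N
    rw [Subgroup.index_comap_of_surjective _ (QuotientGroup.mk'_surjective N)] at h1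
    have hpos : 0 < K.index := Nat.pos_of_ne_zero Subgroup.index_ne_zero_of_finite
    refine Nat.eq_of_mul_eq_mul_right hpos ?_
    rw [h1, h3, ← h2]; ring
  rw [hdvd]
  exact hN.mul_left hc

/-- Normalisers of `p`-subgroups in a quotient by a `p'`-group come from normalisers. -/
theorem normalizer_map_le {N : Subgroup G} [N.Normal] (hN : (Nat.card N).Coprime p) {W : Subgroup G}
    (hW : IsPGroup p W) :
    Subgroup.normalizer ((W.map (QuotientGroup.mk' N) : Subgroup (G ⧸ N)) : Set (G ⧸ N)) ≤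
      (Subgroup.normalizer (W : Set G)).map (QuotientGroup.mk' N) := by
  intro q hq
  obtain ⟨g, rfl⟩ := QuotientGroup.mk'_surjective N q
  set M := N ⊔ W with hM
  have hWM : W ≤ M := le_sup_right
  obtain ⟨k, hk⟩ := IsPGroup.iff_card.1 hW
  have hidx : ¬ p ∣ (W.subgroupOf M).index := by
    refine CfsgLib.Transfer.not_dvd_of_coprime (Nat.Coprime.coprime_dvd_left ?_ hN)
    have h1 := Subgroup.card_mul_index (W.subgroupOf M)
    rw [Nat.card_congr (Subgroup.subgroupOfEquivOfLe hWM).toEquiv] at h1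
    exact Nat.dvd_of_mul_dvd_mul_left Nat.card_pos
      ((dvd_of_eq h1).trans ((CfsgLib.Cores.card_sup_dvd_mul N W).trans (dvd_of_eq (mul_comm _ _))))
  let S : Sylow p M := IsPGroup.toSylow (hW.of_equiv (Subgroup.subgroupOfEquivOfLe hWM).symm) hidx
  have hconjM : ∀ w ∈ W, g * w * g⁻¹ ∈ M := by
    intro w hw
    obtain ⟨w', hw', e⟩ := (Subgroup.mem_normalizer_iff.1 hq (QuotientGroup.mk' N w)).1 ⟨w, hw, rfl⟩
    have h2 : w'⁻¹ * (g * w * g⁻¹) ∈ N := QuotientGroup.eq.1 (by simpa using e)
    have := mul_mem (Subgroup.mem_sup_right hw' : w' ∈ M) (Subgroup.mem_sup_left h2 : _ ∈ M)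
    rwa [mul_inv_cancel_left] at this
  obtain ⟨m, hm⟩ := CfsgLib.Transfer.exists_conj_mem_sylow S
    (S := (W.map (MulAut.conj g).toMonoidHom).subgroupOf M)
    ((hW.map _).comap_of_injective M.subtype M.subtype_injective)
  have hmg : (m : G) * g ∈ Subgroup.normalizer (W : Set G) :=
    CfsgLib.Solvable.mem_normalizer_of_conj_mem fun w hw => by
      have : ((m * ⟨g * w * g⁻¹, hconjM w hw⟩ * m⁻¹ : M) : G) ∈ W :=
        hm _ (Subgroup.mem_subgroupOf.2 ⟨w, hw, rfl⟩)
      simpa [mul_assoc] using this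
  obtain ⟨n, hn, w, hw, e⟩ := CfsgLib.Solvable.exists_mul_of_mem_sup
    (by rw [Subgroup.normalizer_eq_top N]; exact le_top) m.2
  refine ⟨w⁻¹ * (m * g), mul_mem (inv_mem (Subgroup.le_normalizer hw)) hmg, ?_⟩
  have : QuotientGroup.mk' N n = 1 := (QuotientGroup.eq_one_iff n).2 hn
  rw [map_mul, map_mul, e, map_mul, this, one_mul, map_inv, inv_mul_cancel_left]

/-- The final configuration. -/
theorem final_structure (hp2 : p ≠ 2) (P : Sylow p G) (hG : ¬ HasNormalPComplement p G)
    (hO : pPrimeCore p G = ⊥) (hQ : HasNormalPComplement p (G ⧸ pCore p G))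
    (hprop : ∀ M : Subgroup G, M ≠ ⊤ → (P : Subgroup G) ≤ M → HasNormalPComplement p M) :
    Subgroup.centralizer (pCore p G : Set G) ≤ pCore p G ∧
    StableAll p G ∧
    (∀ M : Subgroup G, (P : Subgroup G) ≤ M → M ≠ ⊤ → M = P) ∧
    ∃ K : Subgroup G, K.Normal ∧ pCore p G ≤ K ∧ ((pCore p G).relIndex K).Coprime p ∧
      K ⊔ (P : Subgroup G) = ⊤ := by
  set H := pCore p G with hH
  set π := QuotientGroup.mk' H
  have hπ : Function.Surjective π := QuotientGroup.mk'_surjective H
  obtain ⟨Kb, hKbn, hKc, k, hk⟩ := CfsgLib.Transfer.hasNormalPComplement_iff.1 hQ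
  set K := Kb.comap π with hKdef
  have hKn : K.Normal := hKbn.comap π
  have hHK : H ≤ K := by
    intro x hx
    show π x ∈ Kb
    rw [show π x = 1 from (QuotientGroup.eq_one_iff x).2 hx]; exact one_mem _
  have hidx : K.index = p ^ k := by rw [hKdef, Subgroup.index_comap_of_surjective _ hπ, hk]
  have hrel : (H.relIndex K) = Nat.card Kb := by
    have h1 := Subgroup.relIndex_mul_index hHK
    have h2 := Subgroup.card_mul_index Kb
    rw [hidx] at h1
    rw [hk] at h2
    have h4 : H.index = Nat.card (G ⧸ H) := rfl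
    exact Nat.eq_of_mul_eq_mul_right (pow_pos hp.out.pos k) (h1.trans (h4.trans h2.symm))
  have hKsup : K ⊔ (P : Subgroup G) = ⊤ := CfsgLib.Transfer.sup_sylow_eq_top P hidx
  -- `p`-solubility and the centraliser
  have hsol : IsPSolvable p G := by
    obtain ⟨j, hj⟩ := IsPGroup.iff_card.1 (CfsgLib.Cores.isPGroup_pCore p (G := G))
    refine ⟨3, ![⊥, H, K, ⊤], rfl, rfl, ?_, ?_, ?_⟩
    · rw [Fin.monotone_iff_le_succ]
      intro i
      fin_cases i
      · exact bot_le
      · exact hHK
      · exact le_top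
    · intro i
      fin_cases i
      · exact (inferInstance : (⊥ : Subgroup G).Normal)
      · exact (inferInstance : H.Normal)
      · exact hKn
      · exact (inferInstance : (⊤ : Subgroup G).Normal)
    · intro i
      fin_cases i
      · exact Or.inl ⟨j, by simpa [Subgroup.relIndex_bot_left] using hj⟩
      · exact Or.inr (show (H.relIndex K).Coprime p from hrel ▸ hKc)
      · exact Or.inl ⟨k, show K.relIndex ⊤ = p ^ k by rw [Subgroup.relIndex_top_right, hidx]⟩
  have hCH := CfsgLib.Transfer.centralizer_pCore_le_of_isPSolvable hsol hO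
  -- `P` is maximal
  have hmaxP : ∀ M : Subgroup G, (P : Subgroup G) ≤ M → M ≠ ⊤ → M = P := by
    intro M hPM hM
    have hc := CfsgLib.Transfer.hasNormalPComplement_iff_pResidual.1 (hprop M hM hPM)
    have hL : pResidual p M = ⊥ := by
      rw [Subgroup.eq_bot_iff_forall]
      intro x hx
      have hco : (orderOf (x : G)).Coprime p := by
        rw [Subgroup.orderOf_coe]
        exact Nat.Coprime.coprime_dvd_left (Subgroup.orderOf_dvd_natCard _ hx) hc
      have hxC : (x : G) ∈ Subgroup.centralizer (H : Set G) := by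
        have h := CfsgLib.Transfer.mem_centralizer_of_hasNormalPComplement (hprop M hM hPM)
          (Q := H.subgroupOf M) ((CfsgLib.Cores.isPGroup_pCore p (G := G)).comap_of_injective M.subtype
            M.subtype_injective) (g := x) (by rw [Subgroup.normalizer_eq_top]; trivial)
          (by rwa [Subgroup.orderOf_coe] at hco)
        exact Subgroup.mem_centralizer_iff.2 fun y hy => congrArg Subtype.val
          (Subgroup.mem_centralizer_iff.1 h ⟨y, hPM (CfsgLib.Cores.pCore_le_sylow P hy)⟩ hy)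
      have hxH := hCH hxC
      have : (⟨x, hxH⟩ : H) = 1 := CfsgLib.Transfer.eq_one_of_coprime_of_isPGroup
        (CfsgLib.Cores.isPGroup_pCore p (G := G)) (by rwa [Subgroup.orderOf_mk])
      exact Subtype.ext (congrArg (fun y : H => (y : G)) this)
    have hMp : IsPGroup p M := by
      have h1 := CfsgLib.Transfer.isPGroup_quotient_pResidual (G := M) (p := p)
      exact h1.of_injective (QuotientGroup.mk' (pResidual p M))
        ((injective_iff_map_eq_one _).2 fun x hx => by
          have := (QuotientGroup.eq_one_iff x).1 hx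
          rwa [hL, Subgroup.mem_bot] at this)
    exact P.3 hMp hPM
  refine ⟨hCH, ?_, hmaxP, K, hKn, hHK, hrel ▸ hKc, hKsup⟩
  -- the middle factor is abelian
  have hKne : Kb ≠ ⊥ := by
    intro e
    apply hG
    refine CfsgLib.Transfer.hasNormalPComplement_of_isPGroup ?_
    obtain ⟨j, hj⟩ := IsPGroup.iff_card.1 (CfsgLib.Cores.isPGroup_pCore p (G := G))
    refine IsPGroup.of_card (n := j + k) ?_
    have h3 := Subgroup.card_eq_card_quotient_mul_card_subgroup H
    rw [h3, hj, ← Subgroup.card_mul_index Kb, e, Subgroup.card_bot, one_mul, ← e, hk, pow_add, mul_comm]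
  have hbound : ∀ X : Subgroup (G ⧸ H), X ≠ ⊥ → X ≤ Kb →
      (P : Subgroup G).map π ≤ Subgroup.normalizer (X : Set (G ⧸ H)) → X = Kb := by
    intro X hX hXK hPX
    set M := (X ⊔ (P : Subgroup G).map π).comap π
    have hPM : (P : Subgroup G) ≤ M := fun x hx => Subgroup.mem_sup_right ⟨x, hx, rfl⟩
    have hMtop : M = ⊤ := by
      by_contra hne
      apply hX
      have hMP := hmaxP M hPM hne
      have h1 : X ≤ (P : Subgroup G).map π := fun y hy => by
        obtain ⟨x, rfl⟩ := hπ y
        exact ⟨x, hMP.le (Subgroup.mem_sup_left hy), rfl⟩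
      obtain ⟨j, hj⟩ := IsPGroup.iff_card.1 (P.2.map π)
      exact Subgroup.eq_bot_of_card_eq _ (Nat.Coprime.eq_one_of_dvd
        ((Nat.Coprime.coprime_dvd_left (Subgroup.card_dvd_of_le hXK) hKc).pow_right j)
        (hj ▸ Subgroup.card_dvd_of_le h1))
    have hsup : X ⊔ (P : Subgroup G).map π = ⊤ := by
      rw [← Subgroup.map_comap_eq_self_of_surjective hπ (X ⊔ (P : Subgroup G).map π),
        show (X ⊔ (P : Subgroup G).map π).comap π = ⊤ from hMtop, Subgroup.map_top_of_surjective _ hπ]
    refine le_antisymm hXK fun y hy => ?_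
    obtain ⟨u, hu, v, hv, rfl⟩ :=
      CfsgLib.Solvable.exists_mul_of_mem_sup hPX (hsup.ge (Subgroup.mem_top y))
    have hvK : v ∈ Kb := by simpa using mul_mem (inv_mem (hXK hu)) hy
    have hv1 : v = 1 := by
      obtain ⟨j, hj⟩ := IsPGroup.iff_card.1 (P.2.map π)
      have hd : Disjoint Kb ((P : Subgroup G).map π) :=
        Subgroup.disjoint_of_coprime_natCard (hj ▸ hKc.pow_right j)
      exact Subgroup.disjoint_def.1 hd hvK hv
    rwa [hv1, mul_one]
  obtain ⟨q, hq, hqd⟩ := Nat.exists_prime_and_dvd (n := Nat.card Kb) fun e =>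
    hKne (Subgroup.eq_bot_of_card_eq _ e)
  have := Fact.mk hq
  obtain ⟨Qs⟩ : Nonempty (Sylow q Kb) := inferInstance
  set Pb : Sylow p (G ⧸ H) := P.mapSurjective hπ
  set NQ := Subgroup.normalizer (((Qs : Subgroup Kb).map Kb.subtype : Subgroup (G ⧸ H)) : Set (G ⧸ H))
  have hfr : NQ ⊔ Kb = ⊤ := Sylow.normalizer_sup_eq_top Qs
  have hNidx : ¬ p ∣ NQ.index := by
    refine CfsgLib.Transfer.not_dvd_of_coprime (Nat.Coprime.coprime_dvd_left ?_ hKc)
    have h1 := CfsgLib.Cores.card_sup_dvd_mul Kb NQ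
    rw [sup_comm, hfr, Subgroup.card_top, ← Subgroup.card_mul_index NQ] at h1
    exact Nat.dvd_of_mul_dvd_mul_left Nat.card_pos (h1.trans (dvd_of_eq (mul_comm _ _)))
  obtain ⟨R⟩ : Nonempty (Sylow p NQ) := inferInstance
  have hR : ¬ p ∣ ((R : Subgroup NQ).map NQ.subtype).index := by
    rw [Subgroup.index_map_subtype]
    exact fun hd => (hp.out.dvd_mul.1 hd).elim R.not_dvd_index hNidx
  let R' : Sylow p (G ⧸ H) := IsPGroup.toSylow (R.2.map NQ.subtype) hR
  obtain ⟨g, hg⟩ := MulAction.exists_smul_eq (G ⧸ H) R' Pb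
  set X := ((Qs : Subgroup Kb).map Kb.subtype).map (MulAut.conj g).toMonoidHom with hX
  have hXK : X = Kb := by
    refine hbound X ?_ ?_ ?_
    · intro e
      have := (Subgroup.map_eq_bot_iff_of_injective _ Kb.subtype_injective).1
        ((Subgroup.map_eq_bot_iff_of_injective _ (MulAut.conj g).injective).1 e)
      have h1 := Qs.card_eq_multiplicity
      rw [this, Subgroup.card_bot] at h1
      exact (Nat.one_lt_pow (hq.factorization_pos_of_dvd Nat.card_pos.ne' hqd).ne' hq.one_lt).ne h1
    · rintro _ ⟨x, hx, rfl⟩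
      exact hKbn.conj_mem x (Subgroup.map_subtype_le _ hx) g
    · rw [hX, ← map_conj_normalizer]
      intro y hy
      have hy' : y ∈ (Pb : Subgroup (G ⧸ H)) := hy
      rw [← hg, Sylow.coe_subgroup_smul] at hy'
      obtain ⟨r, hr, rfl⟩ := hy'
      exact ⟨r, Subgroup.map_subtype_le _ hr, rfl⟩
  have hKq : IsPGroup q Kb := by
    rw [← hXK]
    exact (Qs.2.map _).map _
  have hab : ⁅Kb, Kb⁆ = ⊥ := by
    by_contra hne
    have hnil : Group.IsNilpotent Kb := hKq.isNilpotent
    have e := hbound ⁅Kb, Kb⁆ hne (Subgroup.commutator_le_self Kb)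
      (le_top.trans (Subgroup.normalizer_eq_top _).ge)
    have : Nontrivial Kb := (Subgroup.nontrivial_iff_ne_bot Kb).2 hKne
    have h1 := CfsgLib.PGroup.commutator_le_frattini (G := Kb) hKq
    have h2 : (_root_.commutator Kb).map Kb.subtype = ⁅Kb, Kb⁆ := by
      rw [_root_.commutator_def, Subgroup.map_commutator, ← MonoidHom.range_eq_map, Subgroup.range_subtype]
    refine CfsgLib.PGroup.frattini_ne_top (G := Kb) hKq (top_le_iff.1 fun x _ => ?_)
    have hx : (x : G ⧸ H) ∈ (_root_.commutator Kb).map Kb.subtype := by rw [h2, e]; exact x.2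
    obtain ⟨y, hy, hxy⟩ := hx
    exact h1 (Kb.subtype_injective hxy ▸ hy)
  refine stableAll_of_series hp2 H K (CfsgLib.Cores.isPGroup_pCore p) (hrel ▸ hKc) ?_ ⟨k, hidx⟩
  rw [Subgroup.commutator_le]
  intro x hx y hy
  refine (QuotientGroup.eq_one_iff _).1 (Subgroup.mem_bot.1 (hab.le ?_))
  show π ⁅x, y⁆ ∈ ⁅Kb, Kb⁆
  rw [map_commutatorElement]
  exact Subgroup.commutator_mem_commutator hx hy

end CfsgLib.PStab
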