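import Cfsg.Agent.Lib.PStab.Fusion

/-!
Other forms of the stability hypothesis for the fusion theorems.
-/

set_option autoImplicit false

namespace CfsgLib.PStab

open Cfsg Subgroup
open scoped commutatorElement

variable {G : Type*} [Group G] [Finite G] {p : ℕ} [hp : Fact p.Prime]

/-- An element acting quadratically on a normal `p`-subgroup acts as a `p`-element. -/
theorem exists_pow_mem_centralizer_of_quad {B : Subgroup G} [B.Normal] (hB : IsPGroup p B) {a : G}
    (hq : IsQuad B a) : ∃ n : ℕ, a ^ p ^ n ∈ Subgroup.centralizer (B : Set G) := by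
  obtain ⟨n, hn⟩ := IsPGroup.iff_card.1 hB
  refine ⟨n, Subgroup.mem_centralizer_iff.2 fun x hx => ?_⟩
  set c := ⁅x, a⁆ with hc
  have hcB : c ∈ B := by
    rw [hc, commutatorElement_def, mul_assoc x, mul_assoc x]
    exact mul_mem hx (by simpa [mul_assoc] using (inferInstance : B.Normal).conj_mem _ (inv_mem hx) a)
  have hca : Commute c a := commutatorElement_eq_one_iff_mul_comm.1 (hq x hx)
  have e1 : a * x * a⁻¹ = c⁻¹ * x := by rw [hc, commutatorElement_def]; group
  have key : ∀ m : ℕ, a ^ m * x * (a ^ m)⁻¹ = (c⁻¹) ^ m * x := by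
    intro m
    induction m with
    | zero => simp
    | succ m ih =>
      calc a ^ (m + 1) * x * (a ^ (m + 1))⁻¹ = a * (a ^ m * x * (a ^ m)⁻¹) * a⁻¹ := by
            rw [pow_succ']; group
        _ = a * c⁻¹ ^ m * a⁻¹ * (a * x * a⁻¹) := by rw [ih]; group
        _ = c⁻¹ ^ m * (c⁻¹ * x) := by
            rw [e1, (hca.symm.inv_right.pow_right m).eq, mul_inv_cancel_right]
        _ = _ := by rw [pow_succ]; group
  have hone : (c⁻¹) ^ p ^ n = 1 := by
    have := congrArg Subtype.val (pow_card_eq_one' (x := (⟨c⁻¹, inv_mem hcB⟩ : B)))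
    rw [hn] at this
    exact this
  have := key (p ^ n)
  rw [hone, one_mul, mul_inv_eq_iff_eq_mul] at this
  exact this.symm

/-- The frozen form with an acting `p`-subgroup gives stability on normal `p`-subgroups. -/
theorem isPStableOn_of_isPStable (h : IsPStable p G) (B : Subgroup G) [B.Normal] (hB : IsPGroup p B) :
    IsPStableOn p B := by
  intro a hq
  have htop : Subgroup.normalizer (B : Set G) = ⊤ := Subgroup.normalizer_eq_top B
  have hq' : IsQuad B a := (isQuad_iff (htop ▸ Subgroup.mem_top a)).2 hq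
  obtain ⟨n, hn⟩ := exists_pow_mem_centralizer_of_quad hB hq'
  have hcop : ((orderOf a) / p ^ (orderOf a).factorization p).Coprime p :=
    (Nat.coprime_ordCompl hp.out (orderOf_pos a).ne').symm
  set r := (orderOf a) / p ^ (orderOf a).factorization p
  -- the `p`-part of `a`
  obtain ⟨s, hs⟩ : ∃ s : ℕ, a⁻¹ * a ^ (r * s) ∈ Subgroup.centralizer (B : Set G) := by
    rcases Nat.eq_zero_or_pos n with h0 | h0
    · subst h0
      rw [pow_zero, pow_one] at hn
      exact ⟨0, by rw [mul_zero, pow_zero, mul_one]; exact inv_mem hn⟩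
    obtain ⟨s, hs⟩ := Nat.exists_mul_mod_eq_one_of_coprime (hcop.pow_right n)
      (Nat.one_lt_pow h0.ne' hp.out.one_lt)
    refine ⟨s, ?_⟩
    rw [← Nat.mod_add_div (r * s) (p ^ n), hs.2, pow_add, pow_one, inv_mul_cancel_left, pow_mul]
    exact pow_mem hn _
  set u := a ^ (r * s)
  have hu : IsPGroup p (Subgroup.zpowers u) := by
    refine IsPGroup.of_card (n := Nat.log p (orderOf u)) ?_
    rw [Nat.card_zpowers]
    obtain ⟨j, -, hj⟩ := (Nat.dvd_prime_pow hp.out).1
      (orderOf_dvd_of_pow_eq_one (show u ^ p ^ (orderOf a).factorization p = 1 by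
        rw [← pow_mul, show r * s * p ^ (orderOf a).factorization p = p ^ (orderOf a).factorization p * r * s by ring,
          Nat.ordProj_mul_ordCompl_eq_self, pow_mul, pow_orderOf_eq_one, one_pow]))
    rw [hj, Nat.log_pow hp.out.one_lt]
  have hqu : IsQuad B u := by
    intro x hx
    have key : ∀ y ∈ B, ⁅y, u⁆ = ⁅y, a⁆ := fun y hy => by
      obtain ⟨c, hc, hu'⟩ : ∃ c ∈ Subgroup.centralizer (B : Set G), u = a * c :=
        ⟨a⁻¹ * u, hs, by rw [mul_inv_cancel_left]⟩
      rw [hu', commutatorElement_def, commutatorElement_def]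
      calc y * (a * c) * y⁻¹ * (a * c)⁻¹ = y * a * (c * y⁻¹) * c⁻¹ * a⁻¹ := by group
        _ = y * a * (y⁻¹ * c) * c⁻¹ * a⁻¹ := by rw [Subgroup.mem_centralizer_iff.1 hc _ (inv_mem hy)]
        _ = _ := by group
    have hxB : ⁅x, a⁆ ∈ B := by
      rw [commutatorElement_def, mul_assoc x, mul_assoc x]
      exact mul_mem hx (by simpa [mul_assoc] using (inferInstance : B.Normal).conj_mem _ (inv_mem hx) a)
    rw [key x hx, key _ hxB]
    exact hq' x hx
  have hBH : B ≤ pPrimePCore p G := fun x hx => CfsgLib.Cores.map_pCore_le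
    (QuotientGroup.mk' (pPrimeCore p G)) (QuotientGroup.mk'_surjective _)
    ⟨x, CfsgLib.Cores.le_pCore hB hx, rfl⟩
  have hAB : ∀ b ∈ Subgroup.zpowers u, ∀ x ∈ B, b * x * b⁻¹ ∈ B := fun b _ x hx =>
    (inferInstance : B.Normal).conj_mem x hx b
  have hmem := h.2.2 (Subgroup.zpowers u) B hu hB hAB hBH inferInstance
    ((isQuad_iff (htop ▸ Subgroup.mem_top u)).1 hqu)
    ⟨⟨u, htop ▸ Subgroup.mem_top u⟩, Subgroup.mem_zpowers u, rfl⟩
  obtain ⟨K, -, hNK, huK, hK⟩ := inCoreAct_of_mk_mem_pCore (htop ▸ Subgroup.mem_top u) hmem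
  rw [htop, top_le_iff, Subgroup.normalizer_eq_top_iff] at hNK
  have hmap : (K.map (QuotientGroup.mk' (Subgroup.centralizer (B : Set G)))).Normal :=
    hNK.map _ (QuotientGroup.mk'_surjective _)
  refine CfsgLib.Cores.le_pCore (N := K.map (QuotientGroup.mk' (Subgroup.centralizer (B : Set G))))
    ?_ ⟨u, huK, ((QuotientGroup.eq).2 hs).symm⟩
  rintro ⟨_, y, hy, rfl⟩
  obtain ⟨m, hm⟩ := hK y hy
  refine ⟨m, Subtype.ext ?_⟩
  rw [SubmonoidClass.coe_pow, ← map_pow, Subgroup.coe_one]
  exact (QuotientGroup.eq_one_iff _).2 hm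

/-- A constrained group without normal `p'`-subgroup contains the centraliser of its `p`-core. -/
theorem centralizer_pCore_le_of_isPConstrained (hO : pPrimeCore p G = ⊥) (hc : IsPConstrained p G) :
    Subgroup.centralizer (pCore p G : Set G) ≤ pCore p G := by
  have h := CfsgLib.Cores.isPConstrained_iff.1 hc
  set π := QuotientGroup.mk' (pPrimeCore p G)
  have hinj : Function.Injective π := by
    rw [← MonoidHom.ker_eq_bot_iff, QuotientGroup.ker_mk', hO]
  have hle : (pCore p (G ⧸ pPrimeCore p G)).comap π ≤ pCore p G :=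
    CfsgLib.Cores.le_pCore (hn := (inferInstance : (pCore p (G ⧸ pPrimeCore p G)).Normal).comap π)
      ((CfsgLib.Cores.isPGroup_pCore p).comap_of_injective π hinj)
  intro x hx
  refine hle (h (Subgroup.mem_centralizer_iff.2 fun y hy => ?_))
  obtain ⟨x', rfl⟩ := QuotientGroup.mk'_surjective (pPrimeCore p G) y
  rw [← map_mul, ← map_mul, Subgroup.mem_centralizer_iff.1 hx x' (hle hy)]

variable (S : Sylow p G)

/-- The factorisation when `Z(J(D ∩ Q))` is normal in the local subgroup. -/
theorem factorAt_of_isPStable (hp2 : p ≠ 2) {e : ℕ} (he : e = 0 ∨ e = p)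
    {D : Subgroup G} (hD : IsStronglyClosed D (S : Subgroup G)) {X : Subgroup G}
    (hfull : CfsgLib.Techniques.Functor.Full p (S : Subgroup G) X)
    (hO : pPrimeCore p (Subgroup.normalizer (X : Set G)) = ⊥)
    (hc : IsPConstrained p (Subgroup.normalizer (X : Set G)))
    (hst : IsPStable p (Subgroup.normalizer (X : Set G))) :
    Subgroup.normalizer (X : Set G) ≤ Subgroup.normalizer
      (zjGen e (D ⊓ ((S : Subgroup G) ⊓ Subgroup.normalizer (X : Set G))) : Set G) := by
  set N := Subgroup.normalizer (X : Set G) with hN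
  set Q := (S : Subgroup G) ⊓ N with hQ
  let T : Sylow p N := IsPGroup.toSylow
    ((S.2.to_le (inf_le_left : Q ≤ S)).of_equiv (Subgroup.subgroupOfEquivOfLe (inf_le_right : Q ≤ N)).symm)
    hfull
  have hT : (T : Subgroup N) = Q.subgroupOf N := IsPGroup.toSylow_coe _ _
  have hD' : IsStronglyClosed (D.subgroupOf N) (T : Subgroup N) := by
    refine ⟨fun x hx => ?_, fun x hx g hgx => ?_⟩
    · rw [hT]; exact ⟨hD.1 hx, x.2⟩
    · rw [hT] at hgx
      exact hD.2 (x : G) hx (g : G) hgx.1
  have hn := zjGen_normal hp2 (fun B _ hB => isPStableOn_of_isPStable hst B hB) he T hD'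
    (centralizer_pCore_le_of_isPConstrained hO hc)
  intro g hg
  have hW : zjGen e (D ⊓ Q) = (zjGen e (D.subgroupOf N)).map N.subtype := by
    rw [← zjGen_map N.subtype_injective, Subgroup.subgroupOf_map_subtype, hQ, ← inf_assoc,
      inf_eq_left.2 hD.1]
  rw [hW]
  exact Subgroup.le_normalizer_map N.subtype
    ⟨⟨g, hg⟩, (Subgroup.normalizer_eq_top (zjGen e (D.subgroupOf N))).ge (Subgroup.mem_top _), rfl⟩

end CfsgLib.PStab
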