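import Cfsg.Agent.Lib.PStab.ZJ
import Cfsg.Agent.Lib.PStab.Reduction
import Cfsg.Agent.Lib.Solvable.AbelianAction
import Cfsg.Agent.Lib.Solvable.MinimalNormal

/-!
The normal `p`-complement theorems of Thompson and of Glauberman and Thompson.
-/

set_option autoImplicit false

namespace CfsgLib.PStab

open Cfsg Subgroup
open scoped commutatorElement

universe u

variable {p : ℕ} [hp : Fact p.Prime]

section
variable {G : Type u} [Group G] [Finite G]

/-- The centre of a Sylow subgroup. -/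
def zSyl (P : Subgroup G) : Subgroup G := P ⊓ Subgroup.centralizer (P : Set G)

theorem exists_pow_one_center {P X : Subgroup G} (hP : IsPGroup p P) (hX : X ≤ P) (hne : X ≠ ⊥)
    (hn : P ≤ Subgroup.normalizer (X : Set G)) : ∃ x ∈ X ⊓ zSyl P, x ≠ 1 ∧ x ^ p = 1 := by
  have : (X.subgroupOf P).Normal := (Subgroup.normal_subgroupOf_iff_le_normalizer hX).2 hn
  have hne' : X.subgroupOf P ≠ ⊥ := fun e => hne (by
    rw [Subgroup.subgroupOf_eq_bot, disjoint_iff, inf_eq_left.2 hX] at e; exact e)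
  obtain ⟨y, hy, hyp⟩ := CfsgLib.PGroup.exists_orderOf_eq (G := P) hP
    (CfsgLib.PGroup.inf_center_ne_bot (G := P) hP (X.subgroupOf P) hne')
  refine ⟨y, ⟨hy.1, y.2, Subgroup.mem_centralizer_iff.2 fun z hz => ?_⟩, fun e => ?_, ?_⟩
  · exact congrArg Subtype.val (Subgroup.mem_center_iff.1 hy.2 ⟨z, hz⟩)
  · rw [← Subgroup.orderOf_coe, e, orderOf_one] at hyp
    exact hp.out.one_lt.ne hyp
  · rw [← SubmonoidClass.coe_pow, ← hyp, pow_orderOf_eq_one]; rfl

theorem zSyl_ne_bot {P : Subgroup G} (hP : IsPGroup p P) (hne : P ≠ ⊥) : zSyl P ≠ ⊥ := by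
  obtain ⟨x, hx, hx1, -⟩ := exists_pow_one_center hP le_rfl hne Subgroup.le_normalizer
  exact fun e => hx1 (Subgroup.mem_bot.1 (e.le hx.2))

theorem jGen_ne_bot {e : ℕ} (he : e = 0 ∨ e = p) {D : Subgroup G} (hD : IsPGroup p D) (hne : D ≠ ⊥) :
    jGen e D ≠ ⊥ := by
  intro hb
  obtain ⟨x, hx, hx1, hxp⟩ := exists_pow_one_center hD le_rfl hne Subgroup.le_normalizer
  obtain ⟨A, hA⟩ := maxAdm_nonempty e D
  have hA0 : A = ⊥ := le_bot_iff.1 ((le_jGen hA).trans hb.le)
  exact hx1 (Subgroup.mem_bot.1 (hA0.le (mem_of_commute_maxAdm (p := p) he hA hx.1 hxp fun a ha => by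
    rw [Subgroup.mem_bot.1 (hA0.le ha), mul_one, one_mul])))

theorem zjGen_ne_bot {e : ℕ} (he : e = 0 ∨ e = p) {D : Subgroup G} (hD : IsPGroup p D) (hne : D ≠ ⊥) :
    zjGen e D ≠ ⊥ :=
  zSyl_ne_bot (hD.to_le (jGen_le e D)) (jGen_ne_bot he hD hne)

theorem le_normalizer_of_forall_conj {D X : Subgroup G}
    (h : ∀ g ∈ Subgroup.normalizer (D : Set G), ∀ x ∈ X, g * x * g⁻¹ ∈ X) :
    Subgroup.normalizer (D : Set G) ≤ Subgroup.normalizer (X : Set G) := fun g hg =>
  CfsgLib.Solvable.mem_normalizer_of_conj_mem (h g hg)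

theorem normalizer_le_normalizer_jGen (e : ℕ) (D : Subgroup G) :
    Subgroup.normalizer (D : Set G) ≤ Subgroup.normalizer (jGen e D : Set G) :=
  le_normalizer_of_forall_conj fun g hg x hx => by
    have hD : D.map (MulAut.conj g).toMonoidHom = D := by
      rw [← CfsgLib.Solvable.conj_smul_eq_map]
      exact CfsgLib.Solvable.conj_smul_self_of_mem_normalizer hg
    have := jGen_map (e := e) (MulAut.conj g).injective (f := (MulAut.conj g).toMonoidHom) D
    rw [hD] at this
    rw [this]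
    exact ⟨x, hx, rfl⟩

theorem normalizer_le_normalizer_zjGen (e : ℕ) (D : Subgroup G) :
    Subgroup.normalizer (D : Set G) ≤ Subgroup.normalizer (zjGen e D : Set G) :=
  le_normalizer_of_forall_conj fun _ hg _ hx => conj_mem_zjGen hg hx

theorem npc_congr_subgroupOf {N : Subgroup G} {X : Subgroup G} {X' : Subgroup N}
    (hX : X'.map N.subtype = X) (h : HasNormalPComplement p (Subgroup.normalizer (X : Set G))) :
    HasNormalPComplement p (Subgroup.normalizer (X' : Set N)) := by
  refine (CfsgLib.Transfer.hasNormalPComplement_congr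
    (Subgroup.equivMapOfInjective _ N.subtype N.subtype_injective)).2 (npc_of_le ?_ h)
  rintro _ ⟨g, hg, rfl⟩
  refine CfsgLib.Solvable.mem_normalizer_of_conj_mem fun x hx => ?_
  obtain ⟨y, hy, rfl⟩ := hX.ge hx
  exact hX.le ⟨g * y * g⁻¹, (Subgroup.mem_normalizer_iff.1 hg y).1 hy, rfl⟩

end

section
variable (p)

/-- The statement of Glauberman and Thompson in order `n`. -/
def GTStatement (e n : ℕ) : Prop :=
  ∀ (G : Type u) [Group G] [Finite G] (P : Sylow p G) (D : Subgroup G),
    IsStronglyClosed D (P : Subgroup G) → Nat.card G = n →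
      HasNormalPComplement p (Subgroup.normalizer (zjGen e D : Set G)) → HasNormalPComplement p G

/-- Thompson's statement in order `n`. -/
def ThompsonStatement (n : ℕ) : Prop :=
  ∀ (G : Type u) [Group G] [Finite G] (P : Sylow p G), Nat.card G = n →
    HasNormalPComplement p (Subgroup.normalizer (jGen p (P : Subgroup G) : Set G)) →
    HasNormalPComplement p (Subgroup.centralizer (zSyl (P : Subgroup G) : Set G)) →
      HasNormalPComplement p G

end

theorem gtStatement (hp2 : p ≠ 2) {e : ℕ} (he : e = 0 ∨ e = p) (n : ℕ) : GTStatement.{u} p e n := by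
  induction n using Nat.strong_induction_on with
  | _ n ih =>
  intro G _ _ P D hD hn hW
  by_contra hG
  set W : Subgroup G → Subgroup G := fun P1 => zjGen e (D ⊓ P1)
  have hDP : D ≤ (P : Subgroup G) := hD.1
  have hPD : (P : Subgroup G) ≤ Subgroup.normalizer (D : Set G) := fun s hs =>
    mem_normalizer_of_stronglyClosed P hD fun x hx => mul_mem (mul_mem hs (hDP hx)) (inv_mem hs)
  have hDne : D ≠ ⊥ := by
    intro e0
    apply hG
    refine (npc_top_iff ?_).1 hW
    have : zjGen e D = ⊥ := le_bot_iff.1 ((zjGen_le e D).trans e0.le)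
    rw [this]; exact Subgroup.normalizer_eq_top _
  obtain ⟨hHne, hprop, hK⟩ := reduce_pCore P W (fun P1 _ => (zjGen_le e _).trans inf_le_right)
    (fun P1 h1 h2 _ => zjGen_ne_bot he (P.2.to_le (inf_le_left.trans hDP)) fun h0 => by
      obtain ⟨x, hx, hx1, -⟩ := exists_pow_one_center P.2 hDP hDne hPD
      exact hx1 (Subgroup.mem_bot.1 (h0.le ⟨hx.1, h2 hx.2⟩)))
    (fun P1 h1 g hg => normalizer_le_normalizer_zjGen e _ <| by
      refine CfsgLib.Solvable.mem_normalizer_of_conj_mem fun x hx => ?_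
      exact ⟨(Subgroup.mem_normalizer_iff.1 (hPD hg.1) x).1 hx.1,
        (Subgroup.mem_normalizer_iff.1 hg.2 x).1 hx.2⟩)
    (by show HasNormalPComplement p (Subgroup.normalizer (zjGen e (D ⊓ (P : Subgroup G)) : Set G))
        rw [inf_eq_left.2 hDP]; exact hW)
    (fun N hN hT _ h => by
      obtain ⟨T, hT⟩ := hT
      have hlt : Nat.card N < n := hn ▸ lt_of_le_of_ne (Subgroup.card_le_card_group N)
          fun e => hN (Subgroup.eq_top_of_card_eq N e)
      refine ih _ hlt N T (D.subgroupOf N) ⟨fun x hx => ?_, fun x hx g hgx => ?_⟩ rfl ?_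
      · obtain ⟨y, hy, hyx⟩ := hT.ge ⟨hDP hx, x.2⟩
        exact N.subtype_injective hyx ▸ hy
      · exact hD.2 (x : G) hx (g : G) (hT.le ⟨_, hgx, rfl⟩).1
      · refine npc_congr_subgroupOf (X := zjGen e (D ⊓ ((P : Subgroup G) ⊓ N))) ?_ h
        rw [← zjGen_map N.subtype_injective, Subgroup.subgroupOf_map_subtype, ← inf_assoc,
          inf_eq_left.2 hDP])
    hG
  by_cases hO : pPrimeCore p G = ⊥
  swap
  · -- pass to the quotient by the `p'`-core
    apply hG
    set N := pPrimeCore p G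
    have hNc := CfsgLib.Cores.coprime_card_pPrimeCore (G := G) p
    refine npc_of_quotient hNc ?_
    set π := QuotientGroup.mk' N
    have hπ : Function.Surjective π := QuotientGroup.mk'_surjective N
    have hinj : Function.Injective (π.comp D.subtype) := by
      rw [injective_iff_map_eq_one]
      intro x hx
      have hxN : (x : G) ∈ N := (QuotientGroup.eq_one_iff _).1 hx
      exact CfsgLib.Transfer.eq_one_of_coprime_of_isPGroup (P.2.to_le hDP)
        (Nat.Coprime.coprime_dvd_left (Subgroup.orderOf_coe x ▸ Subgroup.orderOf_dvd_natCard N hxN) hNc)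
    refine ih _ (hn ▸ CfsgLib.Solvable.card_quotient_lt _ hO) (G ⧸ N) (P.mapSurjective hπ)
      (D.map π) ⟨Subgroup.map_mono hDP, ?_⟩ rfl ?_
    · rintro _ ⟨x, hx, rfl⟩ q hq
      obtain ⟨g, rfl⟩ := hπ q
      have hy : g * x * g⁻¹ ∈ (P : Subgroup G) ⊔ N := by
        obtain ⟨s, hs, e1⟩ := hq
        have h2 : s⁻¹ * (g * x * g⁻¹) ∈ N := QuotientGroup.eq.1 (by simpa [π] using e1)
        have := mul_mem (Subgroup.mem_sup_left hs : s ∈ (P : Subgroup G) ⊔ N)
          (Subgroup.mem_sup_right h2 : _ ∈ (P : Subgroup G) ⊔ N)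
        rwa [mul_inv_cancel_left] at this
      obtain ⟨m, hm, hmy⟩ := CfsgLib.Transfer.exists_conj_mem_sylow_of_le P
        (H := (P : Subgroup G) ⊔ N) (S := D.map (MulAut.conj g).toMonoidHom ⊓ Subgroup.zpowers (g * x * g⁻¹))
        le_sup_left (inf_le_right.trans (Subgroup.zpowers_le.2 hy))
        ((P.2.to_le hDP).map _ |>.to_le inf_le_left)
      have h3 := hmy (g * x * g⁻¹) ⟨⟨x, hx, rfl⟩, Subgroup.mem_zpowers _⟩
      have hd : (m * g) * x * (m * g)⁻¹ ∈ D := hD.2 x hx _ (by convert h3 using 1; group)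
      obtain ⟨k, hk, s, hs, e2⟩ := CfsgLib.Solvable.exists_mul_of_mem_sup (K := N) (A := (P : Subgroup G))
        (by rw [Subgroup.normalizer_eq_top N]; exact le_top) (by rwa [sup_comm] at hm)
      refine ⟨s⁻¹ * ((m * g) * x * (m * g)⁻¹) * s, ?_, ?_⟩
      · exact (Subgroup.mem_normalizer_iff''.1 (hPD hs) _).1 hd
      · have : π k = 1 := (QuotientGroup.eq_one_iff k).2 hk
        rw [e2]
        simp only [map_mul, map_inv, this, one_mul]
        group
    · rw [zjGen_map_of_injective_restrict hinj]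
      exact npc_of_le_map π (normalizer_map_le hNc (P.2.to_le ((zjGen_le e D).trans hDP))) hW
  set H := pCore p G with hH
  by_cases hDH : D ≤ H
  · apply hG
    refine (npc_top_iff (eq_top_iff.2 (le_trans ?_ (normalizer_le_normalizer_zjGen e D)))).1 hW
    exact fun g _ => mem_normalizer_of_stronglyClosed P hD fun x hx =>
      CfsgLib.Cores.pCore_le_sylow P ((inferInstance : H.Normal).conj_mem x (hDH hx) g)
  have hHp := CfsgLib.Cores.isPGroup_pCore p (G := G)
  set π := QuotientGroup.mk' H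
  have hπ : Function.Surjective π := QuotientGroup.mk'_surjective H
  have hDb : IsStronglyClosed (D.map π) ((P.mapSurjective hπ : Sylow p (G ⧸ H)) : Subgroup (G ⧸ H)) := by
    refine ⟨Subgroup.map_mono hDP, ?_⟩
    rintro _ ⟨x, hx, rfl⟩ q hq
    obtain ⟨g, rfl⟩ := hπ q
    obtain ⟨s, hs, e1⟩ := hq
    have h2 : s⁻¹ * (g * x * g⁻¹) ∈ H := QuotientGroup.eq.1 (by simpa [π] using e1)
    have h3 : g * x * g⁻¹ ∈ (P : Subgroup G) := by
      have := mul_mem hs (CfsgLib.Cores.pCore_le_sylow P h2)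
      rwa [mul_inv_cancel_left] at this
    exact ⟨g * x * g⁻¹, hD.2 x hx g h3, by simp⟩
  have hDbne : D.map π ≠ ⊥ := fun e0 => hDH fun x hx =>
    (QuotientGroup.eq_one_iff x).1 (Subgroup.mem_bot.1 (e0.le ⟨x, hx, rfl⟩))
  set K := (zjGen e (D.map π)).comap π with hKdef
  have hKp : IsPGroup p K :=
    ((P.2.map π).to_le ((zjGen_le e _).trans (Subgroup.map_mono hDP))).comap_of_ker_isPGroup π
      (by rw [QuotientGroup.ker_mk']; exact hHp)
  have hHK : H < K := by
    refine lt_of_le_of_ne (fun x hx => ?_) fun e0 => ?_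
    · show π x ∈ zjGen e (D.map π)
      rw [show π x = 1 from (QuotientGroup.eq_one_iff x).2 hx]; exact one_mem _
    · refine zjGen_ne_bot he ((P.2.to_le hDP).map π) hDbne (le_bot_iff.1 fun y hy => ?_)
      obtain ⟨x, rfl⟩ := hπ y
      exact Subgroup.mem_bot.2 ((QuotientGroup.eq_one_iff x).2 (e0.ge hy))
  have hNK : Subgroup.normalizer (K : Set G) =
      (Subgroup.normalizer (zjGen e (D.map π) : Set (G ⧸ H))).comap π :=
    (Subgroup.comap_normalizer_eq_of_surjective _ hπ).symm
  have hPK : (P : Subgroup G) ≤ Subgroup.normalizer (K : Set G) := by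
    rw [hNK]
    intro x hx
    exact normalizer_le_normalizer_zjGen e _ (Subgroup.le_normalizer_map π ⟨x, hPD hx, rfl⟩)
  have hquot : HasNormalPComplement p (G ⧸ H) := by
    refine ih _ (hn ▸ CfsgLib.Solvable.card_quotient_lt _ hHne) (G ⧸ H) (P.mapSurjective hπ)
      (D.map π) hDb rfl (npc_of_le_map π ?_ (hK K hKp hHK hPK))
    rw [hNK, Subgroup.map_comap_eq_self_of_surjective hπ]
  obtain ⟨hc, hst, -, -⟩ := final_structure hp2 P hG hO hquot hprop
  have hn' := zjGen_normal hp2 (fun Q _ hQ => hst.isPStableOn Q hQ) he P hD hc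
  exact hG ((npc_top_iff (Subgroup.normalizer_eq_top (zjGen e D))).1 hW)

/-- Glauberman–Thompson. -/
theorem hasNormalPComplement_of_normalizer_zjGen (hp2 : p ≠ 2) {e : ℕ} (he : e = 0 ∨ e = p)
    {G : Type u} [Group G] [Finite G] (P : Sylow p G) {D : Subgroup G}
    (hD : IsStronglyClosed D (P : Subgroup G))
    (hW : HasNormalPComplement p (Subgroup.normalizer (zjGen e D : Set G))) :
    HasNormalPComplement p G :=
  gtStatement hp2 he _ G P D hD rfl hW

theorem thompsonStatement (hp2 : p ≠ 2) (n : ℕ) : ThompsonStatement.{u} p n := by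
  induction n using Nat.strong_induction_on with
  | _ n ih =>
  intro G _ _ P hn hJ hC
  by_contra hG
  obtain ⟨hHne, hprop, hK⟩ := reduce_pCore P (fun P1 => jGen p P1) (fun P1 _ => jGen_le p P1)
    (fun P1 h1 _ h3 => jGen_ne_bot (Or.inr rfl) (P.2.to_le h1) h3)
    (fun P1 _ => inf_le_right.trans (normalizer_le_normalizer_jGen p P1)) hJ
    (fun N hN hT hZ h => by
      obtain ⟨T, hT⟩ := hT
      have hlt : Nat.card N < n := hn ▸ lt_of_le_of_ne (Subgroup.card_le_card_group N)
          fun e => hN (Subgroup.eq_top_of_card_eq N e)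
      refine ih _ hlt N T rfl (npc_congr_subgroupOf ?_ h) ?_
      · rw [← jGen_map N.subtype_injective, hT]
      · refine (CfsgLib.Transfer.hasNormalPComplement_congr
          (Subgroup.equivMapOfInjective _ N.subtype N.subtype_injective)).2 (npc_of_le ?_ hC)
        rintro _ ⟨c, hc, rfl⟩
        refine Subgroup.mem_centralizer_iff.2 fun z hz => ?_
        obtain ⟨z', hz', hzz⟩ := hT.ge ⟨hz.1, hZ hz⟩
        refine hzz ▸ congrArg Subtype.val (Subgroup.mem_centralizer_iff.1 hc z' ⟨hz', ?_⟩)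
        refine Subgroup.mem_centralizer_iff.2 fun w hw => Subtype.ext ?_
        rw [Subgroup.subtype_apply] at hzz
        rw [Subgroup.coe_mul, Subgroup.coe_mul, hzz]
        exact Subgroup.mem_centralizer_iff.1 hz.2 _ (hT.le ⟨w, hw, rfl⟩).1)
    hG
  by_cases hO : pPrimeCore p G = ⊥
  swap
  · apply hG
    set N := pPrimeCore p G
    have hNc := CfsgLib.Cores.coprime_card_pPrimeCore (G := G) p
    refine npc_of_quotient hNc ?_
    set π := QuotientGroup.mk' N
    have hπ : Function.Surjective π := QuotientGroup.mk'_surjective N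
    have hinj : Function.Injective (π.comp (P : Subgroup G).subtype) := by
      rw [injective_iff_map_eq_one]
      intro x hx
      have hxN : (x : G) ∈ N := (QuotientGroup.eq_one_iff _).1 hx
      exact CfsgLib.Transfer.eq_one_of_coprime_of_isPGroup P.2
        (Nat.Coprime.coprime_dvd_left (Subgroup.orderOf_coe x ▸ Subgroup.orderOf_dvd_natCard N hxN) hNc)
    have hPb : ((P.mapSurjective hπ : Sylow p (G ⧸ N)) : Subgroup (G ⧸ N)) = (P : Subgroup G).map π := rfl
    refine ih _ (hn ▸ CfsgLib.Solvable.card_quotient_lt _ hO) (G ⧸ N) (P.mapSurjective hπ) rfl ?_ ?_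
    · rw [hPb]
      have h1 : (P : Subgroup G) = (⊤ : Subgroup P).map (P : Subgroup G).subtype := by
        rw [← MonoidHom.range_eq_map, Subgroup.range_subtype]
      have h2 := jGen_map (e := p) hinj (⊤ : Subgroup P)
      rw [← Subgroup.map_map, ← h1] at h2
      rw [h2, ← Subgroup.map_map, ← jGen_map (P : Subgroup G).subtype_injective, ← h1]
      exact npc_of_le_map π (normalizer_map_le hNc (P.2.to_le (jGen_le _ _))) hJ
    · refine npc_of_le_map π ?_ hC
      intro q hq
      have hzmap : (zSyl (P : Subgroup G)).map π ≤ zSyl ((P : Subgroup G).map π) := by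
        rintro _ ⟨z, hz, rfl⟩
        refine ⟨⟨z, hz.1, rfl⟩, Subgroup.mem_centralizer_iff.2 ?_⟩
        rintro _ ⟨y, hy, rfl⟩
        rw [← map_mul, ← map_mul, Subgroup.mem_centralizer_iff.1 hz.2 y hy]
      have hqc : ∀ z ∈ zSyl (P : Subgroup G), π z * q = q * π z := fun z hz =>
        Subgroup.mem_centralizer_iff.1 hq _ (hPb ▸ hzmap ⟨z, hz, rfl⟩)
      obtain ⟨g, hg, rfl⟩ := normalizer_map_le hNc (P.2.to_le (inf_le_left : zSyl (P : Subgroup G) ≤ _))
        (CfsgLib.Solvable.mem_normalizer_of_conj_mem (g := q) (by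
          rintro _ ⟨z, hz, rfl⟩
          rw [← hqc z hz, mul_inv_cancel_right]
          exact ⟨z, hz, rfl⟩))
      refine ⟨g, Subgroup.mem_centralizer_iff.2 fun z hz => ?_, rfl⟩
      have hz' : g * z * g⁻¹ ∈ zSyl (P : Subgroup G) := (Subgroup.mem_normalizer_iff.1 hg z).1 hz
      have h1 : π (g * z * g⁻¹) = π z := by
        rw [map_mul, map_mul, map_inv, ← hqc z hz, mul_inv_cancel_right]
      have h2 := congrArg Subtype.val (hinj (a₁ := ⟨_, hz'.1⟩) (a₂ := ⟨z, hz.1⟩) h1)
      exact (mul_inv_eq_iff_eq_mul.1 h2).symm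
  set H := pCore p G with hH
  have hHp := CfsgLib.Cores.isPGroup_pCore p (G := G)
  have hPH : ¬ (P : Subgroup G) ≤ H := fun hle => hG ((npc_top_iff (eq_top_iff.2 (le_trans
    (le_of_eq (Subgroup.normalizer_eq_top_iff.2
      ((le_antisymm (CfsgLib.Cores.pCore_le_sylow P) hle) ▸ (inferInstance : H.Normal) :
        (P : Subgroup G).Normal)).symm) (normalizer_le_normalizer_jGen p _)))).1 hJ)
  set π := QuotientGroup.mk' H
  have hπ : Function.Surjective π := QuotientGroup.mk'_surjective H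
  set Pb := (P : Subgroup G).map π with hPb
  have hPbne : Pb ≠ ⊥ := fun e0 => hPH fun x hx =>
    (QuotientGroup.eq_one_iff x).1 (Subgroup.mem_bot.1 (e0.le ⟨x, hx, rfl⟩))
  have hkey : ∀ X : Subgroup (G ⧸ H), X ≤ Pb → X ≠ ⊥ →
      Pb ≤ Subgroup.normalizer (X : Set (G ⧸ H)) →
      HasNormalPComplement p (Subgroup.normalizer (X : Set (G ⧸ H))) := by
    intro X hX hXne hPX
    set K := X.comap π with hKdef
    have hKp : IsPGroup p K :=
      ((P.2.map π).to_le hX).comap_of_ker_isPGroup π (by rw [QuotientGroup.ker_mk']; exact hHp)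
    have hNK : Subgroup.normalizer (K : Set G) = (Subgroup.normalizer (X : Set (G ⧸ H))).comap π :=
      (Subgroup.comap_normalizer_eq_of_surjective _ hπ).symm
    have hHK : H < K := by
      refine lt_of_le_of_ne (fun x hx => ?_) fun e0 => hXne (le_bot_iff.1 fun y hy => ?_)
      · show π x ∈ X
        rw [show π x = 1 from (QuotientGroup.eq_one_iff x).2 hx]; exact one_mem _
      · obtain ⟨x, rfl⟩ := hπ y
        exact Subgroup.mem_bot.2 ((QuotientGroup.eq_one_iff x).2 (e0.ge hy))
    refine npc_of_le_map π ?_ (hK K hKp hHK ?_)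
    · rw [hNK, Subgroup.map_comap_eq_self_of_surjective hπ]
    · rw [hNK]
      exact fun x hx => hPX ⟨x, hx, rfl⟩
  have hzb : IsPGroup p Pb := P.2.map π
  have hquot : HasNormalPComplement p (G ⧸ H) := by
    refine ih _ (hn ▸ CfsgLib.Solvable.card_quotient_lt _ hHne) (G ⧸ H) (P.mapSurjective hπ) rfl ?_ ?_
    · exact hkey _ (jGen_le p Pb) (jGen_ne_bot (Or.inr rfl) hzb hPbne)
        (Subgroup.le_normalizer.trans (normalizer_le_normalizer_jGen p Pb))
    · refine npc_of_le ?_ (hkey (zSyl Pb) inf_le_left (zSyl_ne_bot hzb hPbne) ?_)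
      · exact fun q hq => CfsgLib.Solvable.mem_normalizer_of_conj_mem fun z hz => by
          rw [← Subgroup.mem_centralizer_iff.1 hq z hz, mul_inv_cancel_right]; exact hz
      · exact fun q hq => CfsgLib.Solvable.mem_normalizer_of_conj_mem fun z hz => by
          rw [Subgroup.mem_centralizer_iff.1 hz.2 q hq, mul_inv_cancel_right]; exact hz
  obtain ⟨hc, hst, hmaxP, K, hKn, hHK, hKcop, hKP⟩ := final_structure hp2 P hG hO hquot hprop
  set Z := zjGen p (P : Subgroup G) with hZ
  have hZn : Z.Normal := zjGen_normal hp2 (fun Q _ hQ => hst.isPStableOn Q hQ) (Or.inr rfl) P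
    ⟨le_rfl, fun _ _ _ h => h⟩ hc
  set M := Subgroup.centralizer (Z : Set G) ⊔ (P : Subgroup G) with hM
  by_cases hMtop : M = ⊤
  swap
  · -- `J` is normal
    apply hG
    have hMP := hmaxP M le_sup_right hMtop
    have hCH : Subgroup.centralizer (Z : Set G) ≤ H :=
      CfsgLib.Cores.le_pCore (P.2.to_le (le_sup_left.trans hMP.le))
    have hJH : jGen p (P : Subgroup G) ≤ H := fun x hx => hCH
      (Subgroup.mem_centralizer_iff.2 fun z hz => (Subgroup.mem_centralizer_iff.1 hz.2 x hx).symm)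
    have hJeq : jGen p (P : Subgroup G) = jGen p H := by
      obtain ⟨A₀, h0⟩ := maxAdm_nonempty p (P : Subgroup G)
      have hHle := CfsgLib.Cores.pCore_le_sylow (p := p) P
      refine le_antisymm (sSup_le fun A hA => ?_) (sSup_le fun A hA => ?_)
      · exact le_jGen ⟨(le_jGen hA).trans hJH, hA.2.1, fun C hC hCa => hA.2.2 C (hC.trans hHle) hCa⟩
      · exact le_jGen (maxAdm_of_le hHle h0 ((le_jGen h0).trans hJH) hA)
    refine (npc_top_iff (eq_top_iff.2 ?_)).1 hJ
    rw [hJeq]
    exact (Subgroup.normalizer_eq_top (H := H)).ge.trans (normalizer_le_normalizer_jGen p H)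
  -- the centre of `P` is central
  have hΩ : ∀ x ∈ zSyl (P : Subgroup G), x ^ p = 1 → ∀ g : G, g * x = x * g := by
    intro x hx hxp g
    have hxA : ∀ A ∈ maxAdm p (P : Subgroup G), x ∈ A := fun A hA =>
      mem_of_commute_maxAdm (p := p) (Or.inr rfl) hA hx.1 hxp fun a ha =>
        (Subgroup.mem_centralizer_iff.1 hx.2 a (hA.1 ha)).symm
    obtain ⟨A₀, h0⟩ := maxAdm_nonempty p (P : Subgroup G)
    have hxZ : x ∈ Z := ⟨le_jGen h0 (hxA _ h0),
      Subgroup.mem_centralizer_iff.2 fun y hy => Subgroup.mem_centralizer_iff.1 hx.2 y (jGen_le _ _ hy)⟩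
    have hle : M ≤ Subgroup.centralizer ({x} : Set G) := sup_le
      (fun c hc => Subgroup.mem_centralizer_singleton_iff.2 (Subgroup.mem_centralizer_iff.1 hc x hxZ).symm)
      (fun s hs => Subgroup.mem_centralizer_singleton_iff.2 (Subgroup.mem_centralizer_iff.1 hx.2 s hs))
    exact Subgroup.mem_centralizer_singleton_iff.1 (hle (hMtop ▸ Subgroup.mem_top g))
  set A := H ⊓ Subgroup.centralizer (H : Set G) with hA
  have hAn : A.Normal := inferInstance
  have : IsMulCommutative A := ⟨⟨fun a b => Subtype.ext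
    (Subgroup.mem_centralizer_iff.1 b.2.2 a a.2.1)⟩⟩
  have hZA : zSyl (P : Subgroup G) ≤ A := fun z hz => by
    have h1 : z ∈ Subgroup.centralizer (H : Set G) :=
      Subgroup.centralizer_le (CfsgLib.Cores.pCore_le_sylow P) hz.2
    exact ⟨hc h1, h1⟩
  have hcopH : (Nat.card (H.subgroupOf K)).Coprime (H.subgroupOf K).index := by
    obtain ⟨j, hj⟩ := IsPGroup.iff_card.1 hHp
    rw [Nat.card_congr (Subgroup.subgroupOfEquivOfLe hHK).toEquiv, hj]
    exact (hKcop.pow_right j).symm
  obtain ⟨Q', hQ'⟩ := Subgroup.exists_right_complement'_of_coprime hcopH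
  set Q := Q'.map K.subtype with hQ
  have hQc : (Nat.card Q).Coprime (Nat.card A) := by
    obtain ⟨j, hj⟩ := IsPGroup.iff_card.1 (hHp.to_le (inf_le_left : A ≤ H))
    rw [Subgroup.card_map_of_injective K.subtype_injective, ← hQ'.symm.index_eq_card, hj]
    exact hKcop.pow_right j
  have hbot := CfsgLib.Solvable.inf_centralizer_inf_commutator Q A
    (by rw [Subgroup.normalizer_eq_top A]; exact le_top) hQc
  have hAK : ⁅A, K⁆ ≤ ⁅A, Q⁆ := by
    rw [Subgroup.commutator_le]
    intro a ha k hk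
    obtain ⟨h, hh, q, hq, e⟩ := CfsgLib.Solvable.exists_mul_of_mem_sup (K := H.subgroupOf K) (A := Q')
      (by rw [Subgroup.normalizer_eq_top (H.subgroupOf K)]; exact le_top)
      (hQ'.sup_eq_top.ge (Subgroup.mem_top (⟨k, hk⟩ : K)))
    have hk' : k = (h : G) * q := congrArg Subtype.val e
    have h1 : ⁅a, (q : G)⁆ ∈ ⁅A, Q⁆ := Subgroup.commutator_mem_commutator ha ⟨q, hq, rfl⟩
    have h2 : ⁅a, (q : G)⁆ ∈ A := by
      rw [commutatorElement_def, mul_assoc a, mul_assoc a]
      exact mul_mem ha (by simpa [mul_assoc] using hAn.conj_mem _ (inv_mem ha) (q : G))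
    have e1 : ⁅a, k⁆ = ⁅a, (h : G)⁆ * ((h : G) * ⁅a, (q : G)⁆ * (h : G)⁻¹) := by
      rw [hk']; simp only [commutatorElement_def]; group
    have hh' : (h : G) ∈ H := hh
    rw [e1, commutatorElement_eq_one_iff_mul_comm.2 (Subgroup.mem_centralizer_iff.1 ha.2 h hh').symm,
      Subgroup.mem_centralizer_iff.1 h2.2 h hh', one_mul, mul_inv_cancel_right]
    exact h1
  have hzero : ⁅A, K⁆ = ⊥ := by
    by_contra hne
    have hle : ⁅A, K⁆ ≤ (P : Subgroup G) :=
      (Subgroup.commutator_le_left A K).trans (inf_le_left.trans (CfsgLib.Cores.pCore_le_sylow P))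
    obtain ⟨x, hx, hx1, hxp⟩ := exists_pow_one_center P.2 hle hne
      (by rw [Subgroup.normalizer_eq_top]; exact le_top)
    refine hx1 (Subgroup.mem_bot.1 (hbot.le ⟨⟨hZA hx.2, ?_⟩, hAK hx.1⟩))
    exact Subgroup.mem_centralizer_iff.2 fun q _ => hΩ x hx.2 hxp q
  apply hG
  refine (npc_top_iff (eq_top_iff.2 ?_)).1 hC
  rw [← hKP]
  refine sup_le (fun k hk => Subgroup.mem_centralizer_iff.2 fun z hz => ?_)
    (fun s hs => Subgroup.mem_centralizer_iff.2 fun z hz => (Subgroup.mem_centralizer_iff.1 hz.2 s hs).symm)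
  exact commutatorElement_eq_one_iff_mul_comm.1
    (Subgroup.mem_bot.1 (hzero.le (Subgroup.commutator_mem_commutator (hZA hz) hk)))

/-- Thompson's theorem. -/
theorem hasNormalPComplement_of_thompson (hp2 : p ≠ 2) {G : Type u} [Group G] [Finite G]
    (P : Sylow p G)
    (hJ : HasNormalPComplement p (Subgroup.normalizer (jGen p (P : Subgroup G) : Set G)))
    (hC : HasNormalPComplement p (Subgroup.centralizer (zSyl (P : Subgroup G) : Set G))) :
    HasNormalPComplement p G :=
  thompsonStatement hp2 _ G P rfl hJ hC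

end CfsgLib.PStab
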