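import Cfsg.Prelude.Def_EvenType
import Cfsg.Agent.Lib.PStab.Complement
import Cfsg.Agent.Lib.Techniques.Functor.LocalGlobal
import Cfsg.Agent.Lib.Techniques.Functor.Reach
import Cfsg.Agent.Lib.Solvable.SchurZassenhaus
import Cfsg.Agent.Lib.Cores.PConstrained

/-!
Control of fusion by the normaliser of `Z(J(D))` in groups with stable, constrained local subgroups.
-/

set_option autoImplicit false

namespace CfsgLib.PStab

open Cfsg Subgroup
open CfsgLib.Fusion (conjSub conj_mem_conjSub)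
open CfsgLib.Techniques.Functor (Full Agree LocalAt local_global exists_full full_of_le)
open scoped commutatorElement

variable {G : Type*} [Group G] [Finite G] {p : ℕ} [hp : Fact p.Prime]

/-- The `p'`-core of a subgroup, inside the group. -/
def pPrimeCoreIn (p : ℕ) (N : Subgroup G) : Subgroup G := (pPrimeCore p N).map N.subtype

theorem le_normalizer_pPrimeCoreIn (N : Subgroup G) :
    N ≤ Subgroup.normalizer (pPrimeCoreIn p N : Set G) := fun g hg =>
  CfsgLib.Solvable.mem_normalizer_of_conj_mem fun x hx => by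
    obtain ⟨y, hy, rfl⟩ := hx
    exact ⟨⟨g, hg⟩ * y * ⟨g, hg⟩⁻¹, (inferInstance : (pPrimeCore p N).Normal).conj_mem y hy _, rfl⟩

theorem coprime_card_pPrimeCoreIn (N : Subgroup G) : (Nat.card (pPrimeCoreIn p N)).Coprime p := by
  rw [pPrimeCoreIn, Subgroup.card_map_of_injective N.subtype_injective]
  exact CfsgLib.Cores.coprime_card_pPrimeCore p

theorem eq_one_of_mem_of_coprime {K B : Subgroup G} (hK : (Nat.card K).Coprime p) (hB : IsPGroup p B)
    {x : G} (hxK : x ∈ K) (hxB : x ∈ B) : x = 1 := by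
  have h := CfsgLib.Transfer.eq_one_of_coprime_of_isPGroup hB (a := ⟨x, hxB⟩) <| by
    rw [Subgroup.orderOf_mk]
    exact Nat.Coprime.coprime_dvd_left (Subgroup.orderOf_dvd_natCard K hxK) hK
  exact congrArg Subtype.val h

/-- Replace the cofactor of a `p'`-part so that conjugation agrees on `A`. -/
theorem exists_agree {K M A : Subgroup G} (hMK : M ≤ Subgroup.normalizer (K : Set G))
    (hK : (Nat.card K).Coprime p) (hA : IsPGroup p A) {k m : G} (hk : k ∈ K) (hm : m ∈ M)
    (hAM : A ≤ M) (hnA : conjSub (k * m) A ≤ M) : ∃ m' ∈ M, Agree A m' (k * m) := by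
  set K0 := K ⊓ M
  set B := conjSub m A with hB
  set B' := conjSub (k * m) A with hB'
  have hBM : B ≤ M := by
    rintro _ ⟨a, ha, rfl⟩
    exact mul_mem (mul_mem hm (hAM ha)) (inv_mem hm)
  have hdiff : ∀ a ∈ A, (k * m) * a * (k * m)⁻¹ * (m * a * m⁻¹)⁻¹ ∈ K := fun a ha => by
    have hb : m * a * m⁻¹ ∈ M := mul_mem (mul_mem hm (hAM ha)) (inv_mem hm)
    have := mul_mem hk ((Subgroup.mem_normalizer_iff.1 (hMK hb) _).1 (inv_mem hk))
    convert this using 1
    group
  have hBn : B ≤ Subgroup.normalizer (K0 : Set G) := fun b hb =>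
    CfsgLib.Solvable.mem_normalizer_of_conj_mem fun x hx =>
      ⟨(Subgroup.mem_normalizer_iff.1 (hMK (hBM hb)) x).1 hx.1,
        M.mul_mem (M.mul_mem (hBM hb) hx.2) (M.inv_mem (hBM hb))⟩
  have hBp : IsPGroup p B := hA.map _
  have hB'p : IsPGroup p B' := hA.map _
  have hK0 : (Nat.card K0).Coprime p :=
    Nat.Coprime.coprime_dvd_left (Subgroup.card_dvd_of_le inf_le_left) hK
  have hd : K0 ⊓ B = ⊥ :=
    eq_bot_iff.2 fun x hx => Subgroup.mem_bot.2 (eq_one_of_mem_of_coprime hK0 hBp hx.1 hx.2)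
  have hle : B' ≤ K0 ⊔ B := by
    rintro _ ⟨a, ha, rfl⟩
    have h1 : (k * m) * a * (k * m)⁻¹ * (m * a * m⁻¹)⁻¹ ∈ K0 :=
      ⟨hdiff a ha, M.mul_mem (hnA (conj_mem_conjSub ha)) (M.inv_mem (hBM (conj_mem_conjSub ha)))⟩
    have h2 := mul_mem (Subgroup.mem_sup_left h1 : _ ∈ K0 ⊔ B)
      (Subgroup.mem_sup_right (conj_mem_conjSub ha) : m * a * m⁻¹ ∈ K0 ⊔ B)
    rw [inv_mul_cancel_right] at h2
    exact h2
  obtain ⟨j, hj⟩ := IsPGroup.iff_card.1 hB'p
  have hnil : Group.IsNilpotent B' := hB'p.isNilpotent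
  obtain ⟨k0, hk0, hle'⟩ := CfsgLib.Solvable.exists_conj_le K0 B B' hBn hd hle (hj ▸ hK0.pow_right j)
    (Or.inr inferInstance)
  refine ⟨k0⁻¹ * m, mul_mem (inv_mem hk0.2) hm, fun a ha => ?_⟩
  set q := (k * m) * a * (k * m)⁻¹ with hq
  have hqB : k0 * q * k0⁻¹ ∈ B := CfsgLib.Solvable.conj_smul_le_iff.1 hle' q (conj_mem_conjSub ha)
  have hqM : q ∈ M := hnA (conj_mem_conjSub ha)
  have e : k0 * q * k0⁻¹ * (m * a * m⁻¹)⁻¹ = 1 := by
    refine eq_one_of_mem_of_coprime hK hBp ?_ (mul_mem hqB (inv_mem (conj_mem_conjSub ha)))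
    have hk0K : k0 ∈ K := hk0.1
    have h1 := mul_mem hk0K ((Subgroup.mem_normalizer_iff.1 (hMK hqM) _).1 (inv_mem hk0K))
    have h2 := mul_mem h1 (hdiff a ha)
    convert h2 using 1
    rw [hq]; group
  rw [mul_inv_eq_one] at e
  calc k0⁻¹ * m * a * (k0⁻¹ * m)⁻¹ = k0⁻¹ * (m * a * m⁻¹) * k0 := by group
    _ = q := by rw [← e]; group

variable (S : Sylow p G)

/-- The local factorisation for the functor `W`. -/
def FactorAt (W : Subgroup G → Subgroup G) (X : Subgroup G) : Prop :=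
  ∀ n ∈ Subgroup.normalizer (X : Set G),
    ∃ k ∈ pPrimeCoreIn p (Subgroup.normalizer (X : Set G)),
      ∃ m ∈ Subgroup.normalizer (X : Set G) ⊓
        Subgroup.normalizer (W ((S : Subgroup G) ⊓ Subgroup.normalizer (X : Set G)) : Set G),
        n = k * m

/-- Local factorisations give control of fusion. -/
theorem control_of_factor {e : ℕ} (he : e = 0 ∨ e = p) {D : Subgroup G}
    (hD : IsStronglyClosed D (S : Subgroup G))
    (hfac : ∀ X ≤ (S : Subgroup G), X ≠ ⊥ → Full p (S : Subgroup G) X →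
      FactorAt S (fun P1 => zjGen e (D ⊓ P1)) X) :
    ∀ A g, A ≤ (S : Subgroup G) → conjSub g A ≤ (S : Subgroup G) →
      ∃ m ∈ Subgroup.normalizer (zjGen e D : Set G), Agree A m g := by
  have hDS : D ≤ (S : Subgroup G) := hD.1
  by_cases hDne : D = ⊥
  · intro A g _ _
    refine ⟨g, ?_, Agree.refl A g⟩
    have : zjGen e D = ⊥ := le_bot_iff.1 ((zjGen_le e D).trans hDne.le)
    rw [this, Subgroup.normalizer_eq_top]; trivial
  have hSD : (S : Subgroup G) ≤ Subgroup.normalizer (D : Set G) := fun s hs =>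
    mem_normalizer_of_stronglyClosed S hD fun x hx => mul_mem (mul_mem hs (hDS hx)) (inv_mem hs)
  refine local_global S (fun A g => ∃ m ∈ Subgroup.normalizer (zjGen e D : Set G), Agree A m g)
    (fun X => Full p (S : Subgroup G) X) ?_ ?_ ?_ ?_ (fun X h => h) (fun X _ h => full_of_le S h) ?_
  · rintro A B g hBA ⟨m, hm, hag⟩
    exact ⟨m, hm, hag.mono hBA⟩
  · rintro A g h ⟨m, hm, hag⟩ ⟨m2, hm2, hag2⟩
    exact ⟨m2 * m, mul_mem hm2 hm, hag.mul hag2⟩
  · exact fun g => ⟨1, one_mem _, fun a ha => by rw [Subgroup.mem_bot.1 ha]; simp⟩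
  · intro X hX
    obtain ⟨u, h1, h2, h3⟩ := exists_full S hX
    exact ⟨u, h2, h1, h3⟩
  intro X hX hX0 hgood ih A n hn hA hnA
  set N := Subgroup.normalizer (X : Set G) with hN
  set Q := (S : Subgroup G) ⊓ N with hQ
  obtain ⟨k, hk, m, hm, e1⟩ := hfac X hX hX0 hgood n hn
  have hQM : Q ≤ N ⊓ Subgroup.normalizer (zjGen e (D ⊓ Q) : Set G) := by
    refine le_inf inf_le_right fun q hq => normalizer_le_normalizer_zjGen e _ ?_
    exact CfsgLib.Solvable.mem_normalizer_of_conj_mem fun x hx =>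
      ⟨(Subgroup.mem_normalizer_iff.1 (hSD hq.1) x).1 hx.1, Q.mul_mem (Q.mul_mem hq hx.2) (Q.inv_mem hq)⟩
  obtain ⟨m', hm', hag⟩ := exists_agree (inf_le_left.trans (le_normalizer_pPrimeCoreIn (p := p) N))
    (coprime_card_pPrimeCoreIn N) (S.2.to_le (hA.trans inf_le_left)) hk hm (hA.trans hQM)
    ((e1 ▸ hnA).trans hQM)
  rw [← e1] at hag
  rcases eq_or_lt_of_le (inf_le_left : Q ≤ (S : Subgroup G)) with heq | hlt
  · refine ⟨m', ?_, hag⟩
    have h2 := hm'.2
    have hW : zjGen e (D ⊓ Q) = zjGen e D := by rw [show Q = (S : Subgroup G) from heq, inf_eq_left.2 hDS]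
    rw [← hW]
    exact h2
  set Y := zjGen e (D ⊓ Q) with hY
  have hYS : Y ≤ (S : Subgroup G) := (zjGen_le e _).trans (inf_le_left.trans hDS)
  have hY0 : Y ≠ ⊥ := by
    refine zjGen_ne_bot he (S.2.to_le (inf_le_left.trans hDS)) fun h0 => ?_
    obtain ⟨x, hx, hx1, -⟩ := exists_pow_one_center S.2 hDS hDne hSD
    refine hx1 (Subgroup.mem_bot.1 (h0.le ⟨hx.1, hx.2.1, ?_⟩))
    exact CfsgLib.Solvable.mem_normalizer_of_conj_mem fun y hy => by
      rw [← Subgroup.mem_centralizer_iff.1 hx.2.2 y (hX hy), mul_inv_cancel_right]; exact hy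
  have hle : (S : Subgroup G) ⊓ Subgroup.normalizer (Q : Set G) ≤
      (S : Subgroup G) ⊓ Subgroup.normalizer (Y : Set G) := by
    refine le_inf inf_le_left fun q hq => normalizer_le_normalizer_zjGen e _ ?_
    exact CfsgLib.Solvable.mem_normalizer_of_conj_mem fun x hx =>
      ⟨(Subgroup.mem_normalizer_iff.1 (hSD hq.1) x).1 hx.1,
        (Subgroup.mem_normalizer_iff.1 hq.2 x).1 hx.2⟩
  have hcard : Nat.card Q < Nat.card ↥((S : Subgroup G) ⊓ Subgroup.normalizer (Y : Set G)) :=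
    (CfsgLib.Techniques.Functor.card_lt_of_lt (CfsgLib.Techniques.Functor.lt_norm S.2 hlt)).trans_le
      (Subgroup.card_le_of_le hle)
  have hQY : Q ≤ (S : Subgroup G) ⊓ Subgroup.normalizer (Y : Set G) :=
    le_inf inf_le_left (hQM.trans inf_le_right)
  obtain ⟨m2, hm2, hag2⟩ := ih Y hYS hY0 hcard A m' hm'.2 (hA.trans hQY)
    ((hag.conjSub_eq.le.trans hnA).trans hQY)
  exact ⟨m2, hm2, hag2.trans hag⟩

/-- Strong control of fusion in the frozen form. -/
theorem controlsStrongFusionOf_of_control {M : Subgroup G}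
    (h : ∀ A g, A ≤ (S : Subgroup G) → conjSub g A ≤ (S : Subgroup G) → ∃ m ∈ M, Agree A m g)
    (A : Set G) (hA : A ⊆ (S : Subgroup G)) : ControlsStrongFusionOf M (S : Subgroup G) A := by
  refine ⟨hA, fun g hg => ?_⟩
  obtain ⟨m, hm, hag⟩ := h (Subgroup.closure A) g ((Subgroup.closure_le _).2 hA) (by
    rw [conjSub, MonoidHom.map_closure, Subgroup.closure_le]
    rintro _ ⟨a, ha, rfl⟩
    exact hg ⟨a, ha, rfl⟩)
  exact ⟨m, hm, fun a ha => (hag a (Subgroup.subset_closure ha)).symm⟩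

/-- A strongly closed subgroup stays strongly closed in a quotient by a `p'`-group. -/
theorem isStronglyClosed_map_of_coprime {D : Subgroup G} (hD : IsStronglyClosed D (S : Subgroup G))
    (N : Subgroup G) [N.Normal] :
    IsStronglyClosed (D.map (QuotientGroup.mk' N)) ((S : Subgroup G).map (QuotientGroup.mk' N)) := by
  set π := QuotientGroup.mk' N
  have hπ : Function.Surjective π := QuotientGroup.mk'_surjective N
  refine ⟨Subgroup.map_mono hD.1, ?_⟩
  rintro _ ⟨x, hx, rfl⟩ q hq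
  obtain ⟨g, rfl⟩ := hπ q
  have hy : g * x * g⁻¹ ∈ (S : Subgroup G) ⊔ N := by
    obtain ⟨s, hs, e1⟩ := hq
    have h2 : s⁻¹ * (g * x * g⁻¹) ∈ N := QuotientGroup.eq.1 (by simpa [π] using e1)
    have := mul_mem (Subgroup.mem_sup_left hs : s ∈ (S : Subgroup G) ⊔ N)
      (Subgroup.mem_sup_right h2 : _ ∈ (S : Subgroup G) ⊔ N)
    rwa [mul_inv_cancel_left] at this
  obtain ⟨m, hm, hmy⟩ := CfsgLib.Transfer.exists_conj_mem_sylow_of_le S
    (H := (S : Subgroup G) ⊔ N) (S := D.map (MulAut.conj g).toMonoidHom ⊓ Subgroup.zpowers (g * x * g⁻¹))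
    le_sup_left (inf_le_right.trans (Subgroup.zpowers_le.2 hy))
    ((S.2.to_le hD.1).map _ |>.to_le inf_le_left)
  have h3 := hmy (g * x * g⁻¹) ⟨⟨x, hx, rfl⟩, Subgroup.mem_zpowers _⟩
  have hd : (m * g) * x * (m * g)⁻¹ ∈ D := hD.2 x hx _ (by convert h3 using 1; group)
  obtain ⟨k, hk, s, hs, e2⟩ := CfsgLib.Solvable.exists_mul_of_mem_sup (K := N) (A := (S : Subgroup G))
    (by rw [Subgroup.normalizer_eq_top N]; exact le_top) (by rwa [sup_comm] at hm)
  refine ⟨s⁻¹ * ((m * g) * x * (m * g)⁻¹) * s, ?_, ?_⟩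
  · exact (Subgroup.mem_normalizer_iff''.1 (mem_normalizer_of_stronglyClosed S hD
      (fun x hx => mul_mem (mul_mem hs (hD.1 hx)) (inv_mem hs))) _).1 hd
  · have : π k = 1 := (QuotientGroup.eq_one_iff k).2 hk
    rw [e2]
    simp only [map_mul, map_inv, this, one_mul]
    group

/-- Stability passes to quotients by `p'`-groups. -/
theorem StableAll.quotient (h : StableAll p G) (N : Subgroup G) [N.Normal]
    (hN : (Nat.card N).Coprime p) : StableAll p (G ⧸ N) := by
  intro P hP a ha hq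
  set π := QuotientGroup.mk' N
  have hπ : Function.Surjective π := QuotientGroup.mk'_surjective N
  set M := P.comap π
  obtain ⟨T⟩ : Nonempty (Sylow p M) := inferInstance
  set P' := (T : Subgroup M).map M.subtype with hP'
  have hmap : P'.map π = P := by
    refine le_antisymm (Subgroup.map_le_iff_le_comap.2 (Subgroup.map_subtype_le _)) fun y hy => ?_
    obtain ⟨x, rfl⟩ := hπ y
    set f := π.subgroupComap P
    have hf : Function.Surjective f := π.subgroupComap_surjective_of_surjective P hπ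
    have htop : ((T.mapSurjective hf : Sylow p P) : Subgroup P) = ⊤ :=
      (T.mapSurjective hf).3 ((hP.to_subgroup ⊤)) le_top |>.symm
    obtain ⟨t, ht, e⟩ := htop.ge (Subgroup.mem_top (⟨π x, hy⟩ : P))
    exact ⟨t, ⟨t, ht, rfl⟩, congrArg Subtype.val e⟩
  have hP'p : IsPGroup p P' := T.2.map _
  obtain ⟨a', ha', rfl⟩ := normalizer_map_le hN hP'p (hmap.symm ▸ ha)
  have hq' : IsQuad P' a' := by
    intro x hx
    have h1 : ⁅⁅x, a'⁆, a'⁆ ∈ N := by
      have := hq (π x) (hmap.le ⟨x, hx, rfl⟩)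
      rw [← map_commutatorElement, ← map_commutatorElement] at this
      exact (QuotientGroup.eq_one_iff _).1 this
    have hc : ∀ y ∈ P', ⁅y, a'⁆ ∈ P' := fun y hy => by
      rw [commutatorElement_def, mul_assoc y, mul_assoc y]
      exact mul_mem hy (by simpa [mul_assoc] using (Subgroup.mem_normalizer_iff.1 ha' _).1 (inv_mem hy))
    exact eq_one_of_mem_of_coprime hN hP'p h1 (hc _ (hc x hx))
  obtain ⟨K, hKN, hNK, haK, hK⟩ := h P' hP'p a' ha' hq'
  have hNmap : Subgroup.normalizer (P : Set (G ⧸ N)) ≤ (Subgroup.normalizer (P' : Set G)).map π :=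
    hmap ▸ normalizer_map_le hN hP'p
  refine ⟨K.map π, (Subgroup.map_mono hKN).trans (hmap ▸ Subgroup.le_normalizer_map π),
    hNmap.trans ((Subgroup.map_mono hNK).trans (Subgroup.le_normalizer_map π)), ⟨a', haK, rfl⟩, ?_⟩
  rintro _ ⟨k, hk, rfl⟩
  obtain ⟨n, hn⟩ := hK k hk
  refine ⟨n, ?_⟩
  rw [← map_pow, Subgroup.mem_centralizer_iff, ← hmap]
  rintro _ ⟨y, hy, rfl⟩
  rw [← map_mul, ← map_mul, Subgroup.mem_centralizer_iff.1 hn y hy]

/-- The factorisation in a stable constrained local subgroup. -/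
theorem factorAt_of_constrained (hp2 : p ≠ 2) (hst : StableAll p G) {e : ℕ} (he : e = 0 ∨ e = p)
    {D : Subgroup G} (hD : IsStronglyClosed D (S : Subgroup G)) {X : Subgroup G}
    (hfull : Full p (S : Subgroup G) X)
    (hc : IsPConstrained p (Subgroup.normalizer (X : Set G))) :
    FactorAt S (fun P1 => zjGen e (D ⊓ P1)) X := by
  set N := Subgroup.normalizer (X : Set G) with hN
  set K := pPrimeCore p N
  set Q := (S : Subgroup G) ⊓ N with hQ
  have hKc := CfsgLib.Cores.coprime_card_pPrimeCore (G := N) p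
  let T : Sylow p N := IsPGroup.toSylow
    ((S.2.to_le (inf_le_left : Q ≤ S)).of_equiv (Subgroup.subgroupOfEquivOfLe (inf_le_right : Q ≤ N)).symm)
    hfull
  have hT : (T : Subgroup N) = Q.subgroupOf N := IsPGroup.toSylow_coe _ _
  have hD' : IsStronglyClosed (D.subgroupOf N) (T : Subgroup N) := by
    refine ⟨fun x hx => ?_, fun x hx g hgx => ?_⟩
    · rw [hT]; exact ⟨hD.1 hx, x.2⟩
    · rw [hT] at hgx
      exact hD.2 (x : G) hx (g : G) hgx.1
  set π := QuotientGroup.mk' K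
  have hπ : Function.Surjective π := QuotientGroup.mk'_surjective K
  have hDp : IsPGroup p (D.subgroupOf N) := T.2.to_le hD'.1
  have hinj : Function.Injective (π.comp (D.subgroupOf N).subtype) := by
    rw [injective_iff_map_eq_one]
    intro x hx
    exact Subtype.ext (eq_one_of_mem_of_coprime hKc hDp ((QuotientGroup.eq_one_iff _).1 hx) x.2)
  have hnorm : (zjGen e ((D.subgroupOf N).map π)).Normal :=
    zjGen_normal hp2
      (fun B _ hB => ((hst.subgroup N).quotient K hKc).isPStableOn B hB) he (T.mapSurjective hπ)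
      (isStronglyClosed_map_of_coprime T hD' K) (CfsgLib.Cores.isPConstrained_iff.1 hc)
  rw [zjGen_map_of_injective_restrict hinj] at hnorm
  have htop := normalizer_map_le hKc (hDp.to_le (zjGen_le e (D.subgroupOf N)))
  rw [Subgroup.normalizer_eq_top] at htop
  intro n hn
  obtain ⟨m, hm, e1⟩ := htop (Subgroup.mem_top (π ⟨n, hn⟩))
  have hk : (⟨n, hn⟩ : N) * m⁻¹ ∈ K := by
    rw [← QuotientGroup.eq_one_iff]
    show π (⟨n, hn⟩ * m⁻¹) = 1
    rw [map_mul, map_inv, e1, mul_inv_cancel]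
  refine ⟨_, ⟨_, hk, rfl⟩, m, ⟨m.2, ?_⟩, by simp⟩
  have hW : zjGen e (D ⊓ Q) = (zjGen e (D.subgroupOf N)).map N.subtype := by
    rw [← zjGen_map N.subtype_injective, Subgroup.subgroupOf_map_subtype, hQ, ← inf_assoc,
      inf_eq_left.2 hD.1]
  show (m : G) ∈ Subgroup.normalizer (zjGen e (D ⊓ Q) : Set G)
  rw [hW]
  exact Subgroup.le_normalizer_map N.subtype ⟨m, hm, rfl⟩

end CfsgLib.PStab
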