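import Cfsg.Agent.Lib.PStab.CentralQuotient
import Cfsg.Agent.Lib.PStab.Fusion

/-!
In a stable group of odd `p` the normaliser of `Z(J(D))` controls fusion, without any constraint.
-/

set_option autoImplicit false

namespace CfsgLib.PStab

open Cfsg Subgroup
open CfsgLib.Fusion (conjSub conjSub_conjSub conjSub_one conjSub_mono card_conjSub conj_mem_conjSub
  conjSub_eq_iff_mem_normalizer)
open CfsgLib.Techniques.Functor (Full Agree local_global exists_full full_of_le conjSub_norm_le lt_norm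
  card_lt_of_lt relIndex_sylow_not_dvd)
open scoped commutatorElement

universe u

variable {G : Type u} [Group G] [Finite G] {p : ℕ} [hp : Fact p.Prime]

/-- Stability passes along injective homomorphisms. -/
theorem StableAll.of_injective {H : Type*} [Group H] [Finite H] (hst : StableAll p G) (f : H →* G)
    (hf : Function.Injective f) : StableAll p H := by
  intro P hP a ha hq
  have hN : ∀ g ∈ normalizer (P : Set H), f g ∈ normalizer ((P.map f : Subgroup G) : Set G) := fun g hg =>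
    le_normalizer_map f (mem_map_of_mem f hg)
  have hq' : IsQuad (P.map f) (f a) := by
    rintro _ ⟨x, hx, rfl⟩
    rw [← map_commutatorElement, ← map_commutatorElement, hq x hx, map_one]
  obtain ⟨K, hKN, hNK, haK, hK⟩ := hst _ (hP.map f) (f a) (hN a ha) hq'
  refine ⟨K.comap f ⊓ normalizer (P : Set H), inf_le_right, fun g hg => ?_, ⟨haK, ha⟩, ?_⟩
  · refine CfsgLib.Solvable.mem_normalizer_of_conj_mem fun x hx => ⟨?_,
      (normalizer (P : Set H)).mul_mem ((normalizer (P : Set H)).mul_mem hg hx.2) ((normalizer (P : Set H)).inv_mem hg)⟩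
    show f (g * x * g⁻¹) ∈ K
    rw [map_mul, map_mul, map_inv]
    exact (mem_normalizer_iff.1 (hNK (hN g hg)) (f x)).1 hx.1
  · rintro k ⟨hk, -⟩
    obtain ⟨n, hn⟩ := hK (f k) hk
    refine ⟨n, mem_centralizer_iff.2 fun x hx => hf ?_⟩
    rw [map_mul, map_mul, map_pow]
    exact mem_centralizer_iff.1 hn (f x) ⟨x, hx, rfl⟩

/-- Stability of the quotient by a `p`-group with automiser a `p`-group. -/
theorem StableAll.quotient_of_sup (hp2 : p ≠ 2) : ∀ (n : ℕ) {G : Type u} [Group G] [Finite G],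
    Nat.card G ≤ n → StableAll p G → ∀ (X : Subgroup G) [X.Normal] (S : Sylow p G), IsPGroup p X →
      centralizer (X : Set G) ⊔ (S : Subgroup G) = ⊤ → StableAll p (G ⧸ X) := by
  intro n
  induction n using Nat.strong_induction_on with
  | _ n ih =>
  intro G _ _ hn hst X hXn S hX htop
  by_cases hbot : X = ⊥
  · subst hbot
    exact hst.of_injective (QuotientGroup.quotientBot (G := G)).toMonoidHom
      (QuotientGroup.quotientBot (G := G)).injective
  have hXS : X ≤ (S : Subgroup G) := (CfsgLib.Cores.le_pCore hX).trans (CfsgLib.Cores.pCore_le_sylow S)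
  obtain ⟨z, hz, hz1, -⟩ := exists_pow_one_center (p := p) S.2 hXS hbot
    (by rw [Subgroup.normalizer_eq_top]; exact le_top)
  have hzc : ∀ g : G, g * z = z * g := by
    intro g
    have hle : centralizer (X : Set G) ⊔ (S : Subgroup G) ≤ centralizer ({z} : Set G) := by
      refine sup_le (fun c hc => mem_centralizer_singleton_iff.2 ?_) fun s hs => mem_centralizer_singleton_iff.2 ?_
      · exact (mem_centralizer_iff.1 hc z hz.1).symm
      · exact mem_centralizer_iff.1 hz.2.2 s hs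
    exact mem_centralizer_singleton_iff.1 (hle (htop ▸ mem_top g))
  set Z := zpowers z with hZdef
  have hZc : ∀ w ∈ Z, ∀ g : G, g * w = w * g := by
    intro w hw g
    obtain ⟨k, rfl⟩ := mem_zpowers_iff.1 hw
    exact (Commute.zpow_right (hzc g) k).eq
  have hZn : Z.Normal := ⟨fun w hw g => by rw [hZc w hw g, mul_inv_cancel_right]; exact hw⟩
  have hZX : Z ≤ X := zpowers_le.2 hz.1
  have hst1 : StableAll p (G ⧸ Z) := hst.quotient_central hp2 Z (hX.to_le hZX) hZc
  set π := QuotientGroup.mk' Z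
  have hπ : Function.Surjective π := QuotientGroup.mk'_surjective Z
  have hXn' : (X.map π).Normal := hXn.map π hπ
  have hlt : Nat.card (G ⧸ Z) < Nat.card G := by
    rw [card_eq_card_quotient_mul_card_subgroup Z]
    refine lt_mul_of_one_lt_right Nat.card_pos ?_
    rw [hZdef, Nat.card_zpowers]
    exact lt_of_le_of_ne (orderOf_pos z) fun e => hz1 (orderOf_eq_one_iff.1 e.symm)
  have h2 := ih _ (lt_of_lt_of_le hlt hn) le_rfl hst1 (X.map π) (S.mapSurjective hπ) (hX.map π) (by
    rw [eq_top_iff, ← map_top_of_surjective π hπ, ← htop, Subgroup.map_sup]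
    refine sup_le_sup ?_ le_rfl
    rintro _ ⟨c, hc, rfl⟩
    refine mem_centralizer_iff.2 ?_
    rintro _ ⟨x, hx, rfl⟩
    rw [← map_mul, ← map_mul, mem_centralizer_iff.1 hc x hx])
  exact h2.of_injective (QuotientGroup.quotientQuotientEquivQuotient Z X hZX).symm.toMonoidHom
    (QuotientGroup.quotientQuotientEquivQuotient Z X hZX).symm.injective

/-- The normaliser form of the control of fusion for `D` in `S`. -/
def CtrlAt (S D : Subgroup G) (e : ℕ) : Prop :=
  ∀ A g, A ≤ S → conjSub g A ≤ S → ∃ m ∈ normalizer (zjGen e D : Set G), Agree A m g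

variable (S : Sylow p G)

/-- Local agreement gives control of fusion. -/
theorem control_of_local {e : ℕ} (he : e = 0 ∨ e = p) {D : Subgroup G}
    (hD : IsStronglyClosed D (S : Subgroup G))
    (hloc : ∀ X ≤ (S : Subgroup G), X ≠ ⊥ → Full p (S : Subgroup G) X →
      ∀ A n, n ∈ normalizer (X : Set G) → A ≤ (S : Subgroup G) ⊓ normalizer (X : Set G) →
        conjSub n A ≤ (S : Subgroup G) ⊓ normalizer (X : Set G) →
        ∃ m ∈ normalizer (X : Set G) ⊓
          normalizer (zjGen e (D ⊓ ((S : Subgroup G) ⊓ normalizer (X : Set G))) : Set G), Agree A m n) :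
    CtrlAt (S : Subgroup G) D e := by
  have hDS : D ≤ (S : Subgroup G) := hD.1
  by_cases hDne : D = ⊥
  · intro A g _ _
    refine ⟨g, ?_, Agree.refl A g⟩
    have : zjGen e D = ⊥ := le_bot_iff.1 ((zjGen_le e D).trans hDne.le)
    rw [this, Subgroup.normalizer_eq_top]; trivial
  have hSD : (S : Subgroup G) ≤ Subgroup.normalizer (D : Set G) := fun s hs =>
    mem_normalizer_of_stronglyClosed S hD fun x hx => mul_mem (mul_mem hs (hDS hx)) (inv_mem hs)
  refine local_global S (fun A g => ∃ m ∈ Subgroup.normalizer (zjGen e D : Set G), Agree A m g)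
    (fun X => Full p (S : Subgroup G) X) ?_ ?_ ?_ ?_ (fun X h => h) (fun X _ h => full_of_le S h) ?_
  · rintro A B g hBA ⟨m, hm, hag⟩
    exact ⟨m, hm, hag.mono hBA⟩
  · rintro A g h ⟨m, hm, hag⟩ ⟨m2, hm2, hag2⟩
    exact ⟨m2 * m, mul_mem hm2 hm, hag.mul hag2⟩
  · exact fun g => ⟨1, one_mem _, fun a ha => by rw [Subgroup.mem_bot.1 ha]; simp⟩
  · intro X hX
    obtain ⟨u, h1, h2, h3⟩ := exists_full S hX
    exact ⟨u, h2, h1, h3⟩
  intro X hX hX0 hgood ih A n hn hA hnA
  set N := Subgroup.normalizer (X : Set G) with hN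
  set Q := (S : Subgroup G) ⊓ N with hQ
  obtain ⟨m', hm', hag⟩ := hloc X hX hX0 hgood A n hn hA hnA
  rcases eq_or_lt_of_le (inf_le_left : Q ≤ (S : Subgroup G)) with heq | hlt
  · refine ⟨m', ?_, hag⟩
    have h2 := hm'.2
    have hW : zjGen e (D ⊓ Q) = zjGen e D := by rw [show Q = (S : Subgroup G) from heq, inf_eq_left.2 hDS]
    rw [← hW]
    exact h2
  set Y := zjGen e (D ⊓ Q) with hY
  have hYS : Y ≤ (S : Subgroup G) := (zjGen_le e _).trans (inf_le_left.trans hDS)
  have hY0 : Y ≠ ⊥ := by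
    refine zjGen_ne_bot he (S.2.to_le (inf_le_left.trans hDS)) fun h0 => ?_
    obtain ⟨x, hx, hx1, -⟩ := exists_pow_one_center S.2 hDS hDne hSD
    refine hx1 (Subgroup.mem_bot.1 (h0.le ⟨hx.1, hx.2.1, ?_⟩))
    exact CfsgLib.Solvable.mem_normalizer_of_conj_mem fun y hy => by
      rw [← Subgroup.mem_centralizer_iff.1 hx.2.2 y (hX hy), mul_inv_cancel_right]; exact hy
  have hle : (S : Subgroup G) ⊓ Subgroup.normalizer (Q : Set G) ≤
      (S : Subgroup G) ⊓ Subgroup.normalizer (Y : Set G) := by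
    refine le_inf inf_le_left fun q hq => normalizer_le_normalizer_zjGen e _ ?_
    exact CfsgLib.Solvable.mem_normalizer_of_conj_mem fun x hx =>
      ⟨(Subgroup.mem_normalizer_iff.1 (hSD hq.1) x).1 hx.1,
        (Subgroup.mem_normalizer_iff.1 hq.2 x).1 hx.2⟩
  have hcard : Nat.card Q < Nat.card ↥((S : Subgroup G) ⊓ Subgroup.normalizer (Y : Set G)) :=
    (card_lt_of_lt (lt_norm S.2 hlt)).trans_le (Subgroup.card_le_of_le hle)
  have hQY : Q ≤ (S : Subgroup G) ⊓ Subgroup.normalizer (Y : Set G) := (le_inf inf_le_left le_normalizer).trans hle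
  obtain ⟨m2, hm2, hag2⟩ := ih Y hYS hY0 hcard A m' hm'.2 (hA.trans hQY)
    ((hag.conjSub_eq.le.trans hnA).trans hQY)
  exact ⟨m2, hm2, hag2.trans hag⟩

omit S

/-- The statement proved by induction. -/
def ControlStatement (p n : ℕ) : Prop :=
  ∀ (G : Type u) [Group G] [Finite G], Nat.card G ≤ n → StableAll p G → ∀ e : ℕ, (e = 0 ∨ e = p) →
    ∀ (S : Sylow p G) (D : Subgroup G), IsStronglyClosed D (S : Subgroup G) → CtrlAt (S : Subgroup G) D e

/-- Control inside a proper subgroup. -/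
theorem ctrl_sub {n : ℕ} (ih : ∀ k < n, ControlStatement.{u} p k) (hn : Nat.card G ≤ n) (hst : StableAll p G)
    {e : ℕ} (he : e = 0 ∨ e = p) {P D : Subgroup G} (hD : IsStronglyClosed D P) {M : Subgroup G} (hM : M ≠ ⊤)
    (hP : IsPGroup p P) (hfull : ¬ p ∣ (P ⊓ M).relIndex M) {A : Subgroup G} {g : G} (hg : g ∈ M)
    (hA : A ≤ P ⊓ M) (hgA : conjSub g A ≤ P ⊓ M) :
    ∃ m ∈ M ⊓ normalizer (zjGen e (D ⊓ (P ⊓ M)) : Set G), Agree A m g := by
  set Q := P ⊓ M with hQ
  let T : Sylow p M := IsPGroup.toSylow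
    ((hP.to_le (inf_le_left : Q ≤ P)).of_equiv (subgroupOfEquivOfLe (inf_le_right : Q ≤ M)).symm) hfull
  have hT : (T : Subgroup M) = Q.subgroupOf M := IsPGroup.toSylow_coe _ _
  have hD' : IsStronglyClosed (D.subgroupOf M) (T : Subgroup M) := by
    refine ⟨fun x hx => ?_, fun x hx g hgx => ?_⟩
    · rw [hT]; exact ⟨hD.1 hx, x.2⟩
    · rw [hT] at hgx
      exact hD.2 (x : G) hx (g : G) hgx.1
  have hlt : Nat.card M < n := lt_of_lt_of_le
    (lt_of_le_of_ne (card_le_card_group M) fun h => hM (eq_top_of_card_eq M h)) hn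
  obtain ⟨m, hm, hag⟩ := ih (Nat.card M) hlt M le_rfl (hst.subgroup M) e he T (D.subgroupOf M) hD'
    (A.subgroupOf M) ⟨g, hg⟩ (by rw [hT]; exact comap_mono hA) (by
      rintro _ ⟨a, ha, rfl⟩
      rw [hT, mem_subgroupOf]
      exact hgA (conj_mem_conjSub (g := g) (mem_subgroupOf.1 ha)))
  have hW : zjGen e (D ⊓ Q) = (zjGen e (D.subgroupOf M)).map M.subtype := by
    rw [← zjGen_map M.subtype_injective, subgroupOf_map_subtype, hQ, ← inf_assoc, inf_eq_left.2 hD.1]
  refine ⟨m, ⟨m.2, ?_⟩, fun a ha => ?_⟩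
  · show (m : G) ∈ normalizer (zjGen e (D ⊓ Q) : Set G)
    rw [hW]
    exact le_normalizer_map M.subtype ⟨m, hm, rfl⟩
  · simpa using congrArg Subtype.val (hag ⟨a, (hA ha).2⟩ (mem_subgroupOf.2 ha))

/-- Control inside a proper subgroup containing the Sylow subgroup. -/
theorem ctrl_top {n : ℕ} (ih : ∀ k < n, ControlStatement.{u} p k) (hn : Nat.card G ≤ n) (hst : StableAll p G)
    {e : ℕ} (he : e = 0 ∨ e = p) (S : Sylow p G) {D : Subgroup G} (hD : IsStronglyClosed D (S : Subgroup G))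
    {M : Subgroup G} (hM : M ≠ ⊤) (hSM : (S : Subgroup G) ≤ M) {A : Subgroup G} {g : G} (hg : g ∈ M)
    (hA : A ≤ (S : Subgroup G)) (hgA : conjSub g A ≤ (S : Subgroup G)) :
    ∃ m ∈ normalizer (zjGen e D : Set G), Agree A m g := by
  have hQ : (S : Subgroup G) ⊓ M = S := inf_eq_left.2 hSM
  obtain ⟨m, hm, hag⟩ := ctrl_sub (A := A) ih hn hst he hD hM S.2 (by rw [hQ]; exact relIndex_sylow_not_dvd S hSM) hg
    (by rw [hQ]; exact hA) (by rw [hQ]; exact hgA)
  rw [hQ, inf_eq_left.2 hD.1] at hm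
  exact ⟨m, hm.2, hag⟩

/-- The centraliser of the `p`-core reduces to proper subgroups. -/
theorem exists_normalizer_ne_top (hO : pPrimeCore p G = ⊥)
    (hc : ¬ centralizer (pCore p G : Set G) ≤ pCore p G) (S : Sylow p G) :
    normalizer (((S : Subgroup G) ⊓ centralizer (pCore p G : Set G) : Subgroup G) : Set G) ≠ ⊤ ∧
      centralizer (pCore p G : Set G) ⊔
        normalizer (((S : Subgroup G) ⊓ centralizer (pCore p G : Set G) : Subgroup G) : Set G) = ⊤ := by
  set X := pCore p G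
  set C := centralizer (X : Set G) with hCdef
  have hCn : C.Normal := by rw [hCdef]; infer_instance
  obtain ⟨T0, hT0⟩ := ((S.2.to_le (inf_le_left : (S : Subgroup G) ⊓ C ≤ S)).of_equiv
    (subgroupOfEquivOfLe (inf_le_right : (S : Subgroup G) ⊓ C ≤ C)).symm).exists_le_sylow
  set T := (T0 : Subgroup C).map C.subtype with hT
  have hTeq : T = (S : Subgroup G) ⊓ C := by
    obtain ⟨g, hg⟩ := CfsgLib.Fusion.exists_conj_mem (U := T) (T0.2.map _) S.2 S.not_dvd_index
    refine (eq_of_le_of_card_ge (fun x hx => mem_map.2 ⟨⟨x, hx.2⟩, hT0 hx, rfl⟩) ?_).symm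
    rw [← card_conjSub g T]
    refine card_le_of_le ?_
    rintro _ ⟨x, hx, rfl⟩
    exact ⟨hg x hx, hCn.conj_mem x (map_subtype_le _ hx) g⟩
  refine ⟨fun htop => hc ?_, ?_⟩
  · have hTn : ((S : Subgroup G) ⊓ C).Normal := normalizer_eq_top_iff.1 htop
    have hTX : T ≤ X := hTeq ▸ CfsgLib.Cores.le_pCore (S.2.to_le inf_le_left)
    have hcen : ∀ t ∈ (T0 : Subgroup C), ∀ c : C, t * c = c * t := fun t ht c =>
      Subtype.ext (mem_centralizer_iff.1 c.2 t (hTX ⟨t, ht, rfl⟩))
    have hN : normalizer ((T0 : Subgroup C) : Set C) ≤ centralizer ((T0 : Subgroup C) : Set C) := fun c _ =>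
      mem_centralizer_iff.2 fun t ht => hcen t ht c
    have hcompl := MonoidHom.ker_transferSylow_isComplement' T0 hN
    set K := (MonoidHom.transferSylow T0 hN).ker
    have hKc : (Nat.card K).Coprime p := by
      rw [CfsgLib.Cores.coprime_iff_not_dvd hp.out]
      exact fun hd => T0.not_dvd_index (hd.trans (dvd_of_eq hcompl.index_eq_card.symm))
    have hK0 : K = ⊥ := by
      refine le_bot_iff.1 fun x hx => mem_bot.2 ?_
      have h1 := CfsgLib.Cores.map_subtype_pPrimeCore_le_of_normal p C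
        ⟨x, CfsgLib.Cores.le_pPrimeCore (N := K) hKc hx, rfl⟩
      rw [hO, mem_bot] at h1
      exact Subtype.ext h1
    intro c hc'
    have h2 : (T0 : Subgroup C) = ⊤ := by
      have := hcompl.sup_eq_top
      rwa [hK0, bot_sup_eq] at this
    exact hTX ⟨⟨c, hc'⟩, h2 ▸ mem_top _, rfl⟩
  · rw [← hTeq, eq_top_iff]
    have h := T0.normalizer_sup_eq_top
    rw [← hT, sup_comm] at h
    exact h.ge

/-- The control theorem. -/
theorem controlStatement (hp2 : p ≠ 2) (n : ℕ) : ControlStatement.{u} p n := by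
  induction n using Nat.strong_induction_on with
  | _ n ih =>
  intro G _ _ hn hst e he S D hD A g hA hgA
  have hSD : (S : Subgroup G) ≤ normalizer (D : Set G) := fun s hs =>
    mem_normalizer_of_stronglyClosed S hD fun x hx => mul_mem (mul_mem hs (hD.1 hx)) (inv_mem hs)
  set W := zjGen e D with hW
  have hSW : (S : Subgroup G) ≤ normalizer (W : Set G) := hSD.trans (normalizer_le_normalizer_zjGen e D)
  by_cases hK : pPrimeCore p G ≠ ⊥
  · set K := pPrimeCore p G with hKdef
    have hKc : (Nat.card K).Coprime p := CfsgLib.Cores.coprime_card_pPrimeCore p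
    set π := QuotientGroup.mk' K
    have hπ : Function.Surjective π := QuotientGroup.mk'_surjective K
    have hlt : Nat.card (G ⧸ K) < n := by
      refine lt_of_lt_of_le ?_ hn
      rw [card_eq_card_quotient_mul_card_subgroup K]
      refine lt_mul_of_one_lt_right Nat.card_pos ?_
      exact (one_lt_card_iff_ne_bot _).2 hK
    have hinj : Function.Injective (π.comp D.subtype) := by
      rw [injective_iff_map_eq_one]
      intro x hx
      exact Subtype.ext (eq_one_of_mem_of_coprime hKc (S.2.to_le hD.1) ((QuotientGroup.eq_one_iff _).1 hx) x.2)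
    obtain ⟨mb, hmb, hag⟩ := ih _ hlt (G ⧸ K) le_rfl (hst.quotient K hKc) e he (S.mapSurjective hπ)
      (D.map π) (isStronglyClosed_map_of_coprime S hD K) (A.map π) (π g) (map_mono hA) (by
        rintro _ ⟨_, ⟨a, ha, rfl⟩, rfl⟩
        exact ⟨g * a * g⁻¹, hgA (conj_mem_conjSub ha), by simp⟩)
    rw [zjGen_map_of_injective_restrict hinj] at hmb
    obtain ⟨m, hm, rfl⟩ := normalizer_map_le hKc (S.2.to_le ((zjGen_le e D).trans hD.1)) hmb
    have hdiff : ∀ a ∈ A, a⁻¹ * ((m⁻¹ * g) * a * (m⁻¹ * g)⁻¹) ∈ K := fun a ha => by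
      rw [← QuotientGroup.eq]
      show π a = π ((m⁻¹ * g) * a * (m⁻¹ * g)⁻¹)
      have h1 := hag (π a) ⟨a, ha, rfl⟩
      simp only [map_mul, map_inv, _root_.mul_inv_rev, inv_inv]
      calc π a = (π m)⁻¹ * (π m * π a * (π m)⁻¹) * π m := by group
        _ = _ := by rw [h1]; group
    set B := conjSub (m⁻¹ * g) A with hB
    have hle : B ≤ K ⊔ A := by
      rintro _ ⟨a, ha, rfl⟩
      have := mul_mem (mem_sup_right ha : a ∈ K ⊔ A) (mem_sup_left (hdiff a ha) : _ ∈ K ⊔ A)
      rwa [mul_inv_cancel_left] at this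
    have hAp : IsPGroup p A := S.2.to_le hA
    have hBp : IsPGroup p B := hAp.map _
    have hd : K ⊓ A = ⊥ :=
      eq_bot_iff.2 fun x hx => mem_bot.2 (eq_one_of_mem_of_coprime hKc hAp hx.1 hx.2)
    obtain ⟨j, hj⟩ := IsPGroup.iff_card.1 hBp
    have hnil : Group.IsNilpotent B := hBp.isNilpotent
    obtain ⟨k0, hk0, hle'⟩ := CfsgLib.Solvable.exists_conj_le K A B
      (by rw [normalizer_eq_top K]; exact le_top) hd hle (hj ▸ hKc.pow_right j) (Or.inr inferInstance)
    have hfix : ∀ a ∈ A, k0 * ((m⁻¹ * g) * a * (m⁻¹ * g)⁻¹) * k0⁻¹ = a := by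
      intro a ha
      have hmem : k0 * ((m⁻¹ * g) * a * (m⁻¹ * g)⁻¹) * k0⁻¹ ∈ A :=
        CfsgLib.Solvable.conj_smul_le_iff.1 hle' _ (conj_mem_conjSub ha)
      refine (inv_mul_eq_one.1 (eq_one_of_mem_of_coprime hKc hAp ?_ (mul_mem (inv_mem ha) hmem))).symm
      have h1 : a⁻¹ * k0 * a ∈ K := by
        simpa using (inferInstance : K.Normal).conj_mem k0 hk0 a⁻¹
      have h2 := mul_mem (mul_mem h1 (hdiff a ha)) (inv_mem hk0)
      convert h2 using 1
      group
    obtain ⟨m', hm', hag'⟩ := exists_agree (K := K) (M := normalizer (W : Set G)) (A := A)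
      (by rw [normalizer_eq_top K]; exact le_top) hKc hAp
      (k := m * k0⁻¹ * m⁻¹) ((inferInstance : K.Normal).conj_mem _ (inv_mem hk0) m) hm (hA.trans hSW) (by
        rintro _ ⟨a, ha, rfl⟩
        show (m * k0⁻¹ * m⁻¹ * m) * a * (m * k0⁻¹ * m⁻¹ * m)⁻¹ ∈ normalizer (W : Set G)
        have h1 := hgA.trans hSW (conj_mem_conjSub (g := g) ha)
        rw [← hfix a ha]
        convert h1 using 1
        group)
    refine ⟨m', hm', fun a ha => ?_⟩
    rw [hag' a ha]
    conv_lhs => rw [← hfix a ha]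
    group
  push Not at hK
  set X0 := pCore p G with hX0def
  have hX0p : IsPGroup p X0 := CfsgLib.Cores.isPGroup_pCore p
  by_cases hX0 : X0 = ⊥
  · refine control_of_local S he hD (fun X hX hXne hfull A n hn' hA' hnA => ?_) A g hA hgA
    refine ctrl_sub ih hn hst he hD (fun htop => hXne ?_) S.2 hfull hn' hA' hnA
    have hXn : X.Normal := normalizer_eq_top_iff.1 htop
    exact le_bot_iff.1 (hX0 ▸ CfsgLib.Cores.le_pCore (S.2.to_le hX))
  by_cases hc : centralizer (X0 : Set G) ≤ X0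
  · refine ⟨g, ?_, Agree.refl A g⟩
    rw [normalizer_eq_top_iff.2 (zjGen_normal hp2 (fun B _ hB => hst.isPStableOn B hB) he S hD hc)]
    trivial
  set C := centralizer (X0 : Set G) with hCdef
  have hCn : C.Normal := by rw [hCdef]; infer_instance
  obtain ⟨hTne, hTtop⟩ := exists_normalizer_ne_top hK hc S
  set T := (S : Subgroup G) ⊓ C with hTdef
  have hSNT : (S : Subgroup G) ≤ normalizer (T : Set G) := fun s hs =>
    CfsgLib.Solvable.mem_normalizer_of_conj_mem fun x hx => mem_inf.2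
      ⟨(S : Subgroup G).mul_mem ((S : Subgroup G).mul_mem hs hx.1) ((S : Subgroup G).inv_mem hs),
        hCn.conj_mem x hx.2 s⟩
  by_cases hCS : C ⊔ (S : Subgroup G) ≠ ⊤
  · -- two proper subgroups
    set M := C ⊔ (S : Subgroup G) with hMdef
    obtain ⟨c, hc', n0, hn0, hcn⟩ := mem_sup_of_normal_left.1 (show g ∈ C ⊔ normalizer (T : Set G) from
      hTtop ▸ mem_top g)
    set A1 := conjSub n0 A with hA1
    have hA1M : A1 ≤ M ⊓ normalizer (T : Set G) := by
      rintro _ ⟨a, ha, rfl⟩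
      refine mem_inf.2 ⟨?_, (normalizer (T : Set G)).mul_mem ((normalizer (T : Set G)).mul_mem hn0
        (hSNT (hA ha))) ((normalizer (T : Set G)).inv_mem hn0)⟩
      show n0 * a * n0⁻¹ ∈ M
      have h1 : g * a * g⁻¹ ∈ M := mem_sup_right (hgA (conj_mem_conjSub ha))
      have h2 : c ∈ M := mem_sup_left hc'
      have h3 := mul_mem (mul_mem (inv_mem h2) h1) h2
      convert h3 using 1
      rw [← hcn]
      group
    have hSi : (S : Subgroup G) ≤ M ⊓ normalizer (T : Set G) := le_inf le_sup_right hSNT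
    obtain ⟨c1, hc1, hc1A⟩ := CfsgLib.Fusion.exists_conj_mem_of_le ((S.2.to_le hA).map (MulAut.conj n0).toMonoidHom)
      S.2 hA1M hSi (relIndex_sylow_not_dvd S hSi)
    have hle1 : conjSub (c1 * n0) A ≤ (S : Subgroup G) := by
      rw [← conjSub_conjSub]
      rintro _ ⟨x, hx, rfl⟩
      exact hc1A x hx
    obtain ⟨m1, hm1, hag1⟩ := ctrl_top ih hn hst he S hD hTne hSNT (mul_mem hc1.2 hn0) hA hle1
    have hh : c * c1⁻¹ * (c1 * n0) = g := by rw [← hcn]; group
    obtain ⟨m2, hm2, hag2⟩ := ctrl_top ih hn hst he S hD hCS le_sup_right (g := c * c1⁻¹)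
      (mul_mem (mem_sup_left hc') (inv_mem hc1.1)) hle1 (by rw [conjSub_conjSub, hh]; exact hgA)
    refine ⟨m2 * m1, mul_mem hm2 hm1, ?_⟩
    have := hag1.mul hag2
    rwa [hh] at this
  push Not at hCS
  -- the automiser of the `p`-core is a `p`-group
  set π := QuotientGroup.mk' X0
  have hπ : Function.Surjective π := QuotientGroup.mk'_surjective X0
  have hstQ : StableAll p (G ⧸ X0) := StableAll.quotient_of_sup hp2 _ le_rfl hst X0 S hX0p hCS
  have hlt : Nat.card (G ⧸ X0) < n := by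
    refine lt_of_lt_of_le ?_ hn
    rw [card_eq_card_quotient_mul_card_subgroup X0]
    exact lt_mul_of_one_lt_right Nat.card_pos ((one_lt_card_iff_ne_bot _).2 hX0)
  have hX0S : X0 ≤ (S : Subgroup G) := CfsgLib.Cores.pCore_le_sylow S
  set Sb := S.mapSurjective hπ
  have hSb : ((Sb : Sylow p (G ⧸ X0)) : Subgroup (G ⧸ X0)) = (S : Subgroup G).map π := rfl
  have hSbne : ((Sb : Sylow p (G ⧸ X0)) : Subgroup (G ⧸ X0)) ≠ ⊥ := by
    intro h0
    rw [hSb, Subgroup.map_eq_bot_iff, QuotientGroup.ker_mk'] at h0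
    refine hTne (normalizer_eq_top_iff.2 ?_)
    have e1 : T = X0 ⊓ C := by rw [hTdef, le_antisymm h0 hX0S]
    rw [e1]
    infer_instance
  set L := (normalizer (zjGen e (Sb : Subgroup (G ⧸ X0)) : Set (G ⧸ X0))).comap π with hLdef
  have hLne : L ≠ ⊤ := by
    intro h0
    have h1 : normalizer (zjGen e (Sb : Subgroup (G ⧸ X0)) : Set (G ⧸ X0)) = ⊤ :=
      eq_top_iff.2 fun y _ => by
        obtain ⟨x, rfl⟩ := hπ y
        exact h0.ge (mem_top x)
    have h2 := normalizer_eq_top_iff.1 h1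
    refine zjGen_ne_bot he Sb.2 hSbne (le_bot_iff.1 ?_)
    rw [← CfsgLib.Cores.pCore_quotient_self (G := G) p]
    exact CfsgLib.Cores.le_pCore (Sb.2.to_le (zjGen_le e _))
  have hSL : (S : Subgroup G) ≤ L := fun s hs =>
    normalizer_le_normalizer_zjGen e _ (le_normalizer (show π s ∈ ((Sb : Sylow p (G ⧸ X0)) : Subgroup (G ⧸ X0)) from
      ⟨s, hs, rfl⟩))
  suffices key : ∀ d, ∀ A g, X0 ≤ A → A ≤ (S : Subgroup G) → conjSub g A ≤ (S : Subgroup G) →
      Nat.card (S : Subgroup G) - Nat.card A = d → ∃ m ∈ normalizer (W : Set G), Agree A m g by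
    obtain ⟨m, hm, hag⟩ := key _ (A ⊔ X0) g le_sup_right (sup_le hA hX0S) (by
      rw [conjSub, Subgroup.map_sup]
      refine sup_le hgA ?_
      rintro _ ⟨x, hx, rfl⟩
      exact hX0S ((inferInstance : X0.Normal).conj_mem x hx g)) rfl
    exact ⟨m, hm, hag.mono le_sup_left⟩
  intro d
  induction d using Nat.strong_induction_on with
  | _ d ihd =>
  intro A g hXA hA hgA hd
  rcases eq_or_lt_of_le hA with rfl | hltA
  · refine ⟨g, normalizer_le_normalizer_zjGen e D (mem_normalizer_of_stronglyClosed S hD fun x hx => ?_),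
      Agree.refl _ g⟩
    exact hgA (conj_mem_conjSub (hD.1 hx))
  obtain ⟨u, huS, hufull, huN⟩ := exists_full S hA
  set B := (S : Subgroup G) ⊓ normalizer (A : Set G) with hBdef
  have hcB := card_lt_of_lt (lt_norm S.2 hltA)
  have hBle : Nat.card B ≤ Nat.card (S : Subgroup G) := card_le_of_le inf_le_left
  obtain ⟨m1, hm1, hag1⟩ := ihd (Nat.card (S : Subgroup G) - Nat.card B) (by rw [← hBdef] at hcB; omega) B u
    (hXA.trans (le_inf hA le_normalizer)) inf_le_left huN rfl
  set A' := conjSub u A with hA'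
  have hXA' : X0 ≤ A' := fun x hx =>
    ⟨u⁻¹ * x * u, hXA (by simpa using (inferInstance : X0.Normal).conj_mem x hx u⁻¹), by simp [mul_assoc]⟩
  set g' := g * u⁻¹ with hg'
  have hg'A : conjSub g' A' ≤ (S : Subgroup G) := by
    rw [hA', conjSub_conjSub, hg', inv_mul_cancel_right]; exact hgA
  obtain ⟨mb, hmb, hagb⟩ := ih _ hlt (G ⧸ X0) le_rfl hstQ e he Sb (Sb : Subgroup (G ⧸ X0))
    ⟨le_rfl, fun _ _ _ h => h⟩ (A'.map π) (π g') (map_mono huS) (by
      rintro _ ⟨_, ⟨a, ha, rfl⟩, rfl⟩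
      exact ⟨g' * a * g'⁻¹, hg'A (conj_mem_conjSub ha), by simp⟩)
  obtain ⟨m, rfl⟩ := hπ mb
  set x := m⁻¹ * g' with hx
  have hdiff : ∀ a ∈ A', a⁻¹ * (x * a * x⁻¹) ∈ X0 := fun a ha => by
    rw [← QuotientGroup.eq]
    show π a = π (x * a * x⁻¹)
    have h1 := hagb (π a) ⟨a, ha, rfl⟩
    simp only [hx, map_mul, map_inv, _root_.mul_inv_rev, inv_inv]
    calc π a = (π m)⁻¹ * (π m * π a * (π m)⁻¹) * π m := by group
      _ = _ := by rw [h1]; group
  set NA := normalizer (A' : Set G) with hNA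
  -- elements centralising `A' / X₀`
  set U : Subgroup NA :=
    { carrier := {y | ∀ a ∈ A', a⁻¹ * ((y : G) * a * (y : G)⁻¹) ∈ X0}
      one_mem' := fun a _ => by simp
      mul_mem' := fun {y z} hy hz a ha => by
        have h1 : (z : G) * a * (z : G)⁻¹ ∈ A' := (mem_normalizer_iff.1 z.2 a).1 ha
        have := mul_mem (hz a ha) (hy _ h1)
        convert this using 1
        simp only [coe_mul]; group
      inv_mem' := fun {y} hy a ha => by
        have h1 : (y : G)⁻¹ * a * y ∈ A' := (mem_normalizer_iff''.1 y.2 a).1 ha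
        have := inv_mem (hy _ h1)
        convert this using 1
        simp only [coe_inv]; group } with hU
  have hUn : U.Normal := ⟨fun y hy z a ha => by
    have h1 : (z : G)⁻¹ * a * z ∈ A' := (mem_normalizer_iff''.1 z.2 a).1 ha
    have := (inferInstance : X0.Normal).conj_mem _ (hy _ h1) (z : G)
    convert this using 1
    simp only [coe_mul, coe_inv]; group⟩
  have hxN : x ∈ NA := CfsgLib.Solvable.mem_normalizer_of_conj_mem fun a ha => by
    have := mul_mem ha (hXA' (hdiff a ha))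
    rwa [mul_inv_cancel_left] at this
  set Cu := (centralizer (A' : Set G)).subgroupOf NA with hCu
  have hCun : Cu.Normal := by
    refine ⟨fun y hy z => ?_⟩
    rw [hCu, mem_subgroupOf, mem_centralizer_iff] at hy ⊢
    intro a ha
    have h1 := hy _ ((mem_normalizer_iff''.1 z.2 a).1 ha)
    simp only [coe_mul, coe_inv]
    calc a * ((z : G) * y * (z : G)⁻¹) = z * (((z : G)⁻¹ * a * z) * y) * (z : G)⁻¹ := by group
      _ = _ := by rw [h1]; group
  -- `p'`-elements of `U` centralise `A'`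
  have hUp : ∀ y ∈ U, (orderOf (y : G)).Coprime p → y ∈ Cu := by
    intro y hy hyc
    refine mem_subgroupOf.2 (mem_centralizer_iff.2 fun a ha => ?_)
    set z := a⁻¹ * ((y : G) * a * (y : G)⁻¹) with hz
    have hzX : z ∈ X0 := hy a ha
    have hyC : (y : G) ∈ C := by
      obtain ⟨c, hc', s, hs, e1⟩ := mem_sup_of_normal_left.1 (show (y : G) ∈ C ⊔ S from hCS ▸ mem_top _)
      obtain ⟨k, hk⟩ := S.2 ⟨s, hs⟩
      refine mem_of_pow_mem_coprime (k := k) ?_ hyc
      rw [← e1, ← QuotientGroup.eq_one_iff, QuotientGroup.mk_pow, QuotientGroup.mk_mul,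
        (QuotientGroup.eq_one_iff c).2 hc', one_mul, ← QuotientGroup.mk_pow, QuotientGroup.eq_one_iff]
      have hk' : s ^ p ^ k = 1 := by simpa using congrArg Subtype.val hk
      rw [hk']; exact one_mem _
    obtain ⟨k, hk⟩ := hX0p ⟨z, hzX⟩
    have h1 := eq_one_of_coprime_fix (y := (y : G)) (x := a) (z := z) (by rw [hz]; group)
      (by rw [← mem_centralizer_iff.1 hyC z hzX, mul_inv_cancel_right])
      (k := k) (by simpa using congrArg Subtype.val hk) hyc
    rw [hz, inv_mul_eq_one] at h1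
    conv_lhs => rw [h1]
    group
  set Qs := ((S : Subgroup G) ⊓ NA).subgroupOf NA with hQs
  have hQp : IsPGroup p Qs := (S.2.to_le inf_le_left).comap_subtype
  let RS : Sylow p NA := hQp.toSylow hufull
  have hRS : (RS : Subgroup NA) = Qs := IsPGroup.toSylow_coe _ _
  obtain ⟨c, hcCu, s, hsQ, hxcs⟩ : ∃ c ∈ Cu, ∃ s ∈ Qs, (⟨x, hxN⟩ : NA) = c * s := by
    set φ := QuotientGroup.mk' Cu
    set V := U.map φ
    have hVp : IsPGroup p V := by
      rintro ⟨_, y, hy, rfl⟩
      obtain ⟨i, hi⟩ := exists_pPrime_power (p := p) (y : G)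
      refine ⟨i, Subtype.ext ?_⟩
      show φ y ^ p ^ i = 1
      rw [← map_pow]
      exact (QuotientGroup.eq_one_iff _).2 (hUp _ (pow_mem hy _) (by rw [SubmonoidClass.coe_pow]; exact hi))
    have hVn : V.Normal := hUn.map φ (QuotientGroup.mk'_surjective Cu)
    have hle : V ≤ (RS : Subgroup NA).map φ := (CfsgLib.Cores.le_pCore hVp).trans
      (CfsgLib.Cores.pCore_le_sylow (RS.mapSurjective (f := φ) (QuotientGroup.mk'_surjective Cu)))
    obtain ⟨s, hs, e1⟩ := hle ⟨⟨x, hxN⟩, hdiff, rfl⟩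
    refine ⟨⟨x, hxN⟩ * s⁻¹, ?_, s, hRS ▸ hs, by group⟩
    rw [← QuotientGroup.eq_one_iff]
    show φ (⟨x, hxN⟩ * s⁻¹) = 1
    rw [map_mul, map_inv, e1, mul_inv_cancel]
  have hag3 : Agree A' (m * s) g' := by
    intro a ha
    have hsa : (s : G) * a * (s : G)⁻¹ ∈ A' := (mem_normalizer_iff.1 s.2 a).1 ha
    have hxs : x = (c : G) * s := congrArg Subtype.val hxcs
    have e2 : g' = m * ((c : G) * s) := by rw [← hxs, hx, mul_inv_cancel_left]
    have e3 := mem_centralizer_iff.1 (mem_subgroupOf.1 hcCu) _ hsa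
    rw [e2]
    calc m * (s : G) * a * (m * s)⁻¹ = m * ((s : G) * a * (s : G)⁻¹) * m⁻¹ := by group
      _ = m * ((c : G) * ((s : G) * a * (s : G)⁻¹) * (c : G)⁻¹) * m⁻¹ := by rw [← e3, mul_inv_cancel_right]
      _ = _ := by group
  obtain ⟨m3, hm3, hag4⟩ := ctrl_top ih hn hst he S hD hLne hSL
    (g := m * s) (mul_mem (show m ∈ L from hmb) (hSL (mem_subgroupOf.1 hsQ).1)) huS
    (by rw [hag3.conjSub_eq]; exact hg'A)
  refine ⟨m3 * m1, mul_mem hm3 hm1, ?_⟩
  have := (hag1.mono (le_inf hA le_normalizer)).mul (hag4.trans hag3)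
  rwa [hg', inv_mul_cancel_right] at this

/-- In a stable group the normaliser of `Z(J(D))` controls fusion. -/
theorem control_of_stableAll (hp2 : p ≠ 2) (hst : StableAll p G) {e : ℕ} (he : e = 0 ∨ e = p)
    (S : Sylow p G) {D : Subgroup G} (hD : IsStronglyClosed D (S : Subgroup G)) :
    ∀ A g, A ≤ (S : Subgroup G) → conjSub g A ≤ (S : Subgroup G) →
      ∃ m ∈ normalizer (zjGen e D : Set G), Agree A m g :=
  controlStatement hp2 (Nat.card G) G le_rfl hst e he S D hD

end CfsgLib.PStab
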