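import Mathlib

/-!
Two operators acting quadratically: either they generate a unipotent group or they have an invariant
plane on which they act as non-commuting transvections.
-/

set_option autoImplicit false

namespace CfsgLib.PStab

variable {K W : Type*} [Field K] [AddCommGroup W] [Module K W]

/-- The descending series attached to two endomorphisms. -/
def pairSeries (α β : Module.End K W) : ℕ → Submodule K W
  | 0 => ⊤
  | n + 1 => (pairSeries α β n).map α ⊔ (pairSeries α β n).map β

theorem pairSeries_antitone (α β : Module.End K W) (n : ℕ) :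
    pairSeries α β (n + 1) ≤ pairSeries α β n := by
  induction n with
  | zero => exact le_top
  | succ n ih => exact sup_le_sup (Submodule.map_mono ih) (Submodule.map_mono ih)

theorem pairSeries_even_le {α β : Module.End K W} (hα : α * α = 0) (hβ : β * β = 0) (m : ℕ) :
    pairSeries α β (2 * m) ≤ LinearMap.range ((α * β) ^ m) ⊔ LinearMap.range ((β * α) ^ m) := by
  induction m with
  | zero => simp [pairSeries, pow_zero, Module.End.one_eq_id]
  | succ m ih =>
    have hstep : ∀ x ∈ pairSeries α β (2 * m + 2),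
        ∃ y ∈ pairSeries α β (2 * m), ∃ z ∈ pairSeries α β (2 * m), x = α (β y) + β (α z) := by
      intro x hx
      obtain ⟨x₁, hx₁, x₂, hx₂, rfl⟩ := Submodule.mem_sup.1 hx
      obtain ⟨y₁, hy₁, rfl⟩ := hx₁
      obtain ⟨y₂, hy₂, rfl⟩ := hx₂
      obtain ⟨u₁, hu₁, u₂, hu₂, rfl⟩ := Submodule.mem_sup.1 hy₁
      obtain ⟨v₁, hv₁, v₂, hv₂, rfl⟩ := Submodule.mem_sup.1 hy₂
      obtain ⟨s₁, hs₁, rfl⟩ := hu₁
      obtain ⟨s₂, hs₂, rfl⟩ := hu₂
      obtain ⟨t₁, ht₁, rfl⟩ := hv₁
      obtain ⟨t₂, ht₂, rfl⟩ := hv₂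
      refine ⟨s₂, hs₂, t₁, ht₁, ?_⟩
      have e1 : α (α s₁) = 0 := by rw [← Module.End.mul_apply, hα, LinearMap.zero_apply]
      have e2 : β (β t₂) = 0 := by rw [← Module.End.mul_apply, hβ, LinearMap.zero_apply]
      simp [map_add, e1, e2]
    intro x hx
    obtain ⟨y, hy, z, hz, rfl⟩ := hstep x hx
    refine add_mem ?_ ?_
    · obtain ⟨_, ⟨a, rfl⟩, _, ⟨b, rfl⟩, hab⟩ := Submodule.mem_sup.1 (ih hy)
      rw [← hab, map_add, map_add]
      refine add_mem (Submodule.mem_sup_left ⟨a, by rw [pow_succ']; rfl⟩) ?_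
      rcases Nat.eq_zero_or_pos m with rfl | hm
      · exact Submodule.mem_sup_left ⟨b, by simp [Module.End.mul_apply]⟩
      · obtain ⟨k, rfl⟩ : ∃ k, m = k + 1 := ⟨m - 1, by omega⟩
        have e : β (((β * α) ^ (k + 1)) b) = 0 := by
          rw [pow_succ', Module.End.mul_apply, Module.End.mul_apply, ← Module.End.mul_apply β β, hβ,
            LinearMap.zero_apply]
        rw [e, map_zero]
        exact zero_mem _
    · obtain ⟨_, ⟨a, rfl⟩, _, ⟨b, rfl⟩, hab⟩ := Submodule.mem_sup.1 (ih hz)
      rw [← hab, map_add, map_add]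
      refine add_mem ?_ (Submodule.mem_sup_right ⟨b, by rw [pow_succ']; rfl⟩)
      rcases Nat.eq_zero_or_pos m with rfl | hm
      · exact Submodule.mem_sup_right ⟨a, by simp [Module.End.mul_apply]⟩
      · obtain ⟨k, rfl⟩ : ∃ k, m = k + 1 := ⟨m - 1, by omega⟩
        have e : α (((α * β) ^ (k + 1)) a) = 0 := by
          rw [pow_succ', Module.End.mul_apply, Module.End.mul_apply, ← Module.End.mul_apply α α, hα,
            LinearMap.zero_apply]
        rw [e, map_zero]
        exact zero_mem _

variable {H : Type*} [Group H] [Finite H]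

theorem forall_of_closure_pair {P : H → Prop} {A B : H} (hgen : Subgroup.closure ({A, B} : Set H) = ⊤)
    (h1 : P 1) (hA : P A) (hB : P B) (hmul : ∀ x y, P x → P y → P (x * y)) (h : H) : P h := by
  have hmem : h ∈ (Subgroup.closure ({A, B} : Set H)).toSubmonoid := by rw [hgen]; trivial
  rw [Subgroup.closure_toSubmonoid_of_finite] at hmem
  induction hmem using Submonoid.closure_induction with
  | mem x hx =>
    rcases hx with rfl | rfl
    · exact hA
    · exact hB
  | one => exact h1
  | mul x y _ _ hx hy => exact hmul x y hx hy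

/-- If `αβ` is nilpotent the group generated by `1 + α` and `1 + β` is unipotent. -/
theorem isNilpotent_sub_one_of_pair (φ : H →* Module.End K W) {A B : H}
    (hgen : Subgroup.closure ({A, B} : Set H) = ⊤) (hA : (φ A - 1) * (φ A - 1) = 0)
    (hB : (φ B - 1) * (φ B - 1) = 0) (hn : IsNilpotent ((φ A - 1) * (φ B - 1))) (h : H) :
    IsNilpotent (φ h - 1) := by
  set α := φ A - 1 with hα
  set β := φ B - 1 with hβ
  obtain ⟨n, hn⟩ := hn
  have hn' : (β * α) ^ (n + 1) = 0 := by
    rw [mul_pow_mul_self_aux α β n, hn, mul_zero, zero_mul]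
  have hbot : pairSeries α β (2 * (n + 1)) = ⊥ := by
    rw [eq_bot_iff]
    refine (pairSeries_even_le hA hB _).trans ?_
    rw [pow_succ, hn, zero_mul, hn']
    simp
  let P : H → Prop := fun h => ∀ k, ∀ x ∈ pairSeries α β k, φ h x - x ∈ pairSeries α β (k + 1)
  have hP : P h := by
    refine forall_of_closure_pair hgen ?_ ?_ ?_ ?_ h
    · intro k x _; simp
    · intro k x hx; exact Submodule.mem_sup_left ⟨x, hx, by simp [hα]⟩
    · intro k x hx; exact Submodule.mem_sup_right ⟨x, hx, by simp [hβ]⟩
    · intro x y hx hy k v hv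
      have h1 := hy k v hv
      have h2 : φ y v ∈ pairSeries α β k := by
        have := add_mem (pairSeries_antitone α β k h1) hv
        simpa using this
      have := add_mem (hx k _ h2) h1
      simpa [Module.End.mul_apply] using this
  refine ⟨2 * (n + 1), LinearMap.ext fun x => ?_⟩
  have key : ∀ m, ((φ h - 1) ^ m) x ∈ pairSeries α β m := by
    intro m
    induction m with
    | zero => exact Submodule.mem_top
    | succ m ih =>
      rw [pow_succ', Module.End.mul_apply]
      simpa using hP m _ ih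
  simpa [hbot] using key (2 * (n + 1))
where
  mul_pow_mul_self_aux {M : Type _} [Monoid M] (a b : M) : ∀ n, (b * a) ^ (n + 1) = b * (a * b) ^ n * a
    | 0 => by simp
    | n + 1 => by rw [pow_succ, mul_pow_mul_self_aux a b n, pow_succ]; simp [mul_assoc]

/-- If `αβ` is not nilpotent there is an invariant plane. -/
theorem exists_plane_of_pair [IsAlgClosed K] [FiniteDimensional K W] (φ : H →* Module.End K W) {A B : H}
    (hgen : Subgroup.closure ({A, B} : Set H) = ⊤) (hA : (φ A - 1) * (φ A - 1) = 0)
    (hB : (φ B - 1) * (φ B - 1) = 0) (hn : ¬ IsNilpotent ((φ A - 1) * (φ B - 1))) :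
    ∃ (ρ : H →* Matrix (Fin 2) (Fin 2) K) (c : K), c ≠ 0 ∧
      ρ A = !![1, c; 0, 1] ∧ ρ B = !![1, 0; 1, 1] := by
  classical
  set α := φ A - 1 with hα
  set β := φ B - 1 with hβ
  obtain ⟨c, hc0, hc⟩ : ∃ c : K, c ≠ 0 ∧ Module.End.HasEigenvalue (α * β) c := by
    by_contra hne
    push Not at hne
    apply hn
    have htop := Module.End.iSup_maxGenEigenspace_eq_top (α * β)
    have h0 : Module.End.maxGenEigenspace (α * β) 0 = ⊤ := by
      rw [eq_top_iff, ← htop]
      refine iSup_le fun μ => ?_
      by_cases hμ : μ = 0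
      · rw [hμ]
      · by_cases hbot : Module.End.maxGenEigenspace (α * β) μ = ⊥
        · rw [hbot]; exact bot_le
        exfalso
        refine hne μ hμ ?_
        rw [Module.End.maxGenEigenspace_eq_genEigenspace_finrank] at hbot
        exact Module.End.hasEigenvalue_of_hasGenEigenvalue hbot
    rw [Module.End.maxGenEigenspace_eq_genEigenspace_finrank, Module.End.genEigenspace_nat,
      zero_smul, sub_zero, LinearMap.ker_eq_top] at h0
    exact ⟨_, h0⟩
  obtain ⟨u, hu⟩ := hc.exists_hasEigenvector
  set w := β u with hw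
  have hαw : α w = c • u := hu.apply_eq_smul
  have hαu : α u = 0 := by
    have : c • α u = 0 := by
      rw [← map_smul, ← hαw, ← Module.End.mul_apply, hA, LinearMap.zero_apply]
    exact (smul_eq_zero.1 this).resolve_left hc0
  have hβw : β w = 0 := by rw [hw, ← Module.End.mul_apply, hB, LinearMap.zero_apply]
  let L : (Fin 2 → K) →ₗ[K] W :=
    (LinearMap.proj (R := K) (φ := fun _ : Fin 2 => K) 0).smulRight u +
      (LinearMap.proj (R := K) (φ := fun _ : Fin 2 => K) 1).smulRight w
  have hL : ∀ x : Fin 2 → K, L x = x 0 • u + x 1 • w := fun x => by simp [L]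
  have hinj : Function.Injective L := by
    refine LinearMap.ker_eq_bot.1 (LinearMap.ker_eq_bot'.2 fun x hx => ?_)
    rw [hL] at hx
    have h1 : x 1 = 0 := by
      have := congrArg α hx
      rw [map_add, map_smul, map_smul, hαu, hαw, smul_zero, zero_add, map_zero, smul_smul,
        smul_eq_zero] at this
      rcases this with h | h
      · exact (mul_eq_zero.1 h).resolve_right hc0
      · exact absurd h hu.2
    rw [h1, zero_smul, add_zero, smul_eq_zero] at hx
    have h0 : x 0 = 0 := hx.resolve_right hu.2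
    ext i; fin_cases i <;> simp [h0, h1]
  have step : ∀ h : H, ∃ m : Matrix (Fin 2) (Fin 2) K, φ h ∘ₗ L = L ∘ₗ Matrix.toLin' m := by
    intro h
    refine forall_of_closure_pair (P := fun h => ∃ m : Matrix (Fin 2) (Fin 2) K,
      φ h ∘ₗ L = L ∘ₗ Matrix.toLin' m) hgen ⟨1, ?_⟩ ⟨!![1, c; 0, 1], ?_⟩ ⟨!![1, 0; 1, 1], ?_⟩ ?_ h
    · rw [map_one, Matrix.toLin'_one, LinearMap.comp_id, Module.End.one_eq_id, LinearMap.id_comp]
    · refine LinearMap.ext fun x => ?_
      have e : φ A (L x) = α (L x) + L x := by simp [hα]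
      simp only [LinearMap.comp_apply, Matrix.toLin'_apply]
      rw [e, hL, hL, map_add, map_smul, map_smul, hαu, hαw]
      simp [dotProduct, Fin.sum_univ_two]
      module
    · refine LinearMap.ext fun x => ?_
      have e : φ B (L x) = β (L x) + L x := by simp [hβ]
      simp only [LinearMap.comp_apply, Matrix.toLin'_apply]
      rw [e, hL, hL, map_add, map_smul, map_smul, hβw, ← hw]
      simp [dotProduct, Fin.sum_univ_two]
      module
    · rintro x y ⟨m, hm⟩ ⟨m', hm'⟩
      refine ⟨m * m', LinearMap.ext fun v => ?_⟩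
      have h1 := LinearMap.congr_fun hm' v
      have h2 := LinearMap.congr_fun hm (Matrix.toLin' m' v)
      simp only [LinearMap.comp_apply] at h1 h2 ⊢
      rw [map_mul, Module.End.mul_apply, h1, h2, Matrix.toLin'_mul_apply]
  choose ρ hρ using step
  have huniq : ∀ h m, φ h ∘ₗ L = L ∘ₗ Matrix.toLin' m → ρ h = m := by
    intro h m hm
    apply Matrix.toLin'.injective
    exact LinearMap.ext fun x => hinj (LinearMap.congr_fun ((hρ h).symm.trans hm) x)
  refine ⟨{ toFun := ρ, map_one' := huniq 1 1 ?_, map_mul' := fun x y => huniq _ _ ?_ }, c, hc0,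
    huniq A _ ?_, huniq B _ ?_⟩
  · rw [map_one, Matrix.toLin'_one, LinearMap.comp_id, Module.End.one_eq_id, LinearMap.id_comp]
  · refine LinearMap.ext fun v => ?_
    have h1 := LinearMap.congr_fun (hρ y) v
    have h2 := LinearMap.congr_fun (hρ x) (Matrix.toLin' (ρ y) v)
    simp only [LinearMap.comp_apply] at h1 h2 ⊢
    rw [map_mul, Module.End.mul_apply, h1, h2, Matrix.toLin'_mul_apply]
  · refine LinearMap.ext fun x => ?_
    have e : φ A (L x) = α (L x) + L x := by simp [hα]
    simp only [LinearMap.comp_apply, Matrix.toLin'_apply]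
    rw [e, hL, hL, map_add, map_smul, map_smul, hαu, hαw]
    simp [dotProduct, Fin.sum_univ_two]
    module
  · refine LinearMap.ext fun x => ?_
    have e : φ B (L x) = β (L x) + L x := by simp [hβ]
    simp only [LinearMap.comp_apply, Matrix.toLin'_apply]
    rw [e, hL, hL, map_add, map_smul, map_smul, hβw, ← hw]
    simp [dotProduct, Fin.sum_univ_two]
    module

end CfsgLib.PStab
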