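import Cfsg.Prelude.Def_Local
import Cfsg.Prelude.Def_LocalEven
import Cfsg.Agent.Lib.PStab.QuadPair
import Cfsg.Agent.Lib.Invol.BaerSuzuki
import Cfsg.Agent.Lib.Cores.Basic

/-!
Stability: quadratic elements of a normaliser lie in `O_p` of the automiser.

`StableAll p G` is the normaliser form; it passes to subgroups, holds for groups of odd order and
is equivalent to `Cfsg.IsNormalizerPStable`.
-/

set_option autoImplicit false

namespace CfsgLib.PStab

open Cfsg Subgroup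
open scoped commutatorElement

variable {G : Type*} [Group G]

/-- `a` lies in a subgroup of `N` normalised by `N` that acts on `P` as a p-group. -/
def InCoreAct (p : ℕ) (N P : Subgroup G) (a : G) : Prop :=
  ∃ K : Subgroup G, K ≤ N ∧ N ≤ Subgroup.normalizer (K : Set G) ∧ a ∈ K ∧
    ∀ k ∈ K, ∃ n : ℕ, k ^ p ^ n ∈ Subgroup.centralizer (P : Set G)

/-- Every element acting quadratically on a p-subgroup lies in the p-core of its automiser. -/
def StableAll (p : ℕ) (G : Type*) [Group G] : Prop :=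
  ∀ P : Subgroup G, IsPGroup p P → ∀ a ∈ Subgroup.normalizer (P : Set G), IsQuad P a →
    InCoreAct p (Subgroup.normalizer (P : Set G)) P a

variable [Finite G] {p : ℕ} [Fact p.Prime]

theorem isQuad_conj {P : Subgroup G} {a g : G} (hg : g ∈ Subgroup.normalizer (P : Set G))
    (h : IsQuad P a) : IsQuad P (g * a * g⁻¹) := by
  intro x hx
  have := h (g⁻¹ * x * g) ((Subgroup.mem_normalizer_iff''.1 hg x).1 hx)
  calc ⁅⁅x, g * a * g⁻¹⁆, g * a * g⁻¹⁆ = g * ⁅⁅g⁻¹ * x * g, a⁆, a⁆ * g⁻¹ := by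
        simp only [commutatorElement_def]; group
    _ = 1 := by rw [this]; group

/-- `IsQuad` follows from the commutator condition with cyclic subgroups. -/
theorem isQuad_iff {P : Subgroup G} {a : G} (ha : a ∈ Subgroup.normalizer (P : Set G)) :
    IsQuad P a ↔ ⁅⁅P, Subgroup.zpowers a⁆, Subgroup.zpowers a⁆ = ⊥ := by
  refine ⟨fun h => ?_, fun h => isQuad_of_commutator_eq_bot h (Subgroup.mem_zpowers a)⟩
  rw [Subgroup.commutator_eq_bot_iff_le_centralizer, Subgroup.commutator_le]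
  intro x hx b hb
  have key : ∀ n : ℕ, ⁅x, a ^ n⁆ ∈ Subgroup.centralizer ({a} : Set G) := by
    intro n
    induction n with
    | zero => simp
    | succ n ih =>
      have h1 : ⁅a ^ n * x * (a ^ n)⁻¹, a⁆ ∈ Subgroup.centralizer ({a} : Set G) := by
        rw [Subgroup.mem_centralizer_singleton_iff]
        have hx' : a ^ n * x * (a ^ n)⁻¹ ∈ P :=
          (Subgroup.mem_normalizer_iff.1 (Subgroup.pow_mem _ ha n) x).1 hx
        have := h _ hx'
        rw [commutatorElement_eq_one_iff_mul_comm] at this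
        exact this
      have e : ⁅x, a ^ (n + 1)⁆ = ⁅x, a ^ n⁆ * ⁅a ^ n * x * (a ^ n)⁻¹, a⁆ := by
        simp only [commutatorElement_def, pow_succ]; group
      rw [e]; exact mul_mem ih h1
  obtain ⟨n, rfl⟩ := mem_powers_iff_mem_zpowers.2 hb
  rw [Subgroup.mem_centralizer_iff]
  intro c hc
  obtain ⟨m, rfl⟩ := Subgroup.mem_zpowers_iff.1 hc
  exact ((Commute.zpow_right (Subgroup.mem_centralizer_singleton_iff.1 (key n)) m)).symm

/-- The criterion: all pairs of conjugates are tame. -/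
theorem inCoreAct_of_tame {N P : Subgroup G} (hP : IsPGroup p P) (hN : N ≤ Subgroup.normalizer (P : Set G))
    {a : G} (ha : a ∈ N) (hq : IsQuad P a)
    (htame : ∀ g ∈ N, PlaneTame p ↥(Subgroup.closure ({a, g * a * g⁻¹} : Set G))) :
    InCoreAct p N P a := by
  classical
  set C := (Subgroup.centralizer (P : Set G)).subgroupOf N with hC
  have : C.Normal := by
    constructor
    intro c hc g
    rw [hC, Subgroup.mem_subgroupOf, Subgroup.mem_centralizer_iff] at hc ⊢
    intro x hx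
    have h1 := hc _ ((Subgroup.mem_normalizer_iff''.1 (hN g.2) x).1 hx)
    simp only [Subgroup.coe_mul, Subgroup.coe_inv]
    calc x * ((g : G) * c * (g : G)⁻¹) = g * (((g : G)⁻¹ * x * g) * c) * (g : G)⁻¹ := by group
      _ = g * c * (g : G)⁻¹ * x := by rw [h1]; group
  set f := QuotientGroup.mk' C
  have hpair : ∀ g : N, ∀ h : G, ∀ hh : h ∈ N,
      h ∈ Subgroup.closure ({a, (g : G) * a * (g : G)⁻¹} : Set G) → ∃ k : ℕ, f ⟨h, hh⟩ ^ p ^ k = 1 := by
    intro g h hh hmem
    obtain ⟨k, hk⟩ := exists_pow_mem_centralizer_of_quad_pair hP (hN ha)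
      (hN (mul_mem (mul_mem g.2 ha) (inv_mem g.2))) hq (isQuad_conj (hN g.2) hq) (htame g g.2) hmem
    refine ⟨k, ?_⟩
    rw [← map_pow]
    exact (QuotientGroup.eq_one_iff _).2 (Subgroup.mem_subgroupOf.2 (by simpa using hk))
  set X := Subgroup.zpowers (f ⟨a, ha⟩)
  have hgen : ∀ q : N ⧸ C, IsPGroup p ↥(X ⊔ X.map (MulAut.conj q).toMonoidHom) := by
    intro q
    obtain ⟨g, rfl⟩ := QuotientGroup.mk'_surjective C q
    set S := Subgroup.closure ({a, (g : G) * a * (g : G)⁻¹} : Set G)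
    have hle : X ⊔ X.map (MulAut.conj (f g)).toMonoidHom ≤ (S.subgroupOf N).map f := by
      refine sup_le ?_ ?_
      · rw [Subgroup.zpowers_le]
        exact ⟨⟨a, ha⟩, Subgroup.subset_closure (Or.inl rfl), rfl⟩
      · rw [Subgroup.map_le_iff_le_comap, Subgroup.zpowers_le, Subgroup.mem_comap]
        refine ⟨g * ⟨a, ha⟩ * g⁻¹, ?_, ?_⟩
        · exact Subgroup.mem_subgroupOf.2 (Subgroup.subset_closure (Or.inr (by simp)))
        · simp
    refine IsPGroup.to_le ?_ hle
    rintro ⟨y, ⟨h, hh, rfl⟩⟩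
    obtain ⟨k, hk⟩ := hpair g h h.2 hh
    exact ⟨k, Subtype.ext hk⟩
  have hX : IsPGroup p X := (hgen 1).to_le le_sup_left
  obtain ⟨M, hMn, hMp, hXM⟩ := CfsgLib.Invol.baer_suzuki X hX hgen
  refine ⟨(M.comap f).map N.subtype, Subgroup.map_subtype_le _, ?_, ?_, ?_⟩
  · intro g hg
    rw [Subgroup.mem_normalizer_iff]
    intro x
    have hn : (M.comap f).Normal := hMn.comap f
    constructor
    · rintro ⟨y, hy, rfl⟩
      exact ⟨⟨g, hg⟩ * y * ⟨g, hg⟩⁻¹, hn.conj_mem y hy _, rfl⟩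
    · rintro ⟨y, hy, hxy⟩
      refine ⟨⟨g, hg⟩⁻¹ * y * ⟨g, hg⟩, by simpa using hn.conj_mem y hy ⟨g, hg⟩⁻¹, ?_⟩
      rw [Subgroup.subtype_apply] at hxy
      simp [hxy, mul_assoc]
  · exact ⟨⟨a, ha⟩, hXM (Subgroup.mem_zpowers _), rfl⟩
  · rintro _ ⟨y, hy, rfl⟩
    obtain ⟨n, hn⟩ := hMp ⟨f y, hy⟩
    refine ⟨n, ?_⟩
    have h1 : f (y ^ p ^ n) = 1 := by rw [map_pow]; exact congrArg Subtype.val hn
    have := Subgroup.mem_subgroupOf.1 ((QuotientGroup.eq_one_iff _).1 h1)
    simpa using this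

/-- Groups of odd order are stable. -/
theorem stableAll_of_odd (hodd : Odd (Nat.card G)) : StableAll p G := fun _ hP _ ha hq =>
  inCoreAct_of_tame hP le_rfl ha hq fun _ _ =>
    planeTame_of_odd p (hodd.of_dvd_nat (Subgroup.card_subgroup_dvd_card _))

/-- Image form. -/
theorem mk_mem_pCore_of_inCoreAct {N P : Subgroup G}
    [((Subgroup.centralizer (P : Set G)).subgroupOf N).Normal] {a : G} (ha : a ∈ N)
    (h : InCoreAct p N P a) :
    (QuotientGroup.mk (⟨a, ha⟩ : N) : N ⧸ (Subgroup.centralizer (P : Set G)).subgroupOf N) ∈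
      pCore p (N ⧸ (Subgroup.centralizer (P : Set G)).subgroupOf N) := by
  obtain ⟨K, hKN, hNK, haK, hK⟩ := h
  set f := QuotientGroup.mk' ((Subgroup.centralizer (P : Set G)).subgroupOf N)
  have : ((K.subgroupOf N).map f).Normal :=
    ((Subgroup.normal_subgroupOf_iff_le_normalizer hKN).2 hNK).map f (QuotientGroup.mk'_surjective _)
  refine CfsgLib.Cores.le_pCore (N := (K.subgroupOf N).map f) ?_ ⟨⟨a, ha⟩, haK, rfl⟩
  rintro ⟨_, y, hy, rfl⟩
  obtain ⟨n, hn⟩ := hK y hy
  refine ⟨n, Subtype.ext ?_⟩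
  rw [SubmonoidClass.coe_pow, ← map_pow, Subgroup.coe_one]
  exact (QuotientGroup.eq_one_iff _).2 (Subgroup.mem_subgroupOf.2 (by simpa using hn))

theorem inCoreAct_of_mk_mem_pCore {N P : Subgroup G}
    [((Subgroup.centralizer (P : Set G)).subgroupOf N).Normal] {a : G} (ha : a ∈ N)
    (h : (QuotientGroup.mk (⟨a, ha⟩ : N) : N ⧸ (Subgroup.centralizer (P : Set G)).subgroupOf N) ∈
      pCore p (N ⧸ (Subgroup.centralizer (P : Set G)).subgroupOf N)) :
    InCoreAct p N P a := by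
  set f := QuotientGroup.mk' ((Subgroup.centralizer (P : Set G)).subgroupOf N)
  set M := pCore p (N ⧸ (Subgroup.centralizer (P : Set G)).subgroupOf N) with hM
  refine ⟨(M.comap f).map N.subtype, Subgroup.map_subtype_le _, ?_, ⟨⟨a, ha⟩, h, rfl⟩, ?_⟩
  · intro g hg
    rw [Subgroup.mem_normalizer_iff]
    intro x
    have hn : (M.comap f).Normal := (inferInstance : M.Normal).comap f
    constructor
    · rintro ⟨y, hy, rfl⟩
      exact ⟨⟨g, hg⟩ * y * ⟨g, hg⟩⁻¹, hn.conj_mem y hy _, rfl⟩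
    · rintro ⟨y, hy, hxy⟩
      refine ⟨⟨g, hg⟩⁻¹ * y * ⟨g, hg⟩, by simpa using hn.conj_mem y hy ⟨g, hg⟩⁻¹, ?_⟩
      rw [Subgroup.subtype_apply] at hxy
      simp [hxy, mul_assoc]
  · rintro _ ⟨y, hy, rfl⟩
    obtain ⟨n, hn⟩ := CfsgLib.Cores.isPGroup_pCore p (G := N ⧸ (Subgroup.centralizer (P : Set G)).subgroupOf N)
      ⟨f y, hy⟩
    refine ⟨n, ?_⟩
    have h1 : f (y ^ p ^ n) = 1 := by rw [map_pow]; exact congrArg Subtype.val hn
    have := Subgroup.mem_subgroupOf.1 ((QuotientGroup.eq_one_iff _).1 h1)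
    simpa using this

/-- The frozen normaliser form of p-stability. -/
theorem stableAll_of_isNormalizerPStable (h : IsNormalizerPStable p G) : StableAll p G := by
  intro P hP a ha hq
  exact inCoreAct_of_mk_mem_pCore ha (h P hP a ha ((isQuad_iff ha).1 hq))

/-- Stability passes to subgroups. -/
theorem StableAll.subgroup (h : StableAll p G) (H : Subgroup G) : StableAll p H := by
  intro P hP a ha hq
  have ha' : (a : G) ∈ Subgroup.normalizer ((P.map H.subtype : Subgroup G) : Set G) := by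
    apply CfsgLib.Solvable.mem_normalizer_of_conj_mem
    rintro _ ⟨x, hx, rfl⟩
    exact ⟨a * x * a⁻¹, (Subgroup.mem_normalizer_iff.1 ha x).1 hx, rfl⟩
  have hq' : IsQuad (P.map H.subtype) (a : G) := by
    rintro _ ⟨x, hx, rfl⟩
    exact congrArg Subtype.val (hq x hx)
  obtain ⟨K, hKN, hNK, haK, hK⟩ := h _ (hP.map _) a ha' hq'
  refine ⟨K.subgroupOf H ⊓ Subgroup.normalizer (P : Set H), inf_le_right, ?_, ⟨haK, ha⟩, ?_⟩
  · intro g hg
    have hgK : (g : G) ∈ Subgroup.normalizer (K : Set G) := by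
      refine hNK (CfsgLib.Solvable.mem_normalizer_of_conj_mem ?_)
      rintro _ ⟨x, hx, rfl⟩
      exact ⟨g * x * g⁻¹, (Subgroup.mem_normalizer_iff.1 hg x).1 hx, rfl⟩
    rw [Subgroup.mem_normalizer_iff]
    intro x
    constructor
    · rintro ⟨hxK, hxN⟩
      exact ⟨Subgroup.mem_subgroupOf.2 ((Subgroup.mem_normalizer_iff.1 hgK (x : G)).1 hxK),
        Subgroup.mul_mem _ (Subgroup.mul_mem _ hg hxN) (Subgroup.inv_mem _ hg)⟩
    · rintro ⟨hxK, hxN⟩
      refine ⟨Subgroup.mem_subgroupOf.2 ((Subgroup.mem_normalizer_iff.1 hgK (x : G)).2 hxK), ?_⟩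
      have := Subgroup.mul_mem _ (Subgroup.mul_mem _ (Subgroup.inv_mem _ hg) hxN) hg
      simpa [mul_assoc] using this
  · rintro k ⟨hk, -⟩
    obtain ⟨n, hn⟩ := hK (k : G) hk
    refine ⟨n, Subgroup.mem_centralizer_iff.2 fun x hx => Subtype.ext ?_⟩
    simpa using Subgroup.mem_centralizer_iff.1 hn (x : G) ⟨x, hx, rfl⟩

/-- For a normal subgroup the form used in the frozen statements. -/
theorem StableAll.isPStableOn (h : StableAll p G) (P : Subgroup G) [P.Normal] (hP : IsPGroup p P) :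
    IsPStableOn p P := by
  intro a hq
  have htop : Subgroup.normalizer (P : Set G) = ⊤ := Subgroup.normalizer_eq_top P
  obtain ⟨K, -, hNK, haK, hK⟩ := h P hP a (htop ▸ Subgroup.mem_top a)
    ((isQuad_iff (htop ▸ Subgroup.mem_top a)).2 hq)
  rw [htop, top_le_iff, Subgroup.normalizer_eq_top_iff] at hNK
  have : (K.map (QuotientGroup.mk' (Subgroup.centralizer (P : Set G)))).Normal :=
    hNK.map _ (QuotientGroup.mk'_surjective _)
  refine CfsgLib.Cores.le_pCore (N := K.map (QuotientGroup.mk' (Subgroup.centralizer (P : Set G))))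
    ?_ ⟨a, haK, rfl⟩
  rintro ⟨_, y, hy, rfl⟩
  obtain ⟨n, hn⟩ := hK y hy
  refine ⟨n, Subtype.ext ?_⟩
  rw [SubmonoidClass.coe_pow, ← map_pow, Subgroup.coe_one]
  exact (QuotientGroup.eq_one_iff _).2 hn

end CfsgLib.PStab
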