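import Cfsg.Agent.Lib.PStab.Transitivity

/-!
Consequences of the transitivity hypothesis in minimal simple groups of odd order.
-/

set_option autoImplicit false

namespace CfsgLib.PStab

open Cfsg Subgroup

variable {G : Type*} [Group G]

/-- `Q₂` is the conjugate of `Q₁` by an element of `O_{π(A)'}(C(A))`. -/
def KConj (A : Subgroup G) (Q₁ Q₂ : Subgroup G) : Prop :=
  ∃ k ∈ piCoreOf (primesNotDvd (Nat.card A)) (centralizer (A : Set G)), Q₂ = Q₁.map (MulAut.conj k).toMonoidHom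

theorem map_conj_map_conj (c d : G) (R : Subgroup G) :
    (R.map (MulAut.conj c).toMonoidHom).map (MulAut.conj d).toMonoidHom = R.map (MulAut.conj (d * c)).toMonoidHom := by
  rw [map_map]
  congr 1
  ext x
  simp [mul_assoc]

theorem map_conj_one' (R : Subgroup G) : R.map (MulAut.conj (1 : G)).toMonoidHom = R := by
  conv_rhs => rw [← Subgroup.map_id R]
  congr 1
  ext x
  simp

variable {A : Subgroup G}

theorem KConj.refl (Q : Subgroup G) : KConj A Q Q := ⟨1, one_mem _, (map_conj_one' Q).symm⟩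

theorem KConj.symm {Q R : Subgroup G} (h : KConj A Q R) : KConj A R Q := by
  obtain ⟨c, hc, rfl⟩ := h
  exact ⟨c⁻¹, inv_mem hc, by rw [map_conj_map_conj, inv_mul_cancel, map_conj_one']⟩

theorem KConj.trans {Q R U : Subgroup G} (h : KConj A Q R) (h' : KConj A R U) : KConj A Q U := by
  obtain ⟨c, hc, rfl⟩ := h
  obtain ⟨d, hd, rfl⟩ := h'
  exact ⟨d * c, mul_mem hd hc, map_conj_map_conj c d Q⟩

theorem map_conj_mem_invSubgroups [Finite G] {q : ℕ} {R : Subgroup G} {c : G}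
    (hR : R ∈ invSubgroups ⊤ A {q}) (hc : c ∈ centralizer (A : Set G)) :
    R.map (MulAut.conj c).toMonoidHom ∈ invSubgroups ⊤ A {q} := by
  refine ⟨le_top, ?_, fun e he => mem_normalizer_iff_map_conj_eq.2 ?_⟩
  · rw [card_map_of_injective (MulAut.conj c).injective]
    exact hR.2.1
  · show (R.map (MulAut.conj c).toMonoidHom).map (MulAut.conj e).toMonoidHom = _
    rw [map_conj_map_conj, mem_centralizer_iff.1 hc e he, ← map_conj_map_conj,
      show R.map (MulAut.conj e).toMonoidHom = R from mem_normalizer_iff_map_conj_eq.1 (hR.2.2 he)]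

theorem map_conj_mem_maxInvSubgroups [Finite G] {q : ℕ} {R : Subgroup G} {c : G}
    (hR : R ∈ maxInvSubgroups ⊤ A {q}) (hc : c ∈ centralizer (A : Set G)) :
    R.map (MulAut.conj c).toMonoidHom ∈ maxInvSubgroups ⊤ A {q} := by
  refine ⟨map_conj_mem_invSubgroups hR.1 hc, fun R' hR' hle => ?_⟩
  have h := hR.2 _ (map_conj_mem_invSubgroups hR' (inv_mem hc)) (by
    have := map_mono (f := (MulAut.conj c⁻¹).toMonoidHom) hle
    rwa [map_conj_map_conj, inv_mul_cancel, map_conj_one'] at this)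
  rw [← h, map_conj_map_conj, mul_inv_cancel, map_conj_one']

theorem exists_maxInvSubgroup_ge [Finite G] {q : ℕ} {R : Subgroup G} (hR : R ∈ invSubgroups ⊤ A {q}) :
    ∃ M ∈ maxInvSubgroups ⊤ A {q}, R ≤ M := by
  obtain ⟨M, hle, hM, hmax⟩ := Finite.exists_le_maximal (p := fun R => R ∈ invSubgroups ⊤ A {q}) (a := R) hR
  exact ⟨M, ⟨hM, fun R' h1 h2 => le_antisymm (hmax h1 h2) h2⟩, hle⟩

variable [Finite G] (hG : IsMinSimpleOddOrder G)

include hG in
theorem normalizer_ne_top_of_minSimple {R : Subgroup G} (h1 : R ≠ ⊥) (h2 : R ≠ ⊤) :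
    normalizer (R : Set G) ≠ ⊤ := fun h =>
  (hG.2.1.eq_bot_or_eq_top_of_normal R (normalizer_eq_top_iff.1 h)).elim h1 h2

include hG in
theorem centralizer_ne_top_of_minSimple {a : G} (ha : a ≠ 1) : centralizer ({a} : Set G) ≠ ⊤ := fun h => by
  have hc : a ∈ center G := mem_center_iff.2 fun g => mem_centralizer_singleton_iff.1 (h ▸ mem_top g)
  rcases hG.2.1.eq_bot_or_eq_top_of_normal (center G) inferInstance with h' | h'
  · exact ha (mem_bot.1 (h' ▸ hc))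
  · exact hG.2.2.1 ⟨⟨fun x y => (mem_center_iff.1 (h' ▸ mem_top x) y).symm⟩⟩

variable (hA : TransitivityHypothesis A)
include hA

omit [Finite G] in
theorem le_piCoreOf_of_inv {X Y : Subgroup G} (hX : X ≠ ⊤) (hAX : A ≤ X)
    (hY : Y ∈ invSubgroups X A (primesNotDvd (Nat.card A))) :
    Y ≤ piCoreOf (primesNotDvd (Nat.card A)) X :=
  (hA.2.2 X hX hAX) ▸ le_sSup hY

include hG

/-- The `A`-fixed part of an `A`-invariant `π(A)'`-subgroup lies in `O_{π(A)'}(C(A))`. -/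
theorem inf_centralizer_le_core {L : Subgroup G}
    (hL : ∀ r : ℕ, r.Prime → r ∣ Nat.card L → r ∈ primesNotDvd (Nat.card A)) :
    L ⊓ centralizer (A : Set G) ≤ piCoreOf (primesNotDvd (Nat.card A)) (centralizer (A : Set G)) := by
  set π := primesNotDvd (Nat.card A) with hπ
  set C := centralizer (A : Set G) with hC
  set N := normalizer (A : Set G) with hN
  have hCN : C ≤ N := centralizer_le_normalizer _
  have hle : L ⊓ C ≤ piCoreOf π N := by
    refine le_piCoreOf_of_inv hA (normalizer_ne_top_of_minSimple hG hA.1 hA.2.1) le_normalizer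
      ⟨inf_le_right.trans hCN, fun r hr hd => hL r hr (hd.trans (card_dvd_of_le inf_le_left)), ?_⟩
    intro a ha
    refine CfsgLib.Solvable.mem_normalizer_of_conj_mem fun x hx => ?_
    rwa [mem_centralizer_iff.1 hx.2 a ha, mul_inv_cancel_right]
  intro x hx
  set M := (piCoreOf π N).subgroupOf C with hM
  have hMn : M.Normal := by
    refine ⟨fun m hm g => ?_⟩
    rw [hM, mem_subgroupOf] at hm ⊢
    obtain ⟨y, hy, hy'⟩ := hm
    refine ⟨⟨g, hCN g.2⟩ * y * ⟨g, hCN g.2⟩⁻¹, Normal.conj_mem inferInstance y hy _, ?_⟩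
    simp only [map_mul, map_inv, coe_mul, coe_inv]
    rw [hy']
    rfl
  have hMπ : ∀ r : ℕ, r.Prime → r ∣ Nat.card M → r ∈ π := by
    intro r hr hd
    refine prime_mem_of_dvd_piCore (G := N) π r hr ?_
    have h := hd.trans (card_comap_dvd_of_injective _ _ C.subtype_injective)
    unfold piCoreOf at h
    rwa [card_map_of_injective N.subtype_injective] at h
  exact ⟨⟨x, hx.2⟩, le_sSup (α := Subgroup C)
    (show M ∈ {N : Subgroup C | N.Normal ∧ ∀ r : ℕ, r.Prime → r ∣ Nat.card N → r ∈ π} from ⟨hMn, hMπ⟩)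
    (mem_subgroupOf.2 (hle hx)), rfl⟩

variable {q : ℕ} (hq : q.Prime) (hqA : ¬ q ∣ Nat.card A)
include hq hqA

/-- Inside a proper overgroup of `A` two invariant `q`-subgroups grow into conjugate ones. -/
theorem exists_conj_extensions {H U₁ U₂ : Subgroup G} (hH : H ≠ ⊤) (hAH : A ≤ H)
    (hU₁ : U₁ ∈ invSubgroups ⊤ A {q}) (hU₂ : U₂ ∈ invSubgroups ⊤ A {q}) (h₁ : U₁ ≤ H) (h₂ : U₂ ≤ H) :
    ∃ M₁ ∈ maxInvSubgroups ⊤ A {q}, ∃ M₂ ∈ maxInvSubgroups ⊤ A {q}, ∃ S₁ S₂ : Subgroup G,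
      ∃ c ∈ piCoreOf (primesNotDvd (Nat.card A)) (centralizer (A : Set G)),
        S₁.map (MulAut.conj c).toMonoidHom = S₂ ∧ U₁ ≤ S₁ ∧ S₁ ≤ M₁ ∧ U₂ ≤ S₂ ∧ S₂ ≤ M₂ := by
  have : Fact q.Prime := ⟨hq⟩
  set π := primesNotDvd (Nat.card A) with hπ
  have hqπ : ∀ U ∈ invSubgroups ⊤ A {q}, ∀ r : ℕ, r.Prime → r ∣ Nat.card U → r ∈ π := by
    intro U hU r hr hd
    rw [Set.mem_singleton_iff.1 (hU.2.1 r hr hd)]
    exact ⟨hq, hqA⟩
  set L := piCoreOf π H with hL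
  have hLπ : ∀ r : ℕ, r.Prime → r ∣ Nat.card L → r ∈ π := by
    intro r hr hd
    rw [hL] at hd
    unfold piCoreOf at hd
    rw [card_map_of_injective H.subtype_injective] at hd
    exact prime_mem_of_dvd_piCore π r hr hd
  have hAL : A ≤ normalizer (L : Set G) := by
    refine CfsgLib.Solvable.le_normalizer_of_conj_mem ?_
    rintro a ha _ ⟨y, hy, rfl⟩
    exact ⟨⟨a, hAH ha⟩ * y * ⟨a, hAH ha⟩⁻¹, Normal.conj_mem inferInstance y hy _, rfl⟩
  have hcop : (Nat.card A).Coprime (Nat.card L) :=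
    Nat.coprime_of_dvd fun r hr hrA hrL => (hLπ r hr hrL).2 hrA
  have hsol : Group.IsSolvable L := by
    have : Group.IsSolvable H := hG.2.2.2 H hH
    exact CfsgLib.Solvable.isSolvable_of_le this (map_subtype_le _)
  have hext : ∀ U ∈ invSubgroups ⊤ A {q}, U ≤ H → ∃ S : Sylow q L, U ≤ (S : Subgroup L).map L.subtype ∧
      A ≤ normalizer ((S : Subgroup L).map L.subtype : Set G) := fun U hU hUH =>
    CfsgLib.Solvable.exists_invariant_sylow_ge (A := A) (K := L) hAL hcop (Or.inr hsol) q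
      (le_piCoreOf_of_inv hA hH hAH ⟨hUH, hqπ U hU, hU.2.2⟩) (isPGroup_iff_primes.2 hU.2.1) hU.2.2
  obtain ⟨S₁, hle₁, hAS₁⟩ := hext U₁ hU₁ h₁
  obtain ⟨S₂, hle₂, hAS₂⟩ := hext U₂ hU₂ h₂
  obtain ⟨c, hc, hcS⟩ := CfsgLib.Solvable.exists_centralizer_conj_sylow A L hAL hcop (Or.inr hsol) S₁ S₂ hAS₁ hAS₂
  obtain ⟨M₁, hM₁, hle₁'⟩ := exists_maxInvSubgroup_ge (A := A) (q := q) (R := (S₁ : Subgroup L).map L.subtype)
    ⟨le_top, isPGroup_iff_primes.1 (S₁.2.map _), hAS₁⟩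
  obtain ⟨M₂, hM₂, hle₂'⟩ := exists_maxInvSubgroup_ge (A := A) (q := q) (R := (S₂ : Subgroup L).map L.subtype)
    ⟨le_top, isPGroup_iff_primes.1 (S₂.2.map _), hAS₂⟩
  exact ⟨M₁, hM₁, M₂, hM₂, _, _, c, inf_centralizer_le_core hG hA hLπ hc, hcS, hle₁, hle₁', hle₂, hle₂'⟩

/-- Maximal invariant `q`-subgroups with nontrivial intersection are conjugate. -/
theorem kconj_of_inf_ne_bot {Q₁ Q₂ : Subgroup G} (h₁ : Q₁ ∈ maxInvSubgroups ⊤ A {q})
    (h₂ : Q₂ ∈ maxInvSubgroups ⊤ A {q}) (hne : Q₁ ⊓ Q₂ ≠ ⊥) : KConj A Q₁ Q₂ := by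
  have : Fact q.Prime := ⟨hq⟩
  by_contra hcon
  obtain ⟨⟨R₁, R₂⟩, ⟨hR₁, hR₂, hD0, hn⟩, hmax⟩ := Set.exists_max_image
    {P : Subgroup G × Subgroup G | P.1 ∈ maxInvSubgroups ⊤ A {q} ∧ P.2 ∈ maxInvSubgroups ⊤ A {q} ∧
      P.1 ⊓ P.2 ≠ ⊥ ∧ ¬ KConj A P.1 P.2}
    (fun P => Nat.card ↥(P.1 ⊓ P.2)) (Set.toFinite _) ⟨(Q₁, Q₂), h₁, h₂, hne, hcon⟩
  set D := R₁ ⊓ R₂ with hD
  have hD₁ : D ≠ R₁ := fun h => hn (by
    rw [hR₁.2 R₂ hR₂.1 (inf_eq_left.1 h)]
    exact KConj.refl R₁)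
  have hD₂ : D ≠ R₂ := fun h => hn (by
    rw [hR₂.2 R₁ hR₁.1 (inf_eq_right.1 h)]
    exact KConj.refl R₂)
  have hDtop : D ≠ ⊤ := fun h => hD₁ (le_antisymm inf_le_left (le_top.trans h.ge))
  have hAD : A ≤ normalizer (D : Set G) := CfsgLib.Solvable.le_normalizer_inf hR₁.1.2.2 hR₂.1.2.2
  have hgrow : ∀ R ∈ maxInvSubgroups ⊤ A {q}, D ≤ R → D ≠ R →
      R ⊓ normalizer (D : Set G) ∈ invSubgroups ⊤ A {q} ∧ D < R ⊓ normalizer (D : Set G) := fun R hR hDR hne' =>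
    ⟨⟨le_top, fun r hr hd => hR.1.2.1 r hr (hd.trans (card_dvd_of_le inf_le_left)),
      CfsgLib.Solvable.le_normalizer_inf hR.1.2.2 (hAD.trans le_normalizer)⟩,
      CfsgLib.Signalizer.isPGroup_inf_normalizer_gt (isPGroup_iff_primes.2 hR.1.2.1) (lt_of_le_of_ne hDR hne')⟩
  obtain ⟨hU₁, hlt₁⟩ := hgrow R₁ hR₁ inf_le_left hD₁
  obtain ⟨hU₂, hlt₂⟩ := hgrow R₂ hR₂ inf_le_right hD₂
  obtain ⟨M₁, hM₁, M₂, hM₂, S₁, S₂, c, hc, hcS, hUS₁, hSM₁, hUS₂, hSM₂⟩ := exists_conj_extensions hG hA hq hqA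
    (normalizer_ne_top_of_minSimple hG hD0 hDtop) hAD hU₁ hU₂ inf_le_right inf_le_right
  have hbig : ∀ P P' : Subgroup G, P ∈ maxInvSubgroups ⊤ A {q} → P' ∈ maxInvSubgroups ⊤ A {q} →
      D < P ⊓ P' → KConj A P P' := by
    intro P P' hP hP' hlt
    by_contra h
    exact (Set.Finite.card_lt_card (Set.toFinite _) (SetLike.coe_ssubset_coe.2 hlt)).not_ge
      (hmax (P, P') ⟨hP, hP', ne_bot_of_gt hlt, h⟩)
  have k₁ := hbig R₁ M₁ hR₁ hM₁ (hlt₁.trans_le (le_inf inf_le_left (hUS₁.trans hSM₁)))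
  have k₂ := hbig R₂ M₂ hR₂ hM₂ (hlt₂.trans_le (le_inf inf_le_left (hUS₂.trans hSM₂)))
  have hcC : c ∈ centralizer (A : Set G) := map_subtype_le _ hc
  have k₃ : KConj A M₁ M₂ := KConj.trans ⟨c, hc, rfl⟩ (hbig _ _ (map_conj_mem_maxInvSubgroups hM₁ hcC) hM₂
    (hlt₂.trans_le ((hUS₂.trans (le_inf (hcS ▸ map_mono hSM₁) hSM₂)))))
  exact hn (k₁.trans (k₃.trans k₂.symm))

/-- Maximal invariant `q`-subgroups meeting a proper overgroup of `A` nontrivially are conjugate. -/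
theorem kconj_of_common_overgroup {Q₁ Q₂ H : Subgroup G} (h₁ : Q₁ ∈ maxInvSubgroups ⊤ A {q})
    (h₂ : Q₂ ∈ maxInvSubgroups ⊤ A {q}) (hH : H ≠ ⊤) (hAH : A ≤ H) (hH₁ : H ⊓ Q₁ ≠ ⊥) (hH₂ : H ⊓ Q₂ ≠ ⊥) :
    KConj A Q₁ Q₂ := by
  have hU : ∀ Q ∈ maxInvSubgroups ⊤ A {q}, H ⊓ Q ∈ invSubgroups ⊤ A {q} := fun Q hQ =>
    ⟨le_top, fun r hr hd => hQ.1.2.1 r hr (hd.trans (card_dvd_of_le inf_le_right)),
      CfsgLib.Solvable.le_normalizer_inf (hAH.trans le_normalizer) hQ.1.2.2⟩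
  obtain ⟨M₁, hM₁, M₂, hM₂, S₁, S₂, c, hc, hcS, hUS₁, hSM₁, hUS₂, hSM₂⟩ :=
    exists_conj_extensions hG hA hq hqA hH hAH (hU Q₁ h₁) (hU Q₂ h₂) inf_le_left inf_le_left
  have hmeet : ∀ P P' U : Subgroup G, P ∈ maxInvSubgroups ⊤ A {q} → P' ∈ maxInvSubgroups ⊤ A {q} →
      U ≠ ⊥ → U ≤ P → U ≤ P' → KConj A P P' := fun P P' U hP hP' hne hle hle' =>
    kconj_of_inf_ne_bot hG hA hq hqA hP hP' fun h => hne (le_bot_iff.1 (h ▸ le_inf hle hle'))
  have k₁ := hmeet Q₁ M₁ _ h₁ hM₁ hH₁ inf_le_right (hUS₁.trans hSM₁)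
  have k₂ := hmeet Q₂ M₂ _ h₂ hM₂ hH₂ inf_le_right (hUS₂.trans hSM₂)
  have hcC : c ∈ centralizer (A : Set G) := map_subtype_le _ hc
  have k₃ : KConj A M₁ M₂ := KConj.trans ⟨c, hc, rfl⟩
    (hmeet _ _ _ (map_conj_mem_maxInvSubgroups hM₁ hcC) hM₂ hH₂
      (hUS₂.trans (hcS ▸ map_mono hSM₁)) (hUS₂.trans hSM₂))
  exact k₁.trans (k₃.trans k₂.symm)

end CfsgLib.PStab

namespace CfsgLib.PStab

open Cfsg Subgroup

variable {G : Type*} [Group G] [Finite G]

/-- A failure of `RankLE k` in the centre of `A` gives a central elementary subgroup of order `r ^ (k + 1)`. -/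
theorem exists_elementary_of_not_rankLE {A : Subgroup G} {k : ℕ}
    (h : ¬ RankLE k ↥(A ⊓ centralizer (A : Set G))) :
    ∃ r : ℕ, r.Prime ∧ ∃ B : Subgroup G, IsElementaryAbelian r B ∧ r ^ (k + 1) ≤ Nat.card B ∧
      B ≤ A ∧ (∀ b ∈ B, A ≤ centralizer ({b} : Set G)) ∧ r ∣ Nat.card A := by
  simp only [RankLE, PRankLE, not_forall] at h
  obtain ⟨r, hr, B, hBc, hBp, hB⟩ := h
  have : Fact r.Prime := ⟨hr⟩
  let Z := A ⊓ centralizer (A : Set G)
  have hrk : r ^ (k + 1) ≤ Nat.card B := by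
    obtain ⟨n, hn⟩ := IsPGroup.iff_card.1 (show IsPGroup r B from fun x => ⟨1, by rw [pow_one]; exact Subtype.ext (hBp x x.2)⟩)
    rw [hn] at hB ⊢
    exact Nat.pow_le_pow_right hr.pos (Nat.succ_le_of_lt ((Nat.pow_lt_pow_iff_right hr.one_lt).1 (not_le.1 hB)))
  have hcard : Nat.card (B.map Z.subtype) = Nat.card B := card_map_of_injective Z.subtype_injective
  have hBA : B.map Z.subtype ≤ A := (map_subtype_le B).trans inf_le_left
  refine ⟨r, hr, B.map Z.subtype, ⟨⟨⟨?_⟩⟩, ?_⟩, hcard.symm ▸ hrk, hBA, ?_, ?_⟩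
  · rintro ⟨_, a, ha, rfl⟩ ⟨_, b, hb, rfl⟩
    exact Subtype.ext (congrArg (fun x : B => ((x : Z) : G)) (hBc.is_comm.comm ⟨a, ha⟩ ⟨b, hb⟩))
  · rintro _ ⟨a, ha, rfl⟩
    exact congrArg Subtype.val (hBp a ha)
  · rintro b hb a ha
    exact mem_centralizer_singleton_iff.2 (mem_centralizer_iff.1 (map_subtype_le B hb).2 a ha)
  · refine dvd_trans ?_ (card_dvd_of_le hBA)
    rw [hcard]
    obtain ⟨n, hn⟩ := IsPGroup.iff_card.1 (show IsPGroup r B from fun x => ⟨1, by rw [pow_one]; exact Subtype.ext (hBp x x.2)⟩)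
    rw [hn] at hrk ⊢
    refine dvd_pow_self r fun h0 => ?_
    rw [h0, pow_zero] at hrk
    exact (Nat.one_lt_pow k.succ_ne_zero hr.one_lt).not_ge hrk

end CfsgLib.PStab

namespace CfsgLib.PStab

open Cfsg Subgroup
open scoped Pointwise

variable {G : Type*} [Group G] [Finite G] {A : Subgroup G}

omit [Finite G] in
theorem normalizer_le_normalizer_piCoreOf [Finite G] (π : Set ℕ) (X : Subgroup G) :
    normalizer (X : Set G) ≤ normalizer (piCoreOf π X : Set G) := by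
  refine CfsgLib.Solvable.le_normalizer_of_conj_mem fun g hg => ?_
  set P₀ := piCoreOf π X with hP₀
  set M := P₀.map (MulAut.conj g).toMonoidHom with hM
  have hMX : M ≤ X := by
    rintro _ ⟨y, hy, rfl⟩
    exact (mem_normalizer_iff.1 hg y).1 (map_subtype_le _ hy)
  have hXn : X ≤ normalizer (P₀ : Set G) := by
    refine CfsgLib.Solvable.le_normalizer_of_conj_mem ?_
    rintro x hx _ ⟨y, hy, rfl⟩
    exact ⟨⟨x, hx⟩ * y * ⟨x, hx⟩⁻¹, Normal.conj_mem inferInstance y hy _, rfl⟩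
  have hn : (M.subgroupOf X).Normal := by
    refine (normal_subgroupOf_iff_le_normalizer hMX).2 fun x hx => mem_normalizer_iff_map_conj_eq.2 ?_
    show (P₀.map (MulAut.conj g).toMonoidHom).map (MulAut.conj x).toMonoidHom = _
    rw [map_conj_map_conj, show x * g = g * (g⁻¹ * x * g) by group, ← map_conj_map_conj,
      show P₀.map (MulAut.conj (g⁻¹ * x * g)).toMonoidHom = P₀ from
        mem_normalizer_iff_map_conj_eq.1 (hXn ((mem_normalizer_iff''.1 hg x).1 hx))]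
  have hπ : ∀ r : ℕ, r.Prime → r ∣ Nat.card (M.subgroupOf X) → r ∈ π := by
    intro r hr hd
    rw [Nat.card_congr (subgroupOfEquivOfLe hMX).toEquiv, hM, card_map_of_injective (MulAut.conj g).injective,
      hP₀] at hd
    unfold piCoreOf at hd
    rw [card_map_of_injective X.subtype_injective] at hd
    exact prime_mem_of_dvd_piCore π r hr hd
  intro y hy
  have hy' : g * y * g⁻¹ ∈ M := ⟨y, hy, rfl⟩
  exact ⟨⟨_, hMX hy'⟩, le_sSup (α := Subgroup X) (show M.subgroupOf X ∈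
    {N : Subgroup X | N.Normal ∧ ∀ r : ℕ, r.Prime → r ∣ Nat.card N → r ∈ π} from ⟨hn, hπ⟩) (mem_subgroupOf.2 hy'), rfl⟩

theorem prime_mem_of_dvd_piCoreOf {π : Set ℕ} {X : Subgroup G} :
    ∀ r : ℕ, r.Prime → r ∣ Nat.card (piCoreOf π X) → r ∈ π := by
  intro r hr hd
  unfold piCoreOf at hd
  rw [card_map_of_injective X.subtype_injective] at hd
  exact prime_mem_of_dvd_piCore π r hr hd

variable (hG : IsMinSimpleOddOrder G) (hA : TransitivityHypothesis A)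
include hG hA

/-- `O_{π(A)'}(C(A)) ∩ C(P) = O_{π(A)'}(C(P))` for `A ≤ P`. -/
theorem core_inf_centralizer_eq {P : Subgroup G} (hAP : A ≤ P) :
    piCoreOf (primesNotDvd (Nat.card A)) (centralizer (A : Set G)) ⊓ centralizer (P : Set G) =
      piCoreOf (primesNotDvd (Nat.card A)) (centralizer (P : Set G)) := by
  set π := primesNotDvd (Nat.card A)
  set K := piCoreOf π (centralizer (A : Set G)) with hK
  set C := centralizer (P : Set G) with hC
  have hCA : C ≤ centralizer (A : Set G) := centralizer_le hAP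
  refine le_antisymm ?_ ?_
  · have hn : ((K ⊓ C).subgroupOf C).Normal :=
      (normal_subgroupOf_iff_le_normalizer inf_le_right).2 (CfsgLib.Solvable.le_normalizer_inf
        ((hCA.trans le_normalizer).trans (normalizer_le_normalizer_piCoreOf π _)) le_normalizer)
    intro x hx
    refine ⟨⟨x, hx.2⟩, le_sSup (α := Subgroup C) (show (K ⊓ C).subgroupOf C ∈
      {N : Subgroup C | N.Normal ∧ ∀ r : ℕ, r.Prime → r ∣ Nat.card N → r ∈ π} from ⟨hn, fun r hr hd => ?_⟩)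
      (mem_subgroupOf.2 hx), rfl⟩
    rw [Nat.card_congr (subgroupOfEquivOfLe (inf_le_right : K ⊓ C ≤ C)).toEquiv] at hd
    exact prime_mem_of_dvd_piCoreOf r hr (hd.trans (card_dvd_of_le inf_le_left))
  · exact le_inf ((le_inf le_rfl ((map_subtype_le _).trans hCA)).trans
      (inf_centralizer_le_core hG hA fun r hr hd => prime_mem_of_dvd_piCoreOf r hr hd)) (map_subtype_le _)

variable {q : ℕ} (hq : q.Prime) (hqA : ¬ q ∣ Nat.card A)
include hq hqA

/-- A nontrivial maximal `P`-invariant `q`-subgroup is maximal `A`-invariant. -/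
theorem mem_maxInvSubgroups_of_ne_bot {P : Subgroup G} (hPπ : ∀ r : ℕ, r.Prime → r ∣ Nat.card P → r ∣ Nat.card A)
    (hAP : A ≤ P) {Q : Subgroup G} (hQ : Q ∈ maxInvSubgroups ⊤ P {q}) (hQ0 : Q ≠ ⊥) :
    Q ∈ maxInvSubgroups ⊤ A {q} := by
  have : Fact q.Prime := ⟨hq⟩
  set π := primesNotDvd (Nat.card A) with hπ
  have hQA : Q ∈ invSubgroups ⊤ A {q} := ⟨le_top, hQ.1.2.1, hAP.trans hQ.1.2.2⟩
  obtain ⟨M, hM, hQM⟩ := exists_maxInvSubgroup_ge hQA
  rcases eq_or_ne Q M with rfl | hne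
  · exact hM
  exfalso
  have hMq : IsPGroup q M := isPGroup_iff_primes.2 hM.1.2.1
  have hlt : Q < M ⊓ normalizer (Q : Set G) :=
    CfsgLib.Signalizer.isPGroup_inf_normalizer_gt hMq (lt_of_le_of_ne hQM hne)
  have hQtop : Q ≠ ⊤ := fun h => hlt.not_ge (h.symm ▸ le_top)
  set H := normalizer (Q : Set G) with hH
  have hHtop : H ≠ ⊤ := normalizer_ne_top_of_minSimple hG hQ0 hQtop
  have hAH : A ≤ H := hAP.trans hQ.1.2.2
  have hqπ : ∀ U : Subgroup G, (∀ r : ℕ, r.Prime → r ∣ Nat.card U → r ∈ ({q} : Set ℕ)) →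
      ∀ r : ℕ, r.Prime → r ∣ Nat.card U → r ∈ π := by
    intro U hU r hr hd
    rw [Set.mem_singleton_iff.1 (hU r hr hd)]
    exact ⟨hq, hqA⟩
  set L := piCoreOf π H with hL
  have hPL : P ≤ normalizer (L : Set G) :=
    (hQ.1.2.2.trans le_normalizer).trans (normalizer_le_normalizer_piCoreOf π H)
  have hcop : (Nat.card P).Coprime (Nat.card L) :=
    Nat.coprime_of_dvd fun r hr hrP hrL => (prime_mem_of_dvd_piCoreOf r hr hrL).2 (hPπ r hr hrP)
  have hsol : Group.IsSolvable L := CfsgLib.Solvable.isSolvable_of_le (hG.2.2.2 H hHtop) (map_subtype_le _)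
  obtain ⟨S, hQS, hPS⟩ := CfsgLib.Solvable.exists_invariant_sylow_ge (A := P) (K := L) hPL hcop (Or.inr hsol) q
    (le_piCoreOf_of_inv hA hHtop hAH ⟨le_normalizer, hqπ _ hQ.1.2.1, hAP.trans hQ.1.2.2⟩)
    (isPGroup_iff_primes.2 hQ.1.2.1) hQ.1.2.2
  have hSQ : (S : Subgroup L).map L.subtype = Q :=
    hQ.2 _ ⟨le_top, isPGroup_iff_primes.1 (S.2.map _), hPS⟩ hQS
  set R := M ⊓ H with hR
  have hRq : IsPGroup q R := hMq.to_le inf_le_left
  have hRL : R ≤ L := le_piCoreOf_of_inv hA hHtop hAH ⟨inf_le_right, hqπ _ (isPGroup_iff_primes.1 hRq),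
    CfsgLib.Solvable.le_normalizer_inf hM.1.2.2 (hAH.trans le_normalizer)⟩
  obtain ⟨S', hS'⟩ := (hRq.of_equiv (subgroupOfEquivOfLe hRL).symm).exists_le_sylow
  have h1 : Nat.card R ≤ Nat.card Q := by
    rw [← hSQ, CfsgLib.Solvable.card_sylow_map, Sylow.card_eq_multiplicity, ← Sylow.card_eq_multiplicity S',
      ← Nat.card_congr (subgroupOfEquivOfLe hRL).toEquiv]
    exact card_le_of_le hS'
  exact hlt.ne (eq_of_le_of_card_ge hlt.le h1)

omit hG hA hq hqA in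
theorem isSolvable_piCoreOf_centralizer (hG : IsMinSimpleOddOrder G) (hA : TransitivityHypothesis A)
    {B : Subgroup G} (hAB : A ≤ B) :
    Group.IsSolvable (piCoreOf (primesNotDvd (Nat.card A)) (centralizer (B : Set G))) :=
  CfsgLib.Solvable.isSolvable_of_le
    (hG.2.2.2 _ (normalizer_ne_top_of_minSimple hG hA.1 hA.2.1))
    ((map_subtype_le _).trans ((centralizer_le hAB).trans (centralizer_le_normalizer _)))

/-- One step up a normal series. -/
theorem transitive_step {B B' : Subgroup G} (hAB : A ≤ B) (hBB' : B ≤ B')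
    (hn : B' ≤ normalizer (B : Set G)) (hπ' : ∀ r : ℕ, r.Prime → r ∣ Nat.card B' → r ∣ Nat.card A)
    (h1 : maxInvSubgroups ⊤ B {q} ⊆ maxInvSubgroups ⊤ A {q})
    (h2 : ∀ Q₁ ∈ maxInvSubgroups ⊤ B {q}, ∀ Q₂ ∈ maxInvSubgroups ⊤ B {q},
      ∃ k ∈ piCoreOf (primesNotDvd (Nat.card A)) (centralizer (B : Set G)), Q₂ = Q₁.map (MulAut.conj k).toMonoidHom) :
    maxInvSubgroups ⊤ B' {q} ⊆ maxInvSubgroups ⊤ A {q} ∧
      ∀ Q₁ ∈ maxInvSubgroups ⊤ B' {q}, ∀ Q₂ ∈ maxInvSubgroups ⊤ B' {q},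
        ∃ k ∈ piCoreOf (primesNotDvd (Nat.card A)) (centralizer (B' : Set G)),
          Q₂ = Q₁.map (MulAut.conj k).toMonoidHom := by
  letI : MulAction G (Subgroup G) := MulAction.compHom _ (MulAut.conj : G →* MulAut G)
  set π := primesNotDvd (Nat.card A)
  set K := piCoreOf π (centralizer (B : Set G)) with hK
  have hBK : B' ≤ normalizer (K : Set G) :=
    (hn.trans (CfsgLib.Solvable.normalizer_le_normalizer_centralizer B)).trans
      (normalizer_le_normalizer_piCoreOf π _)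
  have hcop : (Nat.card B').Coprime (Nat.card K) :=
    Nat.coprime_of_dvd fun r hr hrB hrK => (prime_mem_of_dvd_piCoreOf r hr hrK).2 (hπ' r hr hrB)
  have hsol := isSolvable_piCoreOf_centralizer hG hA hAB
  have hfixiff : ∀ (a : G) (R : Subgroup G), a • R = R ↔ R.map (MulAut.conj a).toMonoidHom = R :=
    fun a R => Iff.rfl
  have hsmul : ∀ (a : G) (R : Subgroup G), a • R = R.map (MulAut.conj a).toMonoidHom := fun a R => rfl
  -- a `B'`-invariant member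
  obtain ⟨Q₀, hQ₀, hQ₀'⟩ : ∃ Q₀ ∈ maxInvSubgroups ⊤ B {q}, B' ≤ normalizer (Q₀ : Set G) := by
    obtain ⟨Q, hQ, -⟩ := exists_maxInvSubgroup_ge (A := B) (q := q) (R := ⊥)
      ⟨le_top, fun r hr hd => absurd (Subgroup.card_bot (G := G) ▸ hd) hr.not_dvd_one,
        le_top.trans (normalizer_eq_top_iff.2 inferInstance).ge⟩
    obtain ⟨k, hk, hfix⟩ := CfsgLib.Solvable.exists_fixed_point B' K hBK hcop (Or.inr hsol) Q fun a ha => by
      have hmem : Q.map (MulAut.conj a).toMonoidHom ∈ maxInvSubgroups ⊤ B {q} := by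
        have hI : ∀ (R : Subgroup G) (d : G), R ∈ invSubgroups ⊤ B {q} → d ∈ normalizer (B : Set G) →
            R.map (MulAut.conj d).toMonoidHom ∈ invSubgroups ⊤ B {q} := by
          intro R d hR hd
          refine ⟨le_top, ?_, ?_⟩
          · rw [card_map_of_injective (MulAut.conj d).injective]
            exact hR.2.1
          · intro e he
            refine mem_normalizer_iff_map_conj_eq.2 ?_
            show (R.map (MulAut.conj d).toMonoidHom).map (MulAut.conj e).toMonoidHom = _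
            rw [map_conj_map_conj, show e * d = d * (d⁻¹ * e * d) by group, ← map_conj_map_conj,
              show R.map (MulAut.conj (d⁻¹ * e * d)).toMonoidHom = R from
                mem_normalizer_iff_map_conj_eq.1 (hR.2.2 ((mem_normalizer_iff''.1 hd e).1 he))]
        refine ⟨hI Q a hQ.1 (hn ha), fun R hR hle => ?_⟩
        have h := hQ.2 _ (hI R a⁻¹ hR (inv_mem (hn ha))) (by
          have := map_mono (f := (MulAut.conj a⁻¹).toMonoidHom) hle
          rwa [map_conj_map_conj, inv_mul_cancel, map_conj_one'] at this)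
        rw [← h, map_conj_map_conj, mul_inv_cancel, map_conj_one']
      obtain ⟨k, hk, he⟩ := h2 Q hQ _ hmem
      exact ⟨k, hk, by rw [hsmul, hsmul]; exact he⟩
    refine ⟨k • Q, ?_, fun a ha => mem_normalizer_iff_map_conj_eq.2 ((hfixiff _ _).1 (hfix a ha))⟩
    rw [hsmul]
    exact map_conj_mem_maxInvSubgroups hQ (map_subtype_le _ hk)
  have key : ∀ Q ∈ maxInvSubgroups ⊤ B' {q}, Q ∈ maxInvSubgroups ⊤ A {q} := by
    intro Q hQ
    rcases eq_or_ne Q ⊥ with rfl | hne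
    · rw [← hQ.2 Q₀ ⟨le_top, hQ₀.1.2.1, hQ₀'⟩ bot_le]
      exact h1 hQ₀
    · exact mem_maxInvSubgroups_of_ne_bot hG hA hq hqA hπ' (hAB.trans hBB') hQ hne
  refine ⟨key, fun Q₁ hQ₁ Q₂ hQ₂ => ?_⟩
  have hB : ∀ Q ∈ maxInvSubgroups ⊤ B' {q}, Q ∈ maxInvSubgroups ⊤ B {q} := fun Q hQ =>
    ⟨⟨le_top, hQ.1.2.1, hBB'.trans hQ.1.2.2⟩, fun R hR hle =>
      (key Q hQ).2 R ⟨le_top, hR.2.1, hAB.trans hR.2.2⟩ hle⟩
  obtain ⟨k, hk, he⟩ := h2 Q₁ (hB Q₁ hQ₁) Q₂ (hB Q₂ hQ₂)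
  obtain ⟨c, hc, hcQ⟩ := CfsgLib.Solvable.exists_centralizer_smul_eq B' K hBK hcop (Or.inr hsol) Q₁ hk
    (fun a ha => (hfixiff _ _).2 (mem_normalizer_iff_map_conj_eq.1 (hQ₁.1.2.2 ha)))
    (fun a ha => by
      rw [hsmul k Q₁, ← he]
      exact (hfixiff _ _).2 (mem_normalizer_iff_map_conj_eq.1 (hQ₂.1.2.2 ha)))
  refine ⟨c, ?_, ?_⟩
  · rw [← core_inf_centralizer_eq hG hA (hAB.trans hBB')]
    refine ⟨?_, hc.2⟩
    have h := (core_inf_centralizer_eq hG hA hAB).ge hc.1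
    exact h.1
  · rw [hsmul, hsmul] at hcQ
    rw [he, hcQ]

end CfsgLib.PStab
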