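import Cfsg.Agent.Lib.Solvable.Basic
import Mathlib

/-!
Glauberman's replacement: the subgroup `(A ∩ b⁻¹Ab)⟨[a, b⁻¹]⟩`.
-/

set_option autoImplicit false

namespace CfsgLib.PStab

open Subgroup
open scoped commutatorElement

variable {G : Type*} [Group G]

/-- The replacement of `A` by means of `b`. -/
def replaced (A : Subgroup G) (b : G) : Subgroup G :=
  (A ⊓ A.map (MulAut.conj b⁻¹).toMonoidHom) ⊔ Subgroup.closure {g : G | ∃ a ∈ A, g = a * b⁻¹ * a⁻¹ * b}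

/-- The hypotheses of the replacement. -/
structure ReplaceData (A B : Subgroup G) (b : G) : Prop where
  comm : IsMulCommutative A
  derived : ⁅B, B⁆ ≤ A
  normB : A ≤ Subgroup.normalizer (B : Set G)
  memB : b ∈ B
  conj : ∀ a ∈ A, b⁻¹ * a * b ∈ Subgroup.normalizer (A : Set G)
  conj' : ∀ a ∈ A, b * a * b⁻¹ ∈ Subgroup.normalizer (A : Set G)
  twist : IsMulCommutative B ∨ Odd (orderOf b)

theorem mem_conjInv_iff {A : Subgroup G} {b x : G} :
    x ∈ A.map (MulAut.conj b⁻¹).toMonoidHom ↔ b * x * b⁻¹ ∈ A := by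
  constructor
  · rintro ⟨y, hy, rfl⟩
    simpa [mul_assoc] using hy
  · intro h
    exact ⟨_, h, by simp [mul_assoc]⟩

namespace ReplaceData

variable {A B : Subgroup G} {b : G}

/-- `a⁻¹ * b⁻¹ a b`. -/
def x (b a : G) : G := a⁻¹ * (b⁻¹ * a * b)

/-- `Z₁ = A ∩ b⁻¹ A b`. -/
theorem mem_Z_iff {z : G} : z ∈ A ⊓ A.map (MulAut.conj b⁻¹).toMonoidHom ↔ z ∈ A ∧ b * z * b⁻¹ ∈ A := by
  rw [Subgroup.mem_inf, mem_conjInv_iff]

variable (h : ReplaceData A B b)
include h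

theorem commA {a c : G} (ha : a ∈ A) (hc : c ∈ A) : a * c = c * a :=
  congrArg Subtype.val (h.comm.is_comm.comm ⟨a, ha⟩ ⟨c, hc⟩)

theorem commA' {a c : G} (ha : b * a * b⁻¹ ∈ A) (hc : b * c * b⁻¹ ∈ A) : a * c = c * a := by
  have := h.commA ha hc
  calc a * c = b⁻¹ * ((b * a * b⁻¹) * (b * c * b⁻¹)) * b := by group
    _ = c * a := by rw [this]; group

theorem conj_mem_A {a u : G} (hu : u ∈ A) (ha : a ∈ A) : (b⁻¹ * u * b) * a * (b⁻¹ * u * b)⁻¹ ∈ A :=
  (Subgroup.mem_normalizer_iff.1 (h.conj u hu) a).1 ha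

/-- elements of `A` normalise `b⁻¹ A b`. -/
theorem conj_mem_A' {a u : G} (hu : u ∈ A) (ha : b * a * b⁻¹ ∈ A) : b * (u * a * u⁻¹) * b⁻¹ ∈ A := by
  have := (Subgroup.mem_normalizer_iff.1 (h.conj' u hu) _).1 ha
  convert this using 1
  group

theorem central {z a : G} (hz : z ∈ A ∧ b * z * b⁻¹ ∈ A) (ha : a ∈ A) :
    z * a = a * z ∧ z * (b⁻¹ * a * b) = (b⁻¹ * a * b) * z :=
  ⟨h.commA hz.1 ha, h.commA' hz.2 (by convert ha using 1; group)⟩

/-- commutators of `A` and `b⁻¹Ab` lie in `Z₁`. -/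
theorem comm_mem {a c : G} (ha : a ∈ A) (hc : c ∈ A) :
    ⁅a, b⁻¹ * c * b⁆ ∈ A ∧ b * ⁅a, b⁻¹ * c * b⁆ * b⁻¹ ∈ A := by
  refine ⟨?_, ?_⟩
  · rw [commutatorElement_def]
    have := mul_mem ha (h.conj_mem_A hc (inv_mem ha))
    simpa [mul_assoc] using this
  · have h1 : b * (a * (b⁻¹ * c * b) * a⁻¹) * b⁻¹ ∈ A := h.conj_mem_A' ha (by convert hc using 1; group)
    have := mul_mem h1 (inv_mem hc)
    convert this using 1
    rw [commutatorElement_def]; group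

theorem comm_mem' {a c : G} (ha : a ∈ A) (hc : c ∈ A) :
    ⁅b⁻¹ * a * b, c⁆ ∈ A ∧ b * ⁅b⁻¹ * a * b, c⁆ * b⁻¹ ∈ A := by
  obtain ⟨h1, h2⟩ := h.comm_mem hc ha
  rw [← commutatorElement_inv]
  refine ⟨inv_mem h1, ?_⟩
  simpa [mul_assoc] using inv_mem h2

theorem x_mem_B {a : G} (ha : a ∈ A) : x b a ∈ B := by
  have := mul_mem ((Subgroup.mem_normalizer_iff''.1 (h.normB ha) b⁻¹).1 (inv_mem h.memB)) h.memB
  simpa [x, mul_assoc] using this

theorem derived_mem {u v : G} (hu : u ∈ B) (hv : v ∈ B) : ⁅u, v⁆ ∈ A ∧ b * ⁅u, v⁆ * b⁻¹ ∈ A := by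
  refine ⟨h.derived (Subgroup.commutator_mem_commutator hu hv), ?_⟩
  have e : b * ⁅u, v⁆ * b⁻¹ = ⁅b * u * b⁻¹, b * v * b⁻¹⁆ := by simp only [commutatorElement_def]; group
  rw [e]
  exact h.derived (Subgroup.commutator_mem_commutator (mul_mem (mul_mem h.memB hu) (inv_mem h.memB))
    (mul_mem (mul_mem h.memB hv) (inv_mem h.memB)))

/-- The pairing. -/
theorem x_mul {a c : G} (ha : a ∈ A) (hc : c ∈ A) :
    x b a * x b c = x b (a * c) * ⁅(b⁻¹ * a * b)⁻¹, c⁆ := by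
  have hinv : b⁻¹ * a⁻¹ * b = (b⁻¹ * a * b)⁻¹ := by group
  obtain ⟨hk1, hk2⟩ := h.comm_mem' (inv_mem ha) hc
  rw [hinv] at hk1 hk2
  set k := ⁅(b⁻¹ * a * b)⁻¹, c⁆ with hk
  obtain ⟨e1, -⟩ := h.central ⟨hk1, hk2⟩ (inv_mem hc)
  obtain ⟨-, e2⟩ := h.central ⟨hk1, hk2⟩ hc
  have e3 : (b⁻¹ * a * b) * c⁻¹ = c⁻¹ * (b⁻¹ * a * b) * k := by
    rw [hk, commutatorElement_def]; group
  have e5 := h.commA (inv_mem ha) (inv_mem hc)
  calc x b a * x b c = a⁻¹ * ((b⁻¹ * a * b) * c⁻¹) * (b⁻¹ * c * b) := by simp only [x]; group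
    _ = a⁻¹ * c⁻¹ * (b⁻¹ * a * b) * (k * (b⁻¹ * c * b)) := by rw [e3]; group
    _ = (c⁻¹ * a⁻¹) * (b⁻¹ * a * b) * ((b⁻¹ * c * b) * k) := by rw [e5, e2]
    _ = x b (a * c) * k := by simp only [x]; group

theorem pairing_flip {a c : G} (ha : a ∈ A) (hc : c ∈ A) :
    b⁻¹ * ⁅(b⁻¹ * a * b)⁻¹, c⁆ * b = ⁅(b⁻¹ * c * b)⁻¹, a⁆ := by
  have hxa := h.x_mem_B ha
  obtain ⟨he1, he2⟩ := h.derived_mem (inv_mem hxa) (inv_mem h.memB)
  set e := ⁅(x b a)⁻¹, b⁻¹⁆ with he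
  obtain ⟨hk1, hk2⟩ := h.comm_mem ha hc
  set k := ⁅a, b⁻¹ * c * b⁆ with hk
  obtain ⟨-, ek⟩ := h.central ⟨hk1, hk2⟩ (inv_mem ha)
  obtain ⟨-, ec⟩ := h.central ⟨he1, he2⟩ hc
  have hinv : b⁻¹ * a⁻¹ * b = (b⁻¹ * a * b)⁻¹ := by group
  rw [hinv] at ek
  have e0 : ⁅(b⁻¹ * a * b)⁻¹, c⁆ = ⁅(x b a)⁻¹, c⁆ := by
    have h0 : a⁻¹ * c * a = c := by rw [mul_assoc, h.commA hc ha]; group
    calc ⁅(b⁻¹ * a * b)⁻¹, c⁆ = (x b a)⁻¹ * (a⁻¹ * c * a) * (x b a) * c⁻¹ := by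
          simp only [commutatorElement_def, x]; group
      _ = _ := by rw [h0, commutatorElement_def]; group
  have e1 : (b⁻¹ * (x b a)⁻¹ * b) = e⁻¹ * (x b a)⁻¹ := by
    rw [he]; simp only [commutatorElement_def]; group
  have e2 : b⁻¹ * ⁅(x b a)⁻¹, c⁆ * b = ⁅(x b a)⁻¹, b⁻¹ * c * b⁆ := by
    have : b⁻¹ * ⁅(x b a)⁻¹, c⁆ * b = ⁅b⁻¹ * (x b a)⁻¹ * b, b⁻¹ * c * b⁆ := by
      simp only [commutatorElement_def]; group
    rw [this, e1]
    have hz : (e⁻¹ ∈ A ∧ b * e⁻¹ * b⁻¹ ∈ A) := ⟨inv_mem he1, by simpa [mul_assoc] using inv_mem he2⟩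
    obtain ⟨-, h1⟩ := h.central hz hc
    have hm := h.comm_mem' (inv_mem ha) hc
    -- the commutator is central, so the factor drops out
    have hcomm : ⁅(x b a)⁻¹, b⁻¹ * c * b⁆ ∈ A ∧ b * ⁅(x b a)⁻¹, b⁻¹ * c * b⁆ * b⁻¹ ∈ A := by
      have e3 : ⁅(x b a)⁻¹, b⁻¹ * c * b⁆ = k := by
        have h2 : (b⁻¹ * a * b)⁻¹ * (b⁻¹ * c * b) * (b⁻¹ * a * b) = b⁻¹ * c * b := by
          calc (b⁻¹ * a * b)⁻¹ * (b⁻¹ * c * b) * (b⁻¹ * a * b) = b⁻¹ * (a⁻¹ * (c * a)) * b := by group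
            _ = _ := by rw [h.commA hc ha]; group
        calc ⁅(x b a)⁻¹, b⁻¹ * c * b⁆
            = (b⁻¹ * a * b)⁻¹ * k * ((b⁻¹ * c * b) * (b⁻¹ * a * b) * (b⁻¹ * c * b)⁻¹) := by
              rw [hk]; simp only [commutatorElement_def, x]; group
          _ = k * ((b⁻¹ * a * b)⁻¹ * (b⁻¹ * c * b) * (b⁻¹ * a * b)) * (b⁻¹ * c * b)⁻¹ := by
              rw [← ek]; group
          _ = k := by rw [h2]; group
      rw [e3]; exact ⟨hk1, hk2⟩
    obtain ⟨-, h3⟩ := h.central hcomm hc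
    calc ⁅e⁻¹ * (x b a)⁻¹, b⁻¹ * c * b⁆
        = e⁻¹ * ⁅(x b a)⁻¹, b⁻¹ * c * b⁆ * ((b⁻¹ * c * b) * e * (b⁻¹ * c * b)⁻¹) := by
          simp only [commutatorElement_def]; group
      _ = e⁻¹ * ⁅(x b a)⁻¹, b⁻¹ * c * b⁆ * e := by rw [← ec]; group
      _ = ⁅(x b a)⁻¹, b⁻¹ * c * b⁆ := by
          rw [mul_assoc, h.commA hcomm.1 he1]; group
  rw [e0, e2]
  have h2 : (b⁻¹ * a * b)⁻¹ * (b⁻¹ * c * b) * (b⁻¹ * a * b) = b⁻¹ * c * b := by
    calc (b⁻¹ * a * b)⁻¹ * (b⁻¹ * c * b) * (b⁻¹ * a * b) = b⁻¹ * (a⁻¹ * (c * a)) * b := by group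
      _ = _ := by rw [h.commA hc ha]; group
  obtain ⟨-, hck⟩ := h.central ⟨hk1, hk2⟩ (inv_mem hc)
  have hinvc : b⁻¹ * c⁻¹ * b = (b⁻¹ * c * b)⁻¹ := by group
  rw [hinvc] at hck
  calc ⁅(x b a)⁻¹, b⁻¹ * c * b⁆
      = (b⁻¹ * a * b)⁻¹ * k * ((b⁻¹ * c * b) * (b⁻¹ * a * b) * (b⁻¹ * c * b)⁻¹) := by
        rw [hk]; simp only [commutatorElement_def, x]; group
    _ = k * ((b⁻¹ * a * b)⁻¹ * (b⁻¹ * c * b) * (b⁻¹ * a * b)) * (b⁻¹ * c * b)⁻¹ := by
        rw [← ek]; group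
    _ = ((b⁻¹ * c * b)⁻¹ * k) * (b⁻¹ * c * b) := by rw [h2, ← hck]; group
    _ = ⁅(b⁻¹ * c * b)⁻¹, a⁆ := by rw [hk]; simp only [commutatorElement_def]; group

theorem x_comm {a c : G} (ha : a ∈ A) (hc : c ∈ A) : x b a * x b c = x b c * x b a := by
  rcases h.twist with hB | hodd
  · exact congrArg Subtype.val (hB.is_comm.comm ⟨_, h.x_mem_B ha⟩ ⟨_, h.x_mem_B hc⟩)
  rw [h.x_mul ha hc, h.x_mul hc ha, h.commA ha hc]
  congr 1
  set k := ⁅(b⁻¹ * a * b)⁻¹, c⁆ with hk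
  have hkk : b⁻¹ * (b⁻¹ * k * b) * b = k := by rw [hk, h.pairing_flip ha hc, h.pairing_flip hc ha]
  have h2 : b ^ 2 ∈ Subgroup.centralizer ({k} : Set G) := by
    rw [Subgroup.mem_centralizer_singleton_iff, pow_two]
    calc b * b * k = b * b * (b⁻¹ * (b⁻¹ * k * b) * b) := by rw [hkk]
      _ = k * (b * b) := by group
  obtain ⟨n, hn⟩ := hodd
  have hb : b ∈ Subgroup.centralizer ({k} : Set G) := by
    have e : (b ^ 2) ^ (n + 1) = b := by
      rw [← pow_mul, show 2 * (n + 1) = orderOf b + 1 by omega, pow_succ, pow_orderOf_eq_one, one_mul]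
    exact e ▸ Subgroup.pow_mem _ h2 _
  rw [Subgroup.mem_centralizer_singleton_iff] at hb
  rw [← h.pairing_flip ha hc, mul_assoc, ← hb]
  group

/-- Normal form. -/
theorem mem_replaced_iff {g : G} :
    g ∈ replaced A b ↔ ∃ z, (z ∈ A ∧ b * z * b⁻¹ ∈ A) ∧ ∃ a ∈ A, g = z * x b a := by
  have x_one : x b (1 : G) = 1 := by simp [x]
  have kmem : ∀ {a c : G}, a ∈ A → c ∈ A →
      (⁅(b⁻¹ * a * b)⁻¹, c⁆ ∈ A ∧ b * ⁅(b⁻¹ * a * b)⁻¹, c⁆ * b⁻¹ ∈ A) := by
    intro a c ha hc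
    have := h.comm_mem' (inv_mem ha) hc
    rwa [show b⁻¹ * a⁻¹ * b = (b⁻¹ * a * b)⁻¹ by group] at this
  constructor
  · intro hg
    let S : Subgroup G :=
      { carrier := {g | ∃ z, (z ∈ A ∧ b * z * b⁻¹ ∈ A) ∧ ∃ a ∈ A, g = z * x b a}
        one_mem' := ⟨1, ⟨one_mem _, by simp⟩, 1, one_mem _, by rw [x_one, mul_one]⟩
        mul_mem' := by
          rintro _ _ ⟨z, hz, a, ha, rfl⟩ ⟨w, hw, c, hc, rfl⟩
          obtain ⟨hk1, hk2⟩ := kmem ha hc
          have hxm := h.x_mul ha hc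
          generalize ⁅(b⁻¹ * a * b)⁻¹, c⁆ = k at hk1 hk2 hxm
          refine ⟨z * w * k, ⟨mul_mem (mul_mem hz.1 hw.1) hk1, ?_⟩, a * c, mul_mem ha hc, ?_⟩
          · have := mul_mem (mul_mem hz.2 hw.2) hk2
            convert this using 1
            group
          · obtain ⟨c1, c2⟩ := h.central hw (inv_mem ha)
            obtain ⟨-, c4⟩ := h.central hw ha
            obtain ⟨k1, -⟩ := h.central ⟨hk1, hk2⟩ (inv_mem (mul_mem ha hc))
            obtain ⟨-, k2⟩ := h.central ⟨hk1, hk2⟩ (mul_mem ha hc)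
            calc z * x b a * (w * x b c) = z * (a⁻¹ * ((b⁻¹ * a * b) * w)) * x b c := by
                  simp only [x]; group
              _ = z * ((a⁻¹ * w) * (b⁻¹ * a * b)) * x b c := by rw [← c4]; group
              _ = z * w * (x b a * x b c) := by rw [← c1]; simp only [x]; group
              _ = z * w * (x b (a * c) * k) := by rw [hxm]
              _ = z * w * ((a * c)⁻¹ * ((b⁻¹ * (a * c) * b) * k)) := by simp only [x]; group
              _ = z * w * (((a * c)⁻¹ * k) * (b⁻¹ * (a * c) * b)) := by rw [← k2]; group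
              _ = z * w * k * x b (a * c) := by rw [← k1]; simp only [x]; group
        inv_mem' := by
          rintro _ ⟨z, hz, a, ha, rfl⟩
          obtain ⟨hk1, hk2⟩ := kmem (inv_mem ha) ha
          have hxx := h.x_mul (inv_mem ha) ha
          rw [inv_mul_cancel, x_one, one_mul] at hxx
          generalize ⁅(b⁻¹ * a⁻¹ * b)⁻¹, a⁆ = k at hk1 hk2 hxx
          -- `x a⁻¹ * x a = k`
          obtain ⟨a1, a2⟩ := h.central hz (inv_mem ha)
          obtain ⟨b1, b2⟩ := h.central ⟨hk1, hk2⟩ (inv_mem ha)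
          obtain ⟨b3, -⟩ := h.central ⟨hk1, hk2⟩ ha
          obtain ⟨a3, -⟩ := h.central hz ha
          refine ⟨z⁻¹ * k⁻¹, ⟨mul_mem (inv_mem hz.1) (inv_mem hk1), ?_⟩, a⁻¹, inv_mem ha, ?_⟩
          · have := mul_mem (inv_mem hz.2) (inv_mem hk2)
            convert this using 1
            group
          · apply inv_eq_of_mul_eq_one_left
            calc z⁻¹ * k⁻¹ * x b a⁻¹ * (z * x b a)
                = z⁻¹ * k⁻¹ * (a⁻¹⁻¹ * ((b⁻¹ * a⁻¹ * b) * z)) * x b a := by simp only [x]; group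
              _ = z⁻¹ * k⁻¹ * ((a * z) * (b⁻¹ * a⁻¹ * b)) * x b a := by rw [← a2]; group
              _ = z⁻¹ * (k⁻¹ * (z * a)) * (b⁻¹ * a⁻¹ * b) * x b a := by rw [← a3]; group
              _ = z⁻¹ * (k⁻¹ * z) * (x b a⁻¹ * x b a) := by simp only [x]; group
              _ = z⁻¹ * (k⁻¹ * (z * k)) := by rw [hxx]; group
              _ = 1 := by rw [h.commA hz.1 hk1]; group }
    refine (sup_le ?_ ?_ : replaced A b ≤ S) hg
    · intro z hz
      rw [mem_Z_iff] at hz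
      exact ⟨z, hz, 1, one_mem _, by rw [x_one, mul_one]⟩
    · rw [Subgroup.closure_le]
      rintro _ ⟨a, ha, rfl⟩
      exact ⟨1, ⟨one_mem _, by simp⟩, a⁻¹, inv_mem ha, by simp only [x]; group⟩
  · rintro ⟨z, hz, a, ha, rfl⟩
    refine mul_mem (Subgroup.mem_sup_left (mem_Z_iff.2 hz)) (Subgroup.mem_sup_right ?_)
    exact Subgroup.subset_closure ⟨a⁻¹, inv_mem ha, by simp only [x]; group⟩

theorem x_mem_replaced {a : G} (ha : a ∈ A) : x b a ∈ replaced A b :=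
  h.mem_replaced_iff.2 ⟨1, ⟨one_mem _, by simp⟩, a, ha, by rw [one_mul]⟩

theorem isMulCommutative_replaced : IsMulCommutative (replaced A b) := by
  refine ⟨⟨fun u v => Subtype.ext ?_⟩⟩
  obtain ⟨z, hz, a, ha, hu⟩ := h.mem_replaced_iff.1 u.2
  obtain ⟨w, hw, c, hc, hv⟩ := h.mem_replaced_iff.1 v.2
  have hzx : ∀ {z a : G}, (z ∈ A ∧ b * z * b⁻¹ ∈ A) → a ∈ A → z * x b a = x b a * z := by
    intro z a hz ha
    obtain ⟨e1, -⟩ := h.central hz (inv_mem ha)
    obtain ⟨-, e2⟩ := h.central hz ha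
    calc z * x b a = (z * a⁻¹) * (b⁻¹ * a * b) := by simp only [x]; group
      _ = a⁻¹ * (z * (b⁻¹ * a * b)) := by rw [e1]; group
      _ = x b a * z := by rw [e2]; simp only [x]; group
  simp only [Subgroup.coe_mul]
  rw [hu, hv]
  calc z * x b a * (w * x b c) = z * (x b a * w) * x b c := by group
    _ = (z * w) * (x b a * x b c) := by rw [← hzx hw ha]; group
    _ = (w * z) * (x b c * x b a) := by rw [h.commA hz.1 hw.1, h.x_comm ha hc]
    _ = w * (z * x b c) * x b a := by group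
    _ = w * x b c * (z * x b a) := by rw [hzx hz hc]; group

theorem card_replaced [Finite G] : Nat.card (replaced A b) = Nat.card A := by
  have := h.isMulCommutative_replaced
  set Z : Subgroup G := A ⊓ A.map (MulAut.conj b⁻¹).toMonoidHom
  have hZle : Z ≤ replaced A b := le_sup_left
  have hn : (Z.subgroupOf (replaced A b)).Normal :=
    ⟨fun n hn g => by
      have e : g * n * g⁻¹ = n := by
        rw [this.is_comm.comm g n, mul_assoc, mul_inv_cancel, mul_one]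
      rwa [e]⟩
  let F : A →* (replaced A b) ⧸ Z.subgroupOf (replaced A b) :=
    MonoidHom.mk' (fun a => QuotientGroup.mk ⟨x b (a : G), h.x_mem_replaced a.2⟩) fun a c => by
      rw [← QuotientGroup.mk_mul, QuotientGroup.eq, Subgroup.mem_subgroupOf, mem_Z_iff]
      have hk := h.comm_mem' (inv_mem a.2) c.2
      rw [show b⁻¹ * (a : G)⁻¹ * b = (b⁻¹ * a * b)⁻¹ by group] at hk
      simp only [Subgroup.coe_mul, Subgroup.coe_inv]
      rw [h.x_mul a.2 c.2, inv_mul_cancel_left]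
      exact hk
  have hsurj : Function.Surjective F := by
    intro q
    obtain ⟨⟨g, hg⟩, rfl⟩ := QuotientGroup.mk_surjective q
    obtain ⟨z, hz, a, ha, rfl⟩ := h.mem_replaced_iff.1 hg
    refine ⟨⟨a, ha⟩, ?_⟩
    show QuotientGroup.mk _ = QuotientGroup.mk _
    rw [QuotientGroup.eq, Subgroup.mem_subgroupOf, mem_Z_iff]
    have hza : (x b a)⁻¹ * (z * x b a) = z := by
      have hc := congrArg Subtype.val (this.is_comm.comm
        ⟨z, hZle (mem_Z_iff.2 hz)⟩ ⟨x b a, h.x_mem_replaced ha⟩)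
      simp only [Subgroup.coe_mul] at hc
      rw [hc]; group
    simpa [hza] using hz
  have hker : F.ker.map A.subtype = A ⊓ A.map (MulAut.conj b).toMonoidHom := by
    ext g
    have hm : g ∈ A.map (MulAut.conj b).toMonoidHom ↔ b⁻¹ * g * b ∈ A := by
      constructor
      · rintro ⟨y, hy, rfl⟩; simpa [mul_assoc] using hy
      · intro hy; exact ⟨_, hy, by simp [mul_assoc]⟩
    constructor
    · rintro ⟨a, ha, rfl⟩
      refine ⟨a.2, hm.2 ?_⟩
      have ha' : F a = 1 := ha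
      have := (QuotientGroup.eq_one_iff _).1 ha'
      rw [Subgroup.mem_subgroupOf, mem_Z_iff] at this
      simpa [x] using mul_mem a.2 this.1
    · rintro ⟨hg, hg'⟩
      replace hg' := hm.1 hg'
      refine ⟨⟨g, hg⟩, (QuotientGroup.eq_one_iff _).2 ?_, rfl⟩
      rw [Subgroup.mem_subgroupOf, mem_Z_iff]
      refine ⟨mul_mem (inv_mem hg) hg', ?_⟩
      show b * (g⁻¹ * (b⁻¹ * g * b)) * b⁻¹ ∈ A
      -- `b g b⁻¹` differs from `g` by a commutator in `A`
      have hxb : x b g ∈ B := h.x_mem_B hg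
      have hc := h.derived (Subgroup.commutator_mem_commutator h.memB hxb)
      have := mul_mem hc (mul_mem (inv_mem hg) hg')
      convert this using 1
      simp only [x, commutatorElement_def]; group
  have hKZ : Nat.card F.ker = Nat.card Z := by
    rw [← Subgroup.card_map_of_injective A.subtype_injective, hker]
    refine Nat.card_congr ⟨fun g => ⟨b⁻¹ * (g : G) * b, ?_⟩, fun g => ⟨b * (g : G) * b⁻¹, ?_⟩, ?_, ?_⟩
    · obtain ⟨hg, y, hy, hyg⟩ := g.2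
      rw [mem_Z_iff]
      refine ⟨by rw [← hyg]; simpa [mul_assoc] using hy, ?_⟩
      have hgA : (g : G) ∈ A := hg
      convert hgA using 1
      group
    · have hg := mem_Z_iff.1 g.2
      exact ⟨hg.2, ⟨g, hg.1, by simp [mul_assoc]⟩⟩
    · intro g; apply Subtype.ext; simp [mul_assoc]
    · intro g; apply Subtype.ext; simp [mul_assoc]
  have h1 := Subgroup.card_mul_index F.ker
  rw [Subgroup.index_ker, MonoidHom.range_eq_top.2 hsurj, Subgroup.card_top, hKZ] at h1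
  have h2 := Subgroup.card_mul_index (Z.subgroupOf (replaced A b))
  rw [Nat.card_congr (Subgroup.subgroupOfEquivOfLe hZle).toEquiv] at h2
  exact h2.symm.trans h1

theorem replaced_le_normalizer : replaced A b ≤ Subgroup.normalizer (A : Set G) := by
  intro g hg
  obtain ⟨z, hz, a, ha, rfl⟩ := h.mem_replaced_iff.1 hg
  exact mul_mem (Subgroup.le_normalizer hz.1)
    (mul_mem (Subgroup.le_normalizer (inv_mem ha)) (h.conj a ha))

theorem inf_le_Z {a : G} (ha : a ∈ A) (haB : a ∈ B) : a ∈ A ∧ b * a * b⁻¹ ∈ A := by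
  refine ⟨ha, ?_⟩
  have := mul_mem (h.derived (Subgroup.commutator_mem_commutator h.memB haB)) ha
  simpa [commutatorElement_def, mul_assoc] using this

theorem inf_le_replaced : A ⊓ B ≤ replaced A b := fun _ hg =>
  Subgroup.mem_sup_left (mem_Z_iff.2 (h.inf_le_Z hg.1 hg.2))

theorem derived_le_replaced : ⁅B, B⁆ ≤ replaced A b :=
  le_trans (le_inf h.derived (Subgroup.commutator_le_self B)) h.inf_le_replaced

theorem exists_x_notMem [Finite G] (hb : b ∉ Subgroup.normalizer (A : Set G)) :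
    ∃ a ∈ A, x b a ∉ A := by
  by_contra hno
  push Not at hno
  apply hb
  have hinv : b⁻¹ ∈ Subgroup.normalizer (A : Set G) :=
    CfsgLib.Solvable.mem_normalizer_of_conj_mem fun a ha => by
      have := mul_mem ha (hno a ha)
      simpa [x, mul_assoc] using this
  simpa using inv_mem hinv

theorem inf_lt_replaced_inf [Finite G] (hb : b ∉ Subgroup.normalizer (A : Set G)) :
    A ⊓ B < replaced A b ⊓ B := by
  refine lt_of_le_of_ne (le_inf h.inf_le_replaced inf_le_right) fun e => ?_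
  obtain ⟨a, ha, hxa⟩ := h.exists_x_notMem hb
  have : x b a ∈ A ⊓ B := e.ge ⟨h.x_mem_replaced ha, h.x_mem_B ha⟩
  exact hxa this.1

theorem le_normalizer_replaced [Finite G] : A ≤ Subgroup.normalizer (replaced A b : Set G) := by
  refine CfsgLib.Solvable.le_normalizer_of_conj_mem fun u hu g hg => ?_
  obtain ⟨z, hz, a, ha, rfl⟩ := h.mem_replaced_iff.1 hg
  have e1 : u * z * u⁻¹ = z := by rw [h.commA hu hz.1]; group
  obtain ⟨hk1, hk2⟩ := h.comm_mem hu ha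
  have e2 : u * x b a * u⁻¹ = a⁻¹ * ⁅u, b⁻¹ * a * b⁆ * (b⁻¹ * a * b) := by
    calc u * x b a * u⁻¹ = (u * a⁻¹) * (b⁻¹ * a * b) * u⁻¹ := by simp only [x]; group
      _ = (a⁻¹ * u) * (b⁻¹ * a * b) * u⁻¹ := by rw [h.commA hu (inv_mem ha)]
      _ = _ := by simp only [commutatorElement_def]; group
  obtain ⟨e3, -⟩ := h.central ⟨hk1, hk2⟩ (inv_mem ha)
  refine h.mem_replaced_iff.2 ⟨z * ⁅u, b⁻¹ * a * b⁆, ⟨mul_mem hz.1 hk1, ?_⟩, a, ha, ?_⟩
  · have := mul_mem hz.2 hk2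
    convert this using 1
    group
  · calc u * (z * x b a) * u⁻¹ = (u * z * u⁻¹) * (u * x b a * u⁻¹) := by group
      _ = z * ((a⁻¹ * ⁅u, b⁻¹ * a * b⁆) * (b⁻¹ * a * b)) := by rw [e1, e2]
      _ = _ := by rw [← e3]; simp only [x]; group

theorem mem_normalizer_replaced [Finite G] : b ∈ Subgroup.normalizer (replaced A b : Set G) := by
  have hinv : b⁻¹ ∈ Subgroup.normalizer (replaced A b : Set G) := by
    refine CfsgLib.Solvable.mem_normalizer_of_conj_mem fun g hg => ?_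
    rw [inv_inv]
    have hx : ∀ a ∈ A, b⁻¹ * x b a * b ∈ replaced A b := by
      intro a ha
      have hd := h.derived_le_replaced (Subgroup.commutator_mem_commutator (inv_mem h.memB) (h.x_mem_B ha))
      have := mul_mem hd (h.x_mem_replaced ha)
      simpa [commutatorElement_def, mul_assoc] using this
    obtain ⟨z, hz, a, ha, rfl⟩ := h.mem_replaced_iff.1 hg
    have hzz : b⁻¹ * z * b ∈ replaced A b := by
      have e : b⁻¹ * z * b = z * x b z := by simp only [x]; group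
      rw [e]
      exact mul_mem (h.mem_replaced_iff.2 ⟨z, hz, 1, one_mem _, by simp [x]⟩) (h.x_mem_replaced hz.1)
    have := mul_mem hzz (hx a ha)
    convert this using 1
    group
  simpa using inv_mem hinv

/-- An element normalising `A`, `B` and conjugated by `b` into the normaliser of `A` normalises the
replaced subgroup. -/
theorem mem_normalizer_replaced_of [Finite G] {g : G} (hgA : g ∈ Subgroup.normalizer (A : Set G))
    (hgB : g ∈ Subgroup.normalizer (B : Set G))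
    (hgb : b * g * b⁻¹ ∈ Subgroup.normalizer (A : Set G)) :
    g ∈ Subgroup.normalizer (replaced A b : Set G) := by
  refine CfsgLib.Solvable.mem_normalizer_of_conj_mem fun u hu => ?_
  have hw : ∀ z, (z ∈ A ∧ b * z * b⁻¹ ∈ A) → (g * z * g⁻¹ ∈ A ∧ b * (g * z * g⁻¹) * b⁻¹ ∈ A) := by
    intro z hz
    refine ⟨(Subgroup.mem_normalizer_iff.1 hgA z).1 hz.1, ?_⟩
    have := (Subgroup.mem_normalizer_iff.1 hgb _).1 hz.2
    convert this using 1
    group
  -- `g' = b g b⁻¹` differs from `g` by an element of `B`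
  set g' := b * g * b⁻¹ with hg'
  have hd : g' * g⁻¹ ∈ B := by
    have := mul_mem h.memB ((Subgroup.mem_normalizer_iff.1 hgB b⁻¹).1 (inv_mem h.memB))
    convert this using 1
    rw [hg']; group
  have hdA : g' * g⁻¹ ∈ Subgroup.normalizer (A : Set G) := mul_mem hgb (inv_mem hgA)
  obtain ⟨z, hz, a, ha, rfl⟩ := h.mem_replaced_iff.1 hu
  set c := g * a * g⁻¹
  set d := g' * a * g'⁻¹
  have hc : c ∈ A := (Subgroup.mem_normalizer_iff.1 hgA a).1 ha
  have hd' : d ∈ A := (Subgroup.mem_normalizer_iff.1 hgb a).1 ha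
  have hdc : c⁻¹ * d ∈ B := by
    have h1 : (g' * g⁻¹) * c * (g' * g⁻¹)⁻¹ = d := by simp only [c, d]; group
    have := mul_mem ((Subgroup.mem_normalizer_iff''.1 (h.normB hc) _).1 hd) (inv_mem hd)
    rw [← h1]
    convert this using 1
    group
  refine h.mem_replaced_iff.2 ⟨(g * z * g⁻¹) * (c⁻¹ * d),
    ⟨mul_mem (hw z hz).1 (mul_mem (inv_mem hc) hd'), ?_⟩, d, hd', ?_⟩
  · have := mul_mem (hw z hz).2 (h.inf_le_Z (mul_mem (inv_mem hc) hd') hdc).2
    convert this using 1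
    group
  · simp only [x, c, d, hg']; group

theorem pow_eq_one_replaced [Finite G] {e : ℕ} (he : Odd e) (hA : ∀ a ∈ A, a ^ e = 1) :
    ∀ g ∈ replaced A b, g ^ e = 1 := by
  intro g hg
  obtain ⟨z, hz, a, ha, rfl⟩ := h.mem_replaced_iff.1 hg
  set k := ⁅(b⁻¹ * a * b)⁻¹, a⁆ with hk
  obtain ⟨hk1, hk2⟩ := h.comm_mem' (inv_mem ha) ha
  rw [show b⁻¹ * a⁻¹ * b = (b⁻¹ * a * b)⁻¹ by group, ← hk] at hk1 hk2
  have hkc : ∀ m : ℕ, ⁅(b⁻¹ * (a ^ m) * b)⁻¹, a⁆ = k ^ m := by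
    intro m
    induction m with
    | zero => simp
    | succ m ih =>
      obtain ⟨-, h1⟩ := h.central ⟨pow_mem hk1 m, by rw [← conj_pow]; exact pow_mem hk2 m⟩ (inv_mem ha)
      rw [show b⁻¹ * a⁻¹ * b = (b⁻¹ * a * b)⁻¹ by group] at h1
      calc ⁅(b⁻¹ * (a ^ (m + 1)) * b)⁻¹, a⁆
          = ((b⁻¹ * a * b)⁻¹ * ⁅(b⁻¹ * a ^ m * b)⁻¹, a⁆) * (a * (b⁻¹ * a * b) * a⁻¹) := by
            simp only [commutatorElement_def, pow_succ]; group
        _ = (k ^ m * (b⁻¹ * a * b)⁻¹) * (a * (b⁻¹ * a * b) * a⁻¹) := by rw [ih, h1]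
        _ = k ^ (m + 1) := by rw [pow_succ, hk]; simp only [commutatorElement_def]; group
  have hpow : ∀ m : ℕ, x b a ^ m = x b (a ^ m) * k ^ m.choose 2 := by
    intro m
    induction m with
    | zero => simp [x]
    | succ m ih =>
      have hxk : k ^ m.choose 2 * x b a = x b a * k ^ m.choose 2 := by
        obtain ⟨e1, -⟩ := h.central ⟨pow_mem hk1 (m.choose 2), by rw [← conj_pow]; exact pow_mem hk2 _⟩ (inv_mem ha)
        obtain ⟨-, e2⟩ := h.central ⟨pow_mem hk1 (m.choose 2), by rw [← conj_pow]; exact pow_mem hk2 _⟩ ha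
        calc k ^ m.choose 2 * x b a = (k ^ m.choose 2 * a⁻¹) * (b⁻¹ * a * b) := by simp only [x]; group
          _ = a⁻¹ * (k ^ m.choose 2 * (b⁻¹ * a * b)) := by rw [e1]; group
          _ = _ := by rw [e2]; simp only [x]; group
      rw [pow_succ, ih, mul_assoc, hxk, ← mul_assoc, h.x_mul (pow_mem ha m) ha, hkc m, ← pow_succ,
        mul_assoc, ← pow_add, Nat.choose_succ_succ', Nat.choose_one_right]
  have hke : k ^ e = 1 := by
    rw [← hkc e, hA a ha]; simp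
  have hx : x b a ^ e = 1 := by
    rw [hpow e, hA a ha]
    obtain ⟨n, hn⟩ := he
    have h2 : e.choose 2 = e * n := by
      rw [Nat.choose_two_right, hn, show 2 * n + 1 - 1 = n * 2 by omega, ← mul_assoc,
        Nat.mul_div_cancel _ (by norm_num)]
    rw [h2, pow_mul, hke, one_pow]; simp [x]
  have hc := congrArg Subtype.val (h.isMulCommutative_replaced.is_comm.comm
    ⟨z, Subgroup.mem_sup_left (mem_Z_iff.2 hz)⟩ ⟨x b a, h.x_mem_replaced ha⟩)
  have hcomm : Commute z (x b a) := hc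
  rw [hcomm.mul_pow, hA z hz.1, hx, one_mul]

end ReplaceData

end CfsgLib.PStab
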