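import Cfsg.Prelude.Def_TwoFusion
import Cfsg.Agent.Lib.PStab.MaxAdm
import Cfsg.Agent.Lib.PStab.Replacement
import Cfsg.Agent.Lib.PStab.Stable
import Cfsg.Agent.Lib.PGroup.Basic
import Cfsg.Agent.Lib.Transfer.Basic
import Cfsg.Agent.Lib.Transfer.Sections
import Cfsg.Agent.Lib.Transfer.Critical

/-!
Glauberman's ZJ theorem, for strongly closed subgroups and both Thompson subgroups.
-/

set_option autoImplicit false

namespace CfsgLib.PStab

open Cfsg Subgroup
open scoped commutatorElement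

variable {G : Type*} [Group G] [Finite G] {p : ℕ} [hp : Fact p.Prime]

/-- A normal subgroup acting on `B` as a `p`-group normalises everything that a Sylow subgroup and
`C(B)` normalise. -/
theorem le_of_pow_mem {C M K : Subgroup G} [K.Normal] [C.Normal] (S : Sylow p G)
    (hC : C ≤ M) (hS : (S : Subgroup G) ⊓ K ≤ M)
    (hK : ∀ k ∈ K, ∃ n : ℕ, k ^ p ^ n ∈ C) : K ≤ M := by
  obtain ⟨T, hT⟩ := CfsgLib.Transfer.exists_sylow_map_eq_inf K S
  have h1 : (T : Subgroup K) ≤ M.subgroupOf K := fun x hx => hS (hT.le ⟨x, hx, rfl⟩)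
  have h2 : C.subgroupOf K ≤ M.subgroupOf K := fun x hx => hC hx
  have h3 : IsPGroup p (K ⧸ C.subgroupOf K) := by
    intro q
    induction q using QuotientGroup.induction_on with
    | H x =>
      obtain ⟨n, hn⟩ := hK x x.2
      exact ⟨n, by rw [← QuotientGroup.mk_pow, QuotientGroup.eq_one_iff]; simpa [mem_subgroupOf] using hn⟩
  obtain ⟨j, hj⟩ := IsPGroup.iff_card.1 h3
  have h4 : (M.subgroupOf K).index = 1 := by
    refine CfsgLib.Transfer.eq_one_of_coprime_of_pow (p := p) (k := j) ?_ (hj ▸ index_dvd_of_le h2)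
    exact Nat.Coprime.coprime_dvd_left (index_dvd_of_le h1)
      (CfsgLib.Transfer.coprime_of_not_dvd T.not_dvd_index)
  intro k hk
  exact (index_eq_one.1 h4).ge (mem_top (⟨k, hk⟩ : K))

/-- If the elements of order dividing `p` of the normal `p`-subgroup `B` are centralised by `c`,
a `p`-power of `c` centralises `B`. -/
theorem exists_pow_mem_centralizer_of_omega (hp2 : p ≠ 2) {B : Subgroup G} [B.Normal]
    (hB : IsPGroup p B) {c : G} (hc : ∀ x ∈ B, x ^ p = 1 → c * x = x * c) :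
    ∃ m : ℕ, c ^ p ^ m ∈ Subgroup.centralizer (B : Set G) := by
  set φ : MulAut B := MulAut.conjNormal c with hφ
  have hne : orderOf φ ≠ 0 := (orderOf_pos φ).ne'
  refine ⟨(orderOf φ).factorization p, ?_⟩
  have hcop : (orderOf (φ ^ p ^ (orderOf φ).factorization p)).Coprime p := by
    rw [orderOf_pow_of_dvd (pow_ne_zero _ hp.out.ne_zero) (Nat.ordProj_dvd _ _)]
    exact (Nat.coprime_ordCompl hp.out hne).symm
  have hfix : ∀ x : B, x ^ p = 1 → (φ ^ p ^ (orderOf φ).factorization p) x = x := by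
    intro x hx
    have hx' : c * (x : G) = x * c := hc x x.2 (by simpa using congrArg Subtype.val hx)
    have hcm : Commute (c ^ p ^ (orderOf φ).factorization p) (x : G) := (Commute.pow_left hx' _)
    apply Subtype.ext
    rw [hφ, ← map_pow, MulAut.conjNormal_apply, hcm.eq, mul_inv_cancel_right]
  have h1 := CfsgLib.Transfer.aut_eq_one_of_fix_omega hp2 hB _ hcop hfix
  rw [Subgroup.mem_centralizer_iff]
  intro x hx
  have := congrArg (fun ψ : MulAut B => ((ψ ⟨x, hx⟩ : B) : G)) h1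
  simp only [hφ, ← map_pow, MulAut.conjNormal_apply, MulAut.one_apply] at this
  exact (mul_inv_eq_iff_eq_mul.1 this).symm

/-- Normaliser growth inside a `p`-subgroup. -/
theorem exists_mem_normalizer_notMem {S N V : Subgroup G} [V.Normal] (hS : IsPGroup p S)
    (hNS : N ≤ S) (hVS : V ≤ S) (hVN : ¬ V ≤ N) :
    ∃ b ∈ V, b ∈ Subgroup.normalizer (N : Set G) ∧ b ∉ N := by
  set M := V ⊔ N with hM
  have : Group.IsNilpotent M := (hS.to_le (sup_le hVS hNS)).isNilpotent
  have hlt : N.subgroupOf M < ⊤ := lt_of_le_of_ne le_top fun e =>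
    hVN (le_sup_left.trans (Subgroup.subgroupOf_eq_top.1 e))
  obtain ⟨m, hm, hmN⟩ := SetLike.exists_of_lt (normalizerCondition_of_isNilpotent _ hlt)
  have hmG : (m : G) ∈ Subgroup.normalizer (N : Set G) := by
    refine CfsgLib.Solvable.mem_normalizer_of_conj_mem fun y hy => ?_
    exact Subgroup.mem_subgroupOf.1 ((Subgroup.mem_normalizer_iff.1 hm ⟨y, le_sup_right (a := V) hy⟩).1
      (Subgroup.mem_subgroupOf.2 hy))
  obtain ⟨v, hv, n, hn, e⟩ :=
    CfsgLib.Solvable.exists_mul_of_mem_sup (K := V) (A := N)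
      (by rw [Subgroup.normalizer_eq_top V]; exact le_top) m.2
  have hv' : v = (m : G) * n⁻¹ := by rw [e]; group
  refine ⟨v, hv, hv' ▸ mul_mem hmG (inv_mem (Subgroup.le_normalizer hn)), fun hvN => hmN ?_⟩
  rw [Subgroup.mem_subgroupOf, e]
  exact mul_mem hvN hn

/-- `[B,B]` is proper in a nontrivial `p`-group. -/
theorem commutator_lt_self {B : Subgroup G} (hB : IsPGroup p B) (hne : B ≠ ⊥) : ⁅B, B⁆ < B := by
  refine lt_of_le_of_ne (Subgroup.commutator_le_self B) fun h => ?_
  have : Nontrivial B := (Subgroup.nontrivial_iff_ne_bot B).2 hne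
  have h1 := CfsgLib.PGroup.commutator_le_frattini (G := B) hB
  have h2 : (_root_.commutator B).map B.subtype = ⁅B, B⁆ := by
    rw [_root_.commutator_def, Subgroup.map_commutator, ← MonoidHom.range_eq_map, Subgroup.range_subtype]
  refine CfsgLib.PGroup.frattini_ne_top (G := B) hB (top_le_iff.1 fun x _ => ?_)
  have hx : (x : G) ∈ (_root_.commutator B).map B.subtype := by rw [h2, h]; exact x.2
  obtain ⟨y, hy, hxy⟩ := hx
  exact h1 (B.subtype_injective hxy ▸ hy)

/-- Conjugates of `p`-th powers generate a proper subgroup. -/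
theorem normalClosure_pow_lt {B : Subgroup G} [B.Normal] (hB : IsPGroup p B) (hne : B ≠ ⊥)
    {X : Set G} (hX : X ⊆ B) : Subgroup.normalClosure ((· ^ p) '' X) < B := by
  have : Nontrivial B := (Subgroup.nontrivial_iff_ne_bot B).2 hne
  have hle : Subgroup.normalClosure ((· ^ p) '' X) ≤ (frattini B).map B.subtype := by
    refine (Subgroup.closure_le _).2 ?_
    intro y hy
    rw [Group.mem_conjugatesOfSet_iff] at hy
    obtain ⟨_, ⟨x, hx, rfl⟩, hc⟩ := hy
    obtain ⟨g, rfl⟩ := isConj_iff.1 hc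
    refine ⟨_, CfsgLib.PGroup.pow_mem_frattini (G := B) hB
      ⟨g * x * g⁻¹, (inferInstance : B.Normal).conj_mem x (hX hx) g⟩, ?_⟩
    simp [conj_pow]
  refine lt_of_le_of_lt hle (lt_of_le_of_ne (Subgroup.map_subtype_le _) fun h => ?_)
  refine CfsgLib.PGroup.frattini_ne_top (G := B) hB (top_le_iff.1 fun x _ => ?_)
  obtain ⟨y, hy, hxy⟩ := h.ge x.2
  exact B.subtype_injective hxy ▸ hy

variable (hp2 : p ≠ 2) (hst : ∀ (P : Subgroup G) [P.Normal], IsPGroup p P → IsPStableOn p P)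
  {e : ℕ} (he : e = 0 ∨ e = p) (S : Sylow p G) {D : Subgroup G}
  (hD : IsStronglyClosed D (S : Subgroup G))

omit hp in
include hD in
theorem mem_normalizer_of_stronglyClosed {g : G}
    (hg : ∀ x ∈ D, g * x * g⁻¹ ∈ (S : Subgroup G)) : g ∈ Subgroup.normalizer (D : Set G) :=
  CfsgLib.Solvable.mem_normalizer_of_conj_mem fun x hx => hD.2 x hx g (hg x hx)

include hp2 hst he hD in
/-- The ZJ theorem: a normal `p`-subgroup meets `Z(J(D))` in a normal subgroup. -/
theorem inf_zjGen_normal (B : Subgroup G) [B.Normal] (hB : IsPGroup p B) :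
    (B ⊓ zjGen e D).Normal := by
  suffices h : ∀ (n : ℕ) (B : Subgroup G), B.Normal → IsPGroup p B → Nat.card B = n →
      (B ⊓ zjGen e D).Normal from h _ B inferInstance hB rfl
  clear! B
  intro n
  induction n using Nat.strong_induction_on with
  | _ n ih =>
  intro B hBn hB hn
  have ihB : ∀ B' : Subgroup G, B'.Normal → B' < B → (B' ⊓ zjGen e D).Normal := fun B' h1 h2 =>
    ih _ (hn ▸ lt_of_not_ge fun hle => h2.ne (Subgroup.eq_of_le_of_card_ge h2.le hle))
      B' h1 (hB.to_le h2.le) rfl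
  set Z := zjGen e D with hZdef
  set U := B ⊓ Z with hU
  by_cases hne : B = ⊥
  · have : U = ⊥ := le_bot_iff.1 (inf_le_left.trans hne.le)
    rw [this]; infer_instance
  have hZD : Z ≤ D := zjGen_le e D
  have hBS : B ≤ (S : Subgroup G) :=
    (CfsgLib.Cores.le_pCore hB).trans (CfsgLib.Cores.pCore_le_sylow S)
  have hSN : ∀ s ∈ (S : Subgroup G), ∀ z ∈ Z, s * z * s⁻¹ ∈ Z := fun s hs z hz =>
    conj_mem_zjGen (mem_normalizer_of_stronglyClosed S hD fun x hx =>
      mul_mem (mul_mem hs (hD.1 hx)) (inv_mem hs)) hz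
  have hSU : ∀ s ∈ (S : Subgroup G), ∀ u ∈ U, s * u * s⁻¹ ∈ U := fun s hs u hu =>
    ⟨hBn.conj_mem u hu.1 s, hSN s hs u hu.2⟩
  set B0 := Subgroup.normalClosure (U : Set G) with hB0
  have hUB0 : U ≤ B0 := Subgroup.subset_normalClosure
  have hB0B : B0 ≤ B := Subgroup.normalClosure_le_normal inf_le_left
  rcases hB0B.lt_or_eq with hlt | heq
  · have h := ihB B0 inferInstance hlt
    have e1 : B0 ⊓ Z = U := le_antisymm (inf_le_inf_right _ hB0B) (le_inf hUB0 inf_le_right)
    rwa [e1] at h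
  -- now `B` is generated by the conjugates of `U`
  have hUD : ∀ u ∈ U, ∀ g : G, g * u * g⁻¹ ∈ D := fun u hu g =>
    hD.2 u (hZD hu.2) g (hBS (hBn.conj_mem u hu.1 g))
  have hBD : B ≤ D := by
    rw [← heq, hB0]
    refine (Subgroup.closure_le _).2 fun y hy => ?_
    rw [Group.mem_conjugatesOfSet_iff] at hy
    obtain ⟨u, hu, hc⟩ := hy
    obtain ⟨g, rfl⟩ := isConj_iff.1 hc
    exact hUD u hu g
  -- the derived subgroup lies in `Z`
  have hM : (⁅B, B⁆ ⊓ Z).Normal := ihB _ inferInstance (commutator_lt_self hB hne)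
  have hBB : ⁅B, B⁆ ≤ Z := by
    let T : Subgroup G :=
      { carrier := {u | u ∈ B ∧ ∀ b ∈ B, ⁅b, u⁆ ∈ ⁅B, B⁆ ⊓ Z}
        one_mem' := ⟨one_mem _, fun b _ => by simp⟩
        mul_mem' := by
          rintro u v ⟨hu, hu'⟩ ⟨hv, hv'⟩
          refine ⟨mul_mem hu hv, fun b hb => ?_⟩
          rw [show ⁅b, u * v⁆ = ⁅b, u⁆ * (u * ⁅b, v⁆ * u⁻¹) by simp only [commutatorElement_def]; group]
          exact mul_mem (hu' b hb) (hM.conj_mem _ (hv' b hb) u)
        inv_mem' := by
          rintro u ⟨hu, hu'⟩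
          refine ⟨inv_mem hu, fun b hb => ?_⟩
          rw [show ⁅b, u⁻¹⁆ = u⁻¹ * ⁅b, u⁆⁻¹ * u⁻¹⁻¹ by simp only [commutatorElement_def]; group]
          exact hM.conj_mem _ (inv_mem (hu' b hb)) u⁻¹ }
    have hTn : T.Normal := ⟨fun u hu g => ⟨hBn.conj_mem u hu.1 g, fun b hb => by
      rw [show ⁅b, g * u * g⁻¹⁆ = g * ⁅g⁻¹ * b * g⁻¹⁻¹, u⁆ * g⁻¹ by
        simp only [commutatorElement_def]; group]
      exact hM.conj_mem _ (hu.2 _ (hBn.conj_mem b hb g⁻¹)) g⟩⟩
    have hBT : B ≤ T := by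
      rw [← heq, hB0]
      refine Subgroup.normalClosure_le_normal fun u hu => ⟨hu.1, fun b hb => ⟨?_, ?_⟩⟩
      · exact Subgroup.commutator_mem_commutator hb hu.1
      · show ⁅b, u⁆ ∈ Z
        rw [commutatorElement_def]
        exact Z.mul_mem (hSU b (hBS hb) u hu).2 (Z.inv_mem hu.2)
    exact Subgroup.commutator_le.2 fun b hb v hv => ((hBT hv).2 b hb).2
  -- which is centralised by `B`
  have hcent : ∀ N : Subgroup G, N.Normal → N ≤ Z → ∀ x ∈ B, ∀ y ∈ N, x * y = y * x := by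
    intro N hNn hNZ x hx y hy
    have : B ≤ Subgroup.centralizer (N : Set G) := by
      rw [← heq, hB0]
      refine Subgroup.normalClosure_le_normal fun u hu => Subgroup.mem_centralizer_iff.2 fun y hy => ?_
      exact zjGen_comm (hNZ hy) hu.2
    exact (Subgroup.mem_centralizer_iff.1 (this hx) y hy).symm
  have hBBc := hcent _ inferInstance hBB
  have hcl : ∀ x y : B, ⁅x, y⁆ ∈ Subgroup.center B := fun x y => Subgroup.mem_center_iff.2 fun w =>
    Subtype.ext (hBBc w w.2 _ (Subgroup.commutator_mem_commutator x.2 y.2))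
  -- `[B,B]` has exponent `p`
  have hexp : ∀ x ∈ B, ∀ y ∈ B, ⁅x, y⁆ ^ p = 1 := by
    set N1 := Subgroup.normalClosure ((· ^ p) '' (U : Set G))
    have hN1 : N1 < B := normalClosure_pow_lt hB hne inf_le_left
    have hN1Z : N1 ≤ Z := by
      have := ihB N1 inferInstance hN1
      refine le_trans (Subgroup.normalClosure_le_normal (N := N1 ⊓ Z) ?_) inf_le_right
      rintro _ ⟨u, hu, rfl⟩
      exact ⟨Subgroup.subset_normalClosure ⟨u, hu, rfl⟩, pow_mem hu.2 p⟩
    let T : Subgroup G :=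
      { carrier := {v | v ∈ B ∧ ∀ b ∈ B, ⁅b, v⁆ ^ p = 1}
        one_mem' := ⟨one_mem _, fun b _ => by simp⟩
        mul_mem' := by
          rintro u v ⟨hu, hu'⟩ ⟨hv, hv'⟩
          refine ⟨mul_mem hu hv, fun b hb => ?_⟩
          have hz := Subgroup.commutator_mem_commutator hb hv (g₂ := v)
          have e1 : u * ⁅b, v⁆ * u⁻¹ = ⁅b, v⁆ := by rw [hBBc u hu _ hz, mul_inv_cancel_right]
          rw [show ⁅b, u * v⁆ = ⁅b, u⁆ * (u * ⁅b, v⁆ * u⁻¹) by simp only [commutatorElement_def]; group,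
            e1, (show Commute ⁅b, u⁆ ⁅b, v⁆ from hBBc _ (Subgroup.commutator_le_self B
              (Subgroup.commutator_mem_commutator hb hu)) _ hz).mul_pow, hu' b hb, hv' b hb, one_mul]
        inv_mem' := by
          rintro u ⟨hu, hu'⟩
          refine ⟨inv_mem hu, fun b hb => ?_⟩
          rw [show ⁅b, u⁻¹⁆ = u⁻¹ * ⁅b, u⁆⁻¹ * u⁻¹⁻¹ by simp only [commutatorElement_def]; group,
            conj_pow, inv_pow, hu' b hb, inv_one]
          group }
    have hTn : T.Normal := ⟨fun u hu g => ⟨hBn.conj_mem u hu.1 g, fun b hb => by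
      rw [show ⁅b, g * u * g⁻¹⁆ = g * ⁅g⁻¹ * b * g⁻¹⁻¹, u⁆ * g⁻¹ by
        simp only [commutatorElement_def]; group, conj_pow, hu.2 _ (hBn.conj_mem b hb g⁻¹)]
      group⟩⟩
    have hBT : B ≤ T := by
      rw [← heq, hB0]
      refine Subgroup.normalClosure_le_normal fun u hu => ⟨hu.1, fun b hb => ?_⟩
      have h1 : ((⁅(⟨b, hb⟩ : B), (⟨u, hu.1⟩ : B)⁆ ^ p : B) : G) =
          ((⁅(⟨b, hb⟩ : B), (⟨u, hu.1⟩ : B) ^ p⁆ : B) : G) :=
        congrArg Subtype.val (CfsgLib.PGroup.comm_pow_right (hcl _ _) p).symm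
      have h2 : b * u ^ p = u ^ p * b :=
        hcent N1 inferInstance hN1Z b hb _ (Subgroup.subset_normalClosure ⟨u, hu, rfl⟩)
      have h3 : ⁅b, u ^ p⁆ = 1 := commutatorElement_eq_one_iff_mul_comm.2 h2
      exact h1.trans h3
    exact fun x hx y hy => (hBT hy).2 x hx
  -- `Ω₁(B)`
  let V : Subgroup G :=
    { carrier := {x | x ∈ B ∧ x ^ p = 1}
      one_mem' := ⟨one_mem _, one_pow _⟩
      mul_mem' := by
        rintro u v ⟨hu, hu'⟩ ⟨hv, hv'⟩
        refine ⟨mul_mem hu hv, ?_⟩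
        obtain ⟨j, hj⟩ : p ∣ p.choose 2 := hp.out.dvd_choose_self (by norm_num)
          (lt_of_le_of_ne hp.out.two_le (Ne.symm hp2))
        have h1 := congrArg Subtype.val
          (CfsgLib.PGroup.mul_pow_of_comm_mem_center (a := (⟨u, hu⟩ : B)) (b := (⟨v, hv⟩ : B))
            (hcl _ _) p)
        refine h1.trans ?_
        show u ^ p * v ^ p * ⁅v, u⁆ ^ p.choose 2 = 1
        rw [hu', hv', hj, pow_mul, hexp v hv u hu, one_pow, one_mul, one_mul]
      inv_mem' := fun {u} hu => ⟨inv_mem hu.1, by rw [inv_pow, hu.2, inv_one]⟩ }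
  have hVn : V.Normal := ⟨fun u hu g => ⟨hBn.conj_mem u hu.1 g, by rw [conj_pow, hu.2]; group⟩⟩
  have hVB : V ≤ B := fun x hx => hx.1
  -- the kernel of the action on the cosets of `N(U)`
  set L := (Subgroup.normalizer (U : Set G)).normalCore with hL
  have hC : Subgroup.centralizer (B : Set G) ≤ Subgroup.normalizer (U : Set G) := fun c hc =>
    CfsgLib.Solvable.mem_normalizer_of_conj_mem fun u hu => by
      rw [← Subgroup.mem_centralizer_iff.1 hc u hu.1, mul_inv_cancel_right]; exact hu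
  have hSnU : (S : Subgroup G) ≤ Subgroup.normalizer (U : Set G) := fun s hs =>
    CfsgLib.Solvable.mem_normalizer_of_conj_mem fun u hu => hSU s hs u hu
  obtain ⟨T, hT⟩ := CfsgLib.Transfer.exists_sylow_map_eq_inf L S
  have hfrat : ∀ g : G, ∃ m ∈ Subgroup.normalizer (((S : Subgroup G) ⊓ L : Subgroup G) : Set G),
      ∃ l ∈ L, g = m * l := by
    intro g
    have htop := Sylow.normalizer_sup_eq_top T
    rw [hT] at htop
    have hg : g⁻¹ ∈ L ⊔ Subgroup.normalizer (((S : Subgroup G) ⊓ L : Subgroup G) : Set G) := by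
      rw [sup_comm, htop]; trivial
    obtain ⟨l, hl, m, hm, e1⟩ := CfsgLib.Solvable.exists_mul_of_mem_sup
      (by rw [Subgroup.normalizer_eq_top L]; exact le_top) hg
    exact ⟨m⁻¹, inv_mem hm, l⁻¹, inv_mem hl, by rw [← inv_inv g, e1, mul_inv_rev]⟩
  have hLU : ∀ l ∈ L, ∀ u ∈ U, l * u * l⁻¹ ∈ U := fun l hl u hu =>
    (Subgroup.mem_normalizer_iff.1 (Subgroup.normalCore_le _ hl) u).1 hu
  have hND : ∀ m ∈ Subgroup.normalizer (((S : Subgroup G) ⊓ L : Subgroup G) : Set G),
      m ∈ Subgroup.normalizer ((D ⊓ L : Subgroup G) : Set G) := fun m hm =>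
    CfsgLib.Solvable.mem_normalizer_of_conj_mem fun x hx => by
      have h1 := (Subgroup.mem_normalizer_iff.1 hm x).1 ⟨hD.1 hx.1, hx.2⟩
      exact ⟨hD.2 x hx.1 m h1.1, h1.2⟩
  -- members of the maximal family inside `L`
  have hone : ∀ A₀ ∈ maxAdm e D, A₀ ≤ L → ∀ x ∈ B, ∀ a ∈ A₀, x * a = a * x := by
    intro A₀ h0 h0L
    set C1 := Subgroup.centralizer (jGen e (D ⊓ L) : Set G)
    have hJ : jGen e (D ⊓ L) ≤ jGen e D := sSup_le fun A hA =>
      le_jGen (maxAdm_of_le inf_le_left h0 (le_inf h0.1 h0L) hA)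
    have hconj : ∀ m ∈ Subgroup.normalizer (((S : Subgroup G) ⊓ L : Subgroup G) : Set G), ∀ u ∈ C1,
        m * u * m⁻¹ ∈ C1 := by
      intro m hm u hu
      rw [Subgroup.mem_centralizer_iff] at hu ⊢
      intro y hy
      have hy' : m⁻¹ * y * m ∈ jGen e (D ⊓ L) := by
        have hm' := inv_mem (hND m hm)
        have hmap : (D ⊓ L).map (MulAut.conj m⁻¹).toMonoidHom = D ⊓ L := by
          rw [← CfsgLib.Solvable.conj_smul_eq_map]
          exact CfsgLib.Solvable.conj_smul_self_of_mem_normalizer hm'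
        have := jGen_map (e := e) (MulAut.conj m⁻¹).injective (f := (MulAut.conj m⁻¹).toMonoidHom) (D ⊓ L)
        rw [hmap] at this
        rw [this]
        exact ⟨y, hy, by simp⟩
      calc y * (m * u * m⁻¹) = m * ((m⁻¹ * y * m) * u) * m⁻¹ := by group
        _ = m * u * m⁻¹ * y := by rw [hu _ hy']; group
    have hBC : B ≤ C1 := by
      rw [← heq, hB0]
      refine (Subgroup.closure_le _).2 fun y hy => ?_
      rw [Group.mem_conjugatesOfSet_iff] at hy
      obtain ⟨u, hu, hc⟩ := hy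
      obtain ⟨g, rfl⟩ := isConj_iff.1 hc
      obtain ⟨m, hm, l, hl, rfl⟩ := hfrat g
      rw [show m * l * u * (m * l)⁻¹ = m * (l * u * l⁻¹) * m⁻¹ by group]
      exact hconj m hm _ (Subgroup.centralizer_le hJ (hLU l hl u hu).2.2)
    intro x hx a ha
    refine (Subgroup.mem_centralizer_iff.1 (hBC hx) a (le_jGen ?_ ha)).symm
    exact ⟨le_inf h0.1 h0L, h0.2.1, fun C hC hCa => h0.2.2 C (hC.trans inf_le_left) hCa⟩
  by_cases hall : ∀ A ∈ maxAdm e D, A ≤ L
  · have hJeq : jGen e (D ⊓ L) = jGen e D := by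
      obtain ⟨A₀, h0⟩ := maxAdm_nonempty e D
      refine le_antisymm (sSup_le fun A hA =>
        le_jGen (maxAdm_of_le inf_le_left h0 (le_inf h0.1 (hall _ h0)) hA)) (sSup_le fun A hA => ?_)
      exact le_jGen ⟨le_inf hA.1 (hall A hA), hA.2.1, fun C hC hCa => hA.2.2 C (hC.trans inf_le_left) hCa⟩
    have hZeq : zjGen e (D ⊓ L) = Z := by rw [hZdef, zjGen, zjGen, hJeq]
    refine ⟨fun u hu g => ⟨hBn.conj_mem u hu.1 g, ?_⟩⟩
    obtain ⟨m, hm, l, hl, rfl⟩ := hfrat g
    have h1 : l * u * l⁻¹ ∈ zjGen e (D ⊓ L) := hZeq.symm ▸ (hLU l hl u hu).2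
    rw [show m * l * u * (m * l)⁻¹ = m * (l * u * l⁻¹) * m⁻¹ by group, ← hZeq]
    exact conj_mem_zjGen (hND m hm) h1
  exfalso
  push Not at hall
  obtain ⟨A, ⟨hA, hAL⟩, hmax⟩ := (Set.toFinite {A | A ∈ maxAdm e D ∧ ¬ A ≤ L}).exists_maximalFor
    (fun A : Subgroup G => Nat.card (A ⊓ V : Subgroup G)) _ hall
  -- `V` does not normalise `A`
  have hVA : ¬ V ≤ Subgroup.normalizer (A : Set G) := by
    intro hVA
    apply hAL
    intro a ha
    have hq : IsQuad V a := by
      intro x hx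
      have h1 : ⁅x, a⁆ ∈ A := by
        rw [commutatorElement_def]
        exact mul_mem ((Subgroup.mem_normalizer_iff.1 (hVA hx) a).1 ha) (inv_mem ha)
      exact commutatorElement_eq_one_iff_mul_comm.2 (adm_comm hA.2.1 h1 ha)
    have hmk := hst V (hB.to_le hVB) a
      ((isQuad_iff (by rw [Subgroup.normalizer_eq_top V]; trivial)).1 hq)
    set K := (pCore p (G ⧸ Subgroup.centralizer (V : Set G))).comap
      (QuotientGroup.mk' (Subgroup.centralizer (V : Set G))) with hKdef
    have hK : ∀ k ∈ K, ∃ n : ℕ, k ^ p ^ n ∈ Subgroup.centralizer (B : Set G) := by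
      intro k hk
      obtain ⟨n, hn⟩ := CfsgLib.Cores.isPGroup_pCore p ⟨_, hk⟩
      have h1 : k ^ p ^ n ∈ Subgroup.centralizer (V : Set G) := by
        rw [← QuotientGroup.eq_one_iff]
        simpa using congrArg Subtype.val hn
      obtain ⟨m, hm⟩ := exists_pow_mem_centralizer_of_omega hp2 hB fun x hx hxp =>
        (Subgroup.mem_centralizer_iff.1 h1 x ⟨hx, hxp⟩).symm
      exact ⟨n + m, by rw [pow_add, pow_mul]; exact hm⟩
    have hKn : K.Normal := (inferInstance : (pCore p (G ⧸ Subgroup.centralizer (V : Set G))).Normal).comap _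
    have hKU : K ≤ Subgroup.normalizer (U : Set G) :=
      le_of_pow_mem S hC (inf_le_left.trans hSnU) hK
    exact Subgroup.normal_le_normalCore.2 hKU hmk
  set N := (S : Subgroup G) ⊓ Subgroup.normalizer (A : Set G) with hNdef
  obtain ⟨b, hbV, hbN, hbnN⟩ := exists_mem_normalizer_notMem (N := N) S.2 inf_le_left
    (hVB.trans hBS) fun h => hVA (h.trans inf_le_right)
  have hbS : b ∈ (S : Subgroup G) := hBS (hVB hbV)
  have hbA : b ∉ Subgroup.normalizer (A : Set G) := fun h => hbnN ⟨hbS, h⟩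
  have hAN : A ≤ N := le_inf (hA.1.trans hD.1) Subgroup.le_normalizer
  have h : ReplaceData A V b :=
    { comm := hA.2.1.1
      derived := Subgroup.commutator_le.2 fun x hx y hy =>
        mem_of_commute_maxAdm (p := p) he hA
          (hBD (Subgroup.commutator_le_self B (Subgroup.commutator_mem_commutator hx.1 hy.1)))
          (hexp x hx.1 y hy.1)
          fun a ha => (Subgroup.mem_centralizer_iff.1
            (hBB (Subgroup.commutator_mem_commutator hx.1 hy.1)).2 a (le_jGen hA ha)).symm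
      normB := by rw [Subgroup.normalizer_eq_top V]; exact le_top
      memB := hbV
      conj := fun a ha => ((Subgroup.mem_normalizer_iff''.1 hbN a).1 (hAN ha)).2
      conj' := fun a ha => ((Subgroup.mem_normalizer_iff.1 hbN a).1 (hAN ha)).2
      twist := Or.inr ((hp.out.odd_of_ne_two hp2).of_dvd_nat (orderOf_dvd_of_pow_eq_one hbV.2)) }
  have hA'D : replaced A b ≤ D := by
    intro g hg
    obtain ⟨z, hz, a, ha, rfl⟩ := h.mem_replaced_iff.1 hg
    refine mul_mem (hA.1 hz.1) (mul_mem (inv_mem (hA.1 ha)) ?_)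
    have := hD.2 a (hA.1 ha) b⁻¹ (mul_mem (mul_mem (inv_mem hbS) (hD.1 (hA.1 ha))) (inv_mem (inv_mem hbS)))
    simpa using this
  have hA'adm : Adm e (replaced A b) := by
    refine ⟨h.isMulCommutative_replaced, ?_⟩
    rcases he with he | he
    · intro a _; rw [he, pow_zero]
    · exact h.pow_eq_one_replaced (he ▸ hp.out.odd_of_ne_two hp2) hA.2.1.2
  have hA' : replaced A b ∈ maxAdm e D :=
    ⟨hA'D, hA'adm, fun C hC hCa => h.card_replaced.symm ▸ hA.2.2 C hC hCa⟩
  have hlt := h.inf_lt_replaced_inf hbA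
  have hA'L : replaced A b ≤ L := by
    by_contra hn'
    exact hlt.ne (Subgroup.eq_of_le_of_card_ge hlt.le (hmax ⟨hA', hn'⟩ (Subgroup.card_le_of_le hlt.le)))
  exact hVA fun v hv => h.replaced_le_normalizer
    (mem_of_commute_maxAdm (p := p) he hA' (hBD (hVB hv)) hv.2
      fun a ha => hone _ hA' hA'L v (hVB hv) a ha)

include hp2 hst he hD in
/-- If `O_p` contains its centraliser, `Z(J(D))` is normal. -/
theorem zjGen_normal (hc : Subgroup.centralizer (pCore p G : Set G) ≤ pCore p G) :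
    (zjGen e D).Normal := by
  have hP := CfsgLib.Cores.isPGroup_pCore p (G := G)
  have hle : zjGen e D ≤ pCore p G := by
    intro z hz
    have hq : IsQuad (pCore p G) z := by
      intro x hx
      have hxS := CfsgLib.Cores.pCore_le_sylow S hx
      have h1 : ⁅x, z⁆ ∈ zjGen e D := by
        rw [commutatorElement_def]
        exact mul_mem (conj_mem_zjGen (mem_normalizer_of_stronglyClosed S hD fun y hy =>
          mul_mem (mul_mem hxS (hD.1 hy)) (inv_mem hxS)) hz) (inv_mem hz)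
      exact commutatorElement_eq_one_iff_mul_comm.2 (zjGen_comm h1 hz)
    have hmk := hst (pCore p G) hP z
      ((isQuad_iff (by rw [Subgroup.normalizer_eq_top]; trivial)).1 hq)
    set K := (pCore p (G ⧸ Subgroup.centralizer (pCore p G : Set G))).comap
      (QuotientGroup.mk' (Subgroup.centralizer (pCore p G : Set G))) with hKdef
    have hKn : K.Normal :=
      (inferInstance : (pCore p (G ⧸ Subgroup.centralizer (pCore p G : Set G))).Normal).comap _
    refine CfsgLib.Cores.le_pCore (N := K) ?_ hmk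
    rintro ⟨k, hk⟩
    obtain ⟨n, hn⟩ := CfsgLib.Cores.isPGroup_pCore p ⟨_, hk⟩
    have h1 : k ^ p ^ n ∈ pCore p G := hc <| by
      rw [← QuotientGroup.eq_one_iff]
      simpa using congrArg Subtype.val hn
    obtain ⟨m, hm⟩ := hP ⟨_, h1⟩
    refine ⟨n + m, Subtype.ext ?_⟩
    have := congrArg Subtype.val hm
    simp only [SubmonoidClass.coe_pow, Subgroup.coe_one] at this ⊢
    rw [pow_add, pow_mul, this]
  have h := inf_zjGen_normal hp2 hst he S hD (pCore p G) hP
  rwa [inf_eq_right.2 hle] at h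

include hp2 hst he in
/-- ... and characteristic when `D` is the Sylow subgroup. -/
theorem zjGen_sylow_characteristic (hc : Subgroup.centralizer (pCore p G : Set G) ≤ pCore p G) :
    (zjGen e (S : Subgroup G)).Characteristic := by
  have hn := zjGen_normal hp2 hst he S (D := (S : Subgroup G)) ⟨le_rfl, fun _ _ _ h => h⟩ hc
  rw [Subgroup.characteristic_iff_map_le]
  intro φ
  set S' : Sylow p G := S.mapSurjective (f := φ.toMonoidHom) φ.surjective
  obtain ⟨g, hg⟩ := MulAction.exists_smul_eq G S S'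
  have e1 : (S : Subgroup G).map φ.toMonoidHom = (S : Subgroup G).map (MulAut.conj g).toMonoidHom := by
    rw [← CfsgLib.Solvable.conj_smul_eq_map, ← Sylow.coe_subgroup_smul, hg]
    rfl
  rw [← zjGen_map (f := φ.toMonoidHom) φ.injective, e1,
    zjGen_map (f := (MulAut.conj g).toMonoidHom) (MulAut.conj g).injective]
  rintro _ ⟨x, hx, rfl⟩
  exact hn.conj_mem x hx g

end CfsgLib.PStab
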