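import Cfsg.Agent.Lib.PStab.TameSeries
import Cfsg.Agent.Lib.Classical.SLBasic

/-!
Dickson's lemma: a finite subgroup of `SL(2)` in odd characteristic containing two transvections with
different centres contains `SL(2, p)`.
-/

set_option autoImplicit false

namespace CfsgLib.PStab.Dickson

open Matrix Finset MulAction
open scoped LinearAlgebra.Projectivization MatrixGroups

variable {p : ℕ} [hp : Fact p.Prime]

local notation "KK" => AlgebraicClosure (ZMod p)
local notation "SS" => Matrix.SpecialLinearGroup (Fin 2) (AlgebraicClosure (ZMod p))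
local notation "PP" => ℙ (AlgebraicClosure (ZMod p)) (Fin 2 → AlgebraicClosure (ZMod p))

/-- Upper transvection. -/
noncomputable def uu (a : KK) : SS := ⟨!![1, a; 0, 1], by simp [Matrix.det_fin_two]⟩

/-- Lower transvection. -/
noncomputable def ll (b : KK) : SS := ⟨!![1, 0; b, 1], by simp [Matrix.det_fin_two]⟩

@[simp] theorem uu_coe (a : KK) :
    (uu a : Matrix (Fin 2) (Fin 2) KK) = !![1, a; 0, 1] := rfl

@[simp] theorem ll_coe (b : KK) :
    (ll b : Matrix (Fin 2) (Fin 2) KK) = !![1, 0; b, 1] := rfl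

theorem uu_mul (a b : KK) : uu a * uu b = uu (a + b) := by
  ext i j; fin_cases i <;> fin_cases j <;> simp [add_comm]

theorem ll_mul (a b : KK) : ll a * ll b = ll (a + b) := by
  ext i j; fin_cases i <;> fin_cases j <;> simp

theorem uu_pow (a : KK) (n : ℕ) : uu a ^ n = uu ((n : KK) * a) := by
  induction n with
  | zero => ext i j; fin_cases i <;> fin_cases j <;> simp
  | succ n ih => rw [pow_succ, ih, uu_mul]; congr 1; push_cast; ring

theorem ll_pow (a : KK) (n : ℕ) : ll a ^ n = ll ((n : KK) * a) := by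
  induction n with
  | zero => ext i j; fin_cases i <;> fin_cases j <;> simp
  | succ n ih => rw [pow_succ, ih, ll_mul]; congr 1; push_cast; ring

/-- The scalar embedding of `SL(2, p)` twisted by a diagonal matrix. -/
noncomputable def twist (a : KK) (ha : a ≠ 0) :
    Matrix.SpecialLinearGroup (Fin 2) (ZMod p) →* SS where
  toFun M := ⟨!![algebraMap (ZMod p) KK (M 0 0), a * algebraMap (ZMod p) KK (M 0 1);
      a⁻¹ * algebraMap (ZMod p) KK (M 1 0), algebraMap (ZMod p) KK (M 1 1)], by
    have h := congrArg (algebraMap (ZMod p) KK) M.det_coe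
    rw [Matrix.det_fin_two, map_sub, map_mul, map_mul, map_one] at h
    rw [Matrix.det_fin_two_of, ← h]
    field_simp⟩
  map_one' := by ext i j; fin_cases i <;> fin_cases j <;> simp
  map_mul' M N := by
    apply Subtype.ext
    show (_ : Matrix (Fin 2) (Fin 2) KK) = (_ : Matrix (Fin 2) (Fin 2) KK) * _
    ext i j; fin_cases i <;> fin_cases j <;>
      simp [Matrix.mul_apply, Fin.sum_univ_two] <;> field_simp

@[simp] theorem twist_coe (a : KK) (ha : a ≠ 0) (M : Matrix.SpecialLinearGroup (Fin 2) (ZMod p)) :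
    (twist a ha M : Matrix (Fin 2) (Fin 2) KK) =
      !![algebraMap (ZMod p) KK (M 0 0), a * algebraMap (ZMod p) KK (M 0 1);
        a⁻¹ * algebraMap (ZMod p) KK (M 1 0), algebraMap (ZMod p) KK (M 1 1)] := rfl

theorem twist_injective {a : KK} (ha : a ≠ 0) : Function.Injective (twist (p := p) a ha) := by
  intro M N h
  have e := fun i j => congrArg (fun X : SS => (X : Matrix (Fin 2) (Fin 2) KK) i j) h
  have hinj := (algebraMap (ZMod p) KK).injective
  ext i j
  fin_cases i <;> fin_cases j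
  · exact hinj (by simpa using e 0 0)
  · exact hinj (by simpa [ha] using e 0 1)
  · exact hinj (by simpa [ha] using e 1 0)
  · exact hinj (by simpa using e 1 1)

/-- The transvection pair generates a copy of `SL(2, p)`. -/
theorem exists_hom_of_pair {R : Subgroup SS} {a b : KK} {j : ZMod p} (hj : j ≠ 0)
    (hab : a * b = algebraMap (ZMod p) KK j) (hu : uu a ∈ R) (hl : ll b ∈ R) :
    ∃ f : Matrix.SpecialLinearGroup (Fin 2) (ZMod p) →* SS, Function.Injective f ∧ f.range ≤ R := by
  have ha : a ≠ 0 := fun e => hj ((algebraMap (ZMod p) KK).injective (by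
    rw [← hab, e, zero_mul, map_zero]))
  refine ⟨twist a ha, twist_injective ha, ?_⟩
  rw [MonoidHom.range_eq_map, Subgroup.map_le_iff_le_comap, top_le_iff]
  refine CfsgLib.Classical.SL_le_of_transvections _ fun i k hik c => ?_
  rw [Subgroup.mem_comap]
  fin_cases i <;> fin_cases k
  · exact absurd rfl hik
  · convert R.pow_mem hu c.val using 1
    rw [uu_pow]
    apply Subtype.ext
    show (twist a ha _ : Matrix (Fin 2) (Fin 2) KK) = ((uu _ : SS) : Matrix (Fin 2) (Fin 2) KK)
    rw [twist_coe, uu_coe]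
    have hc : algebraMap (ZMod p) KK c = (c.val : KK) := by
      rw [← map_natCast (algebraMap (ZMod p) KK), ZMod.natCast_rightInverse]
    rw [← hc]
    ext r s
    fin_cases r <;> fin_cases s <;>
      simp [Matrix.SpecialLinearGroup.transvection, Matrix.transvection, mul_comm]
  · convert R.pow_mem hl (c * j⁻¹).val using 1
    rw [ll_pow]
    have hb : b = a⁻¹ * algebraMap (ZMod p) KK j := by rw [← hab, inv_mul_cancel_left₀ ha]
    have hc : algebraMap (ZMod p) KK c = ((c * j⁻¹).val : KK) * algebraMap (ZMod p) KK j := by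
      rw [← map_natCast (algebraMap (ZMod p) KK), ZMod.natCast_rightInverse, ← map_mul,
        inv_mul_cancel_right₀ hj]
    apply Subtype.ext
    show (twist a ha _ : Matrix (Fin 2) (Fin 2) KK) = ((ll _ : SS) : Matrix (Fin 2) (Fin 2) KK)
    rw [twist_coe, ll_coe]
    ext r s
    fin_cases r <;> fin_cases s <;>
      simp [Matrix.SpecialLinearGroup.transvection, Matrix.transvection, hb, hc] <;> ring
  · exact absurd rfl hik

/-- Conclusion format. -/
def HasSL2p (R : Subgroup SS) : Prop :=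
  ∃ f : Matrix.SpecialLinearGroup (Fin 2) (ZMod p) →* SS, Function.Injective f ∧ f.range ≤ R

theorem hasSL2p_of_conj {R : Subgroup SS} (Q : SS) {a b : KK} {j : ZMod p} (hj : j ≠ 0)
    (hab : a * b = algebraMap (ZMod p) KK j) (hu : Q * uu a * Q⁻¹ ∈ R) (hl : Q * ll b * Q⁻¹ ∈ R) :
    HasSL2p R := by
  obtain ⟨f, hf, hle⟩ := exists_hom_of_pair (R := R.comap (MulAut.conj Q).toMonoidHom) hj hab hu hl
  refine ⟨(MulAut.conj Q).toMonoidHom.comp f, (MulAut.conj Q).injective.comp hf, ?_⟩
  rintro _ ⟨x, rfl⟩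
  exact hle ⟨x, rfl⟩

/-- A conjugate in `R` of one of the two generators. -/
def IsConjGen (R : Subgroup SS) (c : KK) (g : SS) : Prop :=
  ∃ x ∈ R, g = x * uu 1 * x⁻¹ ∨ g = x * ll c * x⁻¹

/-- Two conjugates of the generators form, in some basis, a pair with product in the prime field. -/
def HasPair (R : Subgroup SS) (c : KK) : Prop :=
  ∃ (Q : SS) (a b : KK) (j : ZMod p), j ≠ 0 ∧ a * b = algebraMap (ZMod p) KK j ∧
    IsConjGen R c (Q * uu a * Q⁻¹) ∧ IsConjGen R c (Q * ll b * Q⁻¹)

/-- The only scalars of determinant one. -/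
theorem scalar_cases {g : SS} {c : KK} (h : (g : Matrix (Fin 2) (Fin 2) KK) = c • 1) :
    g = 1 ∨ g = -1 := by
  have h1 := g.det_coe
  rw [h, Matrix.det_smul, Matrix.det_one, mul_one, Fintype.card_fin, sq_eq_one_iff] at h1
  rcases h1 with rfl | rfl
  · left; apply Subtype.ext; simpa using h
  · right; apply Subtype.ext; simpa using h

theorem neg_one_ne_one (hp2 : p ≠ 2) : (-1 : SS) ≠ 1 := by
  intro e
  have h := congrArg (fun X : SS => (X : Matrix (Fin 2) (Fin 2) KK) 0 0) e
  simp at h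
  have h2 : ((2 : ℕ) : KK) = 0 := by push_cast; linear_combination -h
  rw [CharP.cast_eq_zero_iff KK p] at h2
  exact hp2 ((Nat.prime_dvd_prime_iff_eq hp.out Nat.prime_two).1 h2)

/-- The structure of the eigenlines of a non-central element. -/
theorem eigen_cases {g : SS} (hg1 : g ≠ 1) (hg2 : g ≠ -1) :
    (∃ a b : KK, ∃ v w : Fin 2 → KK, a ≠ b ∧ v ≠ 0 ∧ w ≠ 0 ∧
      (g : Matrix (Fin 2) (Fin 2) KK) *ᵥ v = a • v ∧ (g : Matrix (Fin 2) (Fin 2) KK) *ᵥ w = b • w ∧
      ∀ (x : Fin 2 → KK) (l : KK), (g : Matrix (Fin 2) (Fin 2) KK) *ᵥ x = l • x →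
        (∃ c : KK, x = c • v) ∨ ∃ c : KK, x = c • w) ∨
    (∃ a : KK, ∃ v : Fin 2 → KK, (a = 1 ∨ a = -1) ∧ v ≠ 0 ∧
      (g : Matrix (Fin 2) (Fin 2) KK) *ᵥ v = a • v ∧ (a⁻¹ • (g : Matrix (Fin 2) (Fin 2) KK)) ^ p = 1 ∧
      ∀ (x : Fin 2 → KK) (l : KK), (g : Matrix (Fin 2) (Fin 2) KK) *ᵥ x = l • x → ∃ c : KK, x = c • v) := by
  set A := (g : Matrix (Fin 2) (Fin 2) KK) with hA
  obtain ⟨a, b, v, w, hv, hw, hav, hbw, hpoly⟩ := exists_eigen A
  by_cases hab : a = b
  swap
  · exact Or.inl ⟨a, b, v, w, hab, hv, hw, hav, hbw, fun x l hx => eigen_line hv hw hav hbw hab hx⟩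
  subst hab
  right
  have hnil : (A - a • 1) ^ p = 0 :=
    pow_eq_zero_of_le hp.out.two_le (by rw [pow_two]; exact hpoly)
  have hAp : A ^ p = a ^ p • 1 := by
    rw [sub_pow_char_of_commute _ ((Commute.one_right A).smul_right a), smul_pow, one_pow,
      sub_eq_zero] at hnil
    exact hnil
  have ha2 : a ^ 2 = 1 := by
    have h := congrArg Matrix.det hAp
    rw [Matrix.det_pow, hA, g.det_coe, one_pow, Matrix.det_smul, Matrix.det_one, mul_one,
      Fintype.card_fin, ← pow_mul, mul_comm, pow_mul] at h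
    exact eq_one_of_pow_prime_pow (p := p) (n := 1) (by rw [pow_one]; exact h.symm)
  have ha : a = 1 ∨ a = -1 := sq_eq_one_iff.1 ha2
  have ha0 : a ≠ 0 := fun e => by rw [e] at ha2; norm_num at ha2
  refine ⟨a, v, ha, hv, hav, by rw [smul_pow, hAp, smul_smul, ← mul_pow, inv_mul_cancel₀ ha0, one_pow, one_smul],
    fun x l hx => exists_eq_smul_of_det_eq_zero hv (by_contra fun hd => ?_)⟩
  -- the eigenvalue of `x` equals `a`
  have hla : l = a := by
    have h1 : ((A - a • 1) * (A - a • 1)) *ᵥ x = ((l - a) * (l - a)) • x := by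
      rw [← Matrix.mulVec_mulVec, Matrix.sub_mulVec, Matrix.sub_mulVec, Matrix.smul_mulVec,
        Matrix.one_mulVec, hx, ← sub_smul, Matrix.mulVec_smul, hx, Matrix.smul_mulVec, Matrix.one_mulVec,
        smul_smul, smul_smul, ← sub_smul]
      congr 1
      ring
    rw [hpoly, Matrix.zero_mulVec] at h1
    have hx0 : x ≠ 0 := fun e => hd (by simp [e])
    exact sub_eq_zero.1 (mul_self_eq_zero.1 ((smul_eq_zero.1 h1.symm).resolve_right hx0))
  subst hla
  rcases scalar_cases (eq_smul_one_of_two_eigen hav hx hd) with e | e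
  · exact hg1 e
  · exact hg2 e

theorem smul_def {R : Subgroup SS} (g : R) (v : Fin 2 → KK) :
    g • v = ((g : SS) : Matrix (Fin 2) (Fin 2) KK) *ᵥ v := rfl

theorem smul_mk' {R : Subgroup SS} (g : R) {v : Fin 2 → KK} (hv : v ≠ 0) :
    g • Projectivization.mk KK v hv = Projectivization.mk KK (g • v) ((smul_ne_zero_iff_ne g).mpr hv) :=
  rfl

theorem fix_iff (R : Subgroup SS) (g : R) {v : Fin 2 → KK} (hv : v ≠ 0) :
    g • Projectivization.mk KK v hv = Projectivization.mk KK v hv ↔
      ∃ c : KK, ((g : SS) : Matrix (Fin 2) (Fin 2) KK) *ᵥ v = c • v := by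
  rw [smul_mk', Projectivization.mk_eq_mk_iff']
  exact ⟨fun ⟨c, hc⟩ => ⟨c, hc.symm⟩, fun ⟨c, hc⟩ => ⟨c, hc.symm⟩⟩

theorem fix_rep (R : Subgroup SS) (g : R) {M : PP} (h : g • M = M) :
    ∃ c : KK, ((g : SS) : Matrix (Fin 2) (Fin 2) KK) *ᵥ M.rep = c • M.rep := by
  rw [← M.mk_rep] at h
  exact (fix_iff R g M.rep_nonzero).1 h

theorem mk_eq_of_smul {v : Fin 2 → KK} (hv : v ≠ 0) {M : PP} {c : KK} (h : M.rep = c • v) :
    M = Projectivization.mk KK v hv := by
  rw [← M.mk_rep, Projectivization.mk_eq_mk_iff']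
  exact ⟨c, h.symm⟩

/-- The numerical case distinction. -/
theorem numerics {q d n s k : ℕ} (hq : 3 ≤ q) (hodd : Odd q) (hd : d ≤ q - 1) (hd0 : 0 < d)
    (hk : 1 ≤ k) (hs : s = 1 + k * q) (h : (s * (q - 2) + 2) * n = s * q * d) :
    k = 1 ∨ (q = 3 ∧ d = 2 ∧ n = 5) := by
  obtain ⟨r, rfl⟩ : ∃ r, q = r + 2 := ⟨q - 2, by omega⟩
  simp only [Nat.add_sub_cancel] at h
  have hd' : d ≤ r + 1 := by omega
  have hrodd : Odd r := by
    obtain ⟨t, ht⟩ := hodd
    exact ⟨t - 1, by omega⟩
  have hm' : n * r ≤ (r + 2) * d := by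
    have hs0 : 0 < s := by omega
    refine Nat.le_of_mul_le_mul_left ?_ hs0
    calc s * (n * r) ≤ (s * r + 2) * n := by ring_nf; omega
      _ = s * ((r + 2) * d) := by rw [h]; ring
  obtain ⟨m, hm⟩ := Nat.exists_eq_add_of_le hm'
  have h2n : 2 * n = s * m := by
    have : (s * r + 2) * n = s * (n * r + m) := by rw [h, ← hm]; ring
    ring_nf at this ⊢
    omega
  have h2d : 2 * d = m * (1 + k * r) := by
    refine Nat.eq_of_mul_eq_mul_left (show 0 < r + 2 by omega) ?_
    calc (r + 2) * (2 * d) = 2 * ((r + 2) * d) := by ring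
      _ = (2 * n) * r + 2 * m := by rw [hm]; ring
      _ = (r + 2) * (m * (1 + k * r)) := by rw [h2n, hs]; ring
  rcases Nat.lt_or_ge 1 k with hk2 | hk2
  swap
  · left; omega
  right
  obtain ⟨t, rfl⟩ := hrodd
  have hm1 : m = 1 := by
    rcases Nat.eq_zero_or_pos m with h0 | h0
    · exfalso
      rw [h0, zero_mul] at h2d
      omega
    · by_contra hne
      have : 2 * (1 + k * (2 * t + 1)) ≤ m * (1 + k * (2 * t + 1)) := Nat.mul_le_mul_right _ (by omega)
      nlinarith
  subst hm1
  rw [one_mul] at h2d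
  have hk3 : k ≠ 2 := by rintro rfl; omega
  have ht : t = 0 := by
    by_contra hne
    have : 3 * (2 * t + 1) ≤ k * (2 * t + 1) := Nat.mul_le_mul_right _ (by omega)
    omega
  subst ht
  norm_num at h2d hs hd' ⊢
  have : k = 3 := by omega
  subst this
  norm_num at hs
  subst hs
  constructor <;> omega


theorem coe_neg_one : ((-1 : SS) : Matrix (Fin 2) (Fin 2) KK) = -1 := by simp

theorem coe_neg_mul (g : SS) :
    (((-1 : SS) * g : SS) : Matrix (Fin 2) (Fin 2) KK) = -(g : Matrix (Fin 2) (Fin 2) KK) := by simp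

theorem eq_neg_one_of_sq {g : SS} (hg : g * g = 1) (hg1 : g ≠ 1) (hp2 : p ≠ 2) : g = -1 := by
  by_contra hne
  have e : (g : Matrix (Fin 2) (Fin 2) KK) * (g : Matrix (Fin 2) (Fin 2) KK) = 1 :=
    congrArg (fun X : SS => (X : Matrix (Fin 2) (Fin 2) KK)) hg
  have hd := g.det_coe
  rw [Matrix.det_fin_two] at hd
  have h00 := congrFun (congrFun e 0) 0
  have h01 := congrFun (congrFun e 0) 1
  have h10 := congrFun (congrFun e 1) 0
  have h11 := congrFun (congrFun e 1) 1
  simp [Matrix.mul_apply, Fin.sum_univ_two] at h00 h01 h10 h11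
  set A := (g : Matrix (Fin 2) (Fin 2) KK)
  have h2 : (2 : KK) ≠ 0 := by
    intro h2
    have h' : ((2 : ℕ) : KK) = 0 := by exact_mod_cast h2
    rw [CharP.cast_eq_zero_iff KK p] at h'
    exact hp2 ((Nat.prime_dvd_prime_iff_eq hp.out Nat.prime_two).1 h')
  have ht : A 0 0 + A 1 1 ≠ 0 := by
    intro ht
    apply h2
    linear_combination -h00 - hd + A 0 0 * ht
  have hb : A 0 1 = 0 := (mul_eq_zero.1 (by linear_combination h01 :
    A 0 1 * (A 0 0 + A 1 1) = 0)).resolve_right ht
  have hc : A 1 0 = 0 := (mul_eq_zero.1 (by linear_combination h10 :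
    A 1 0 * (A 0 0 + A 1 1) = 0)).resolve_right ht
  have had : A 0 0 = A 1 1 := by
    have h3 : (A 0 0 - A 1 1) * (A 0 0 + A 1 1) = 0 := by linear_combination h00 - h11
    exact sub_eq_zero.1 ((mul_eq_zero.1 h3).resolve_right ht)
  have hsc : A = (A 0 0) • (1 : Matrix (Fin 2) (Fin 2) KK) := by
    ext i j; fin_cases i <;> fin_cases j <;> simp [hb, hc, had]
  rcases scalar_cases hsc with h | h
  · exact hg1 h
  · exact hne h

theorem neg_one_mem (hp2 : p ≠ 2) {R : Subgroup SS} [Finite R] {c : KK} (hc : c ≠ 0)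
    (hu : uu 1 ∈ R) (hl : ll c ∈ R) : (-1 : SS) ∈ R := by
  by_contra hno
  have hodd : Odd (Nat.card R) := by
    rw [← Nat.not_even_iff_odd, even_iff_two_dvd]
    intro hd
    obtain ⟨x, hx⟩ := exists_prime_orderOf_dvd_card' (G := R) 2 hd
    have h1 : (x : SS) * x = 1 := by
      rw [← Subgroup.coe_mul, ← pow_two, orderOf_dvd_iff_pow_eq_one.1 (dvd_of_eq hx)]; rfl
    have h2 : (x : SS) ≠ 1 := fun e => by
      rw [show x = 1 from Subtype.ext e, orderOf_one] at hx; omega
    exact hno (eq_neg_one_of_sq h1 h2 hp2 ▸ x.2)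
  let ρ : R →* Matrix (Fin 2) (Fin 2) KK :=
    { toFun := fun g => ((g : SS) : Matrix (Fin 2) (Fin 2) KK)
      map_one' := rfl
      map_mul' := fun _ _ => rfl }
  have hρ : Function.Injective ρ := fun a b e => Subtype.ext (Subtype.ext e)
  have hdvd : p ∣ Nat.card R := by
    have h1 : orderOf (⟨uu 1, hu⟩ : R) = p := by
      refine orderOf_eq_prime (Subtype.ext ?_) fun e => ?_
      · show uu 1 ^ p = 1
        rw [uu_pow, CharP.cast_eq_zero, zero_mul]
        apply Subtype.ext
        show ((uu 0 : SS) : Matrix (Fin 2) (Fin 2) KK) = 1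
        rw [uu_coe, Matrix.one_fin_two]
      · have := congrArg (fun X : R => ((X : SS) : Matrix (Fin 2) (Fin 2) KK) 0 1) e
        simp at this
    exact dvd_trans (dvd_of_eq h1.symm) (orderOf_dvd_natCard _)
  obtain ⟨v, hv, hfix⟩ := exists_common_eigenvector p hodd ρ hρ hdvd
  obtain ⟨a, ha⟩ := hfix ⟨uu 1, hu⟩
  obtain ⟨b, hb⟩ := hfix ⟨ll c, hl⟩
  have h1 : (uu 1 : SS).1 *ᵥ v = a • v := ha
  have h0 := congrFun ha 0
  have h1' := congrFun ha 1
  have h2 := congrFun hb 0
  have h3 := congrFun hb 1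
  simp [ρ, Matrix.mulVec, dotProduct, Fin.sum_univ_two] at h0 h1' h2 h3
  by_cases hz : v 1 = 0
  · have hz0 : v 0 ≠ 0 := fun e => hv (by ext i; fin_cases i <;> simp [e, hz])
    rw [hz] at h3
    simp at h3
    rcases h3 with h | h
    · exact hc h
    · exact hz0 h
  · have ha1 : a = 1 := mul_right_cancel₀ hz (by linear_combination -h1')
    exact hz (by rw [ha1] at h0; linear_combination h0)

/-- The point `(x : 1)`. -/
noncomputable def pt (x : KK) : PP :=
  Projectivization.mk KK ![x, 1] (fun e => by simpa using congrFun e 1)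

/-- The point at infinity. -/
noncomputable def inf' : PP :=
  Projectivization.mk KK ![(1 : KK), 0] (fun e => by simpa using congrFun e 0)

theorem pt_injective : Function.Injective (pt (p := p)) := by
  intro x y h
  rw [pt, pt, Projectivization.mk_eq_mk_iff'] at h
  obtain ⟨c, hc⟩ := h
  have h0 := congrFun hc 0
  have h1 := congrFun hc 1
  simp at h0 h1
  rw [← h0, h1, one_mul]

theorem pt_ne_inf (x : KK) : pt x ≠ inf' := by
  intro h
  rw [pt, inf', Projectivization.mk_eq_mk_iff'] at h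
  obtain ⟨c, hc⟩ := h
  simpa using congrFun hc 1

theorem line_cases (L : PP) : L = inf' ∨ ∃ x, L = pt x := by
  by_cases h : L.rep 1 = 0
  · left
    refine mk_eq_of_smul _ (c := L.rep 0) ?_
    ext i; fin_cases i <;> simp [h]
  · right
    refine ⟨L.rep 0 / L.rep 1, mk_eq_of_smul _ (c := L.rep 1) ?_⟩
    ext i; fin_cases i <;> simp [mul_div_cancel₀, h]

theorem smul_inf_iff {R : Subgroup SS} (g : R) : g • (inf' : PP) = inf' ↔ ((g : SS) : Matrix (Fin 2) (Fin 2) KK) 1 0 = 0 := by
  rw [inf', fix_iff R]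
  constructor
  · rintro ⟨c, hc⟩
    simpa [Matrix.mulVec, dotProduct, Fin.sum_univ_two] using congrFun hc 1
  · intro h
    exact ⟨((g : SS) : Matrix (Fin 2) (Fin 2) KK) 0 0, by
      ext i; fin_cases i <;> simp [Matrix.mulVec, dotProduct, Fin.sum_univ_two, h]⟩

theorem smul_pt_eq {R : Subgroup SS} (g : R) {x y : KK} (h : g • pt x = pt y) :
    ((g : SS) : Matrix (Fin 2) (Fin 2) KK) 0 0 * x + ((g : SS) : Matrix (Fin 2) (Fin 2) KK) 0 1 =
      y * (((g : SS) : Matrix (Fin 2) (Fin 2) KK) 1 0 * x + ((g : SS) : Matrix (Fin 2) (Fin 2) KK) 1 1) := by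
  rw [pt, pt, smul_mk', Projectivization.mk_eq_mk_iff'] at h
  obtain ⟨c, hc⟩ := h
  rw [smul_def] at hc
  have h0 := congrFun hc 0
  have h1 := congrFun hc 1
  simp [Matrix.mulVec, dotProduct, Fin.sum_univ_two] at h0 h1
  linear_combination -h0 + y * h1

theorem smul_pt_eq_inf {R : Subgroup SS} (g : R) {x : KK} (h : g • pt x = inf') :
    ((g : SS) : Matrix (Fin 2) (Fin 2) KK) 1 0 * x + ((g : SS) : Matrix (Fin 2) (Fin 2) KK) 1 1 = 0 := by
  rw [pt, inf', smul_mk', Projectivization.mk_eq_mk_iff'] at h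
  obtain ⟨c, hc⟩ := h
  rw [smul_def] at hc
  have h1 := congrFun hc 1
  simp [Matrix.mulVec, dotProduct, Fin.sum_univ_two] at h1
  linear_combination -h1

theorem smul_inf_eq_pt {R : Subgroup SS} (g : R) {y : KK} (h : g • (inf' : PP) = pt y) :
    ((g : SS) : Matrix (Fin 2) (Fin 2) KK) 0 0 = y * ((g : SS) : Matrix (Fin 2) (Fin 2) KK) 1 0 := by
  rw [pt, inf', smul_mk', Projectivization.mk_eq_mk_iff'] at h
  obtain ⟨c, hc⟩ := h
  rw [smul_def] at hc
  have h0 := congrFun hc 0
  have h1 := congrFun hc 1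
  simp [Matrix.mulVec, dotProduct, Fin.sum_univ_two] at h0 h1
  linear_combination -h0 + y * h1

theorem uu_smul_pt {R : Subgroup SS} (a x : KK) (h : uu a ∈ R) : (⟨uu a, h⟩ : R) • pt x = pt (x + a) := by
  rw [pt, pt, smul_mk', Projectivization.mk_eq_mk_iff']
  refine ⟨1, ?_⟩
  rw [one_smul, smul_def]
  ext i; fin_cases i <;> simp [Matrix.mulVec, dotProduct, Fin.sum_univ_two]

theorem neg_one_smul_line {R : Subgroup SS} (h : (-1 : SS) ∈ R) (L : PP) : (⟨-1, h⟩ : R) • L = L := by
  have e := (fix_iff R (⟨-1, h⟩ : R) L.rep_nonzero).2 ⟨-1, by simp [Matrix.neg_mulVec]⟩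
  rwa [L.mk_rep] at e

/-- An element fixing exactly one line lies in a conjugate of the unipotent subgroup. -/
theorem unique_fix_mem_orbit {R : Subgroup SS} (hp2 : p ≠ 2) [Finite R] (hu : uu 1 ∈ R) (hneg : (-1 : SS) ∈ R) {g : R}
    (hg1 : (g : SS) ≠ 1) (hg2 : (g : SS) ≠ -1) {L : PP} (hL : ∀ M : PP, g • M = M → M = L) :
    ∃ x : R, x • (inf' : PP) = L := by
  rcases eigen_cases hg1 hg2 with ⟨a, b, v, w, hab, hv, hw, hav, hbw, -⟩ | ⟨a, v, ha, hv, hav, hpow, -⟩
  · exfalso
    have e := (hL _ ((fix_iff R g hv).2 ⟨a, hav⟩)).trans (hL _ ((fix_iff R g hw).2 ⟨b, hbw⟩)).symm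
    rw [Projectivization.mk_eq_mk_iff'] at e
    obtain ⟨c, hc⟩ := e
    rw [← hc, Matrix.mulVec_smul, hbw, smul_smul, smul_smul] at hav
    have hc0 : c ≠ 0 := fun h => hv (by rw [← hc, h, zero_smul])
    exact hab (mul_right_cancel₀ hc0 ((smul_left_injective KK hw hav).symm.trans (mul_comm c b)))
  -- the unipotent element
  obtain ⟨u', hu', hufix⟩ : ∃ u' : R, u' ^ p = 1 ∧ ∀ M : PP, u' • M = M → g • M = M := by
    rcases ha with rfl | rfl
    · refine ⟨g, Subtype.ext (Subtype.ext ?_), fun M h => h⟩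
      simpa using hpow
    · refine ⟨⟨-1, hneg⟩ * g, Subtype.ext (Subtype.ext ?_), fun M h => ?_⟩
      · show (((-1 : SS) * g) ^ p : SS).1 = 1
        rw [Matrix.SpecialLinearGroup.coe_pow, coe_neg_mul]
        simpa [inv_neg] using hpow
      · rwa [mul_smul, neg_one_smul_line] at h
  have hu'p : IsPGroup p (Subgroup.zpowers u') := by
    obtain ⟨j, -, hj⟩ := (Nat.dvd_prime_pow hp.out).1
      (orderOf_dvd_of_pow_eq_one (show u' ^ p ^ 1 = 1 by rwa [pow_one]))
    exact IsPGroup.of_card (n := j) (by rw [Nat.card_zpowers, hj])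
  obtain ⟨T, hT⟩ := hu'p.exists_le_sylow
  have hu1 : IsPGroup p (Subgroup.zpowers (⟨uu 1, hu⟩ : R)) := by
    obtain ⟨j, -, hj⟩ := (Nat.dvd_prime_pow hp.out).1
      (orderOf_dvd_of_pow_eq_one (show (⟨uu 1, hu⟩ : R) ^ p ^ 1 = 1 from Subtype.ext (by
        show uu 1 ^ p ^ 1 = 1
        rw [pow_one, uu_pow, CharP.cast_eq_zero, zero_mul]
        apply Subtype.ext
        show ((uu 0 : SS) : Matrix (Fin 2) (Fin 2) KK) = 1
        rw [uu_coe, Matrix.one_fin_two])))
    exact IsPGroup.of_card (n := j) (by rw [Nat.card_zpowers, hj])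
  obtain ⟨T0, hT0⟩ := hu1.exists_le_sylow
  let ρ : R →* Matrix (Fin 2) (Fin 2) KK :=
    { toFun := fun g => ((g : SS) : Matrix (Fin 2) (Fin 2) KK)
      map_one' := rfl
      map_mul' := fun _ _ => rfl }
  obtain ⟨v0, hv0, hfix0, -⟩ := exists_fixed_line ρ T0.2 ⟨⟨uu 1, hu⟩, hT0 (Subgroup.mem_zpowers _),
    fun e => by
      have := congrFun (congrFun e 0) 1
      simp [ρ] at this⟩
  have hv01 : v0 1 = 0 := by
    have := congrFun (hfix0 _ (hT0 (Subgroup.mem_zpowers (⟨uu 1, hu⟩ : R)))) 0
    simpa [ρ, Matrix.mulVec, dotProduct, Fin.sum_univ_two] using this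
  have hT0fix : ∀ t ∈ (T0 : Subgroup R), t • (inf' : PP) = inf' := by
    intro t ht
    have e := (fix_iff R t hv0).2 ⟨1, by rw [one_smul]; exact hfix0 t ht⟩
    have einf : Projectivization.mk KK v0 hv0 = (inf' : PP) := by
      rw [inf', Projectivization.mk_eq_mk_iff']
      exact ⟨v0 0, by ext i; fin_cases i <;> simp [hv01]⟩
    rwa [einf] at e
  obtain ⟨x, hx⟩ := MulAction.exists_smul_eq R T0 T
  refine ⟨x, hL _ (hufix _ ?_)⟩
  have hu'T : u' ∈ ((x • T0 : Sylow p R) : Subgroup R) := hx.symm ▸ hT (Subgroup.mem_zpowers u')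
  rw [Sylow.coe_subgroup_smul] at hu'T
  obtain ⟨t, ht, e⟩ := hu'T
  rw [← e]
  show (x * t * x⁻¹) • (x • (inf' : PP)) = x • inf'
  rw [mul_smul, mul_smul, inv_smul_smul, hT0fix t ht]

theorem fiber_card {R : Subgroup SS} [Fintype R] [DecidableEq PP] (L : PP) :
    Fintype.card R = (univ.image fun g : R => g • L).card * (univ.filter fun g : R => g • L = L).card := by
  rw [← Finset.card_univ, card_eq_sum_card_image (fun g : R => g • L) univ,
    sum_const_nat (m := (univ.filter fun g : R => g • L = L).card)]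
  intro M hM
  obtain ⟨x, -, rfl⟩ := mem_image.1 hM
  apply card_bij' (fun g _ => x⁻¹ * g) (fun g _ => x * g)
  · intro g hg
    simp only [mem_filter, mem_univ, true_and] at hg ⊢
    rw [mul_smul, hg, inv_smul_smul]
  · intro g hg
    simp only [mem_filter, mem_univ, true_and] at hg ⊢
    rw [mul_smul, hg]
  · intro g _; group
  · intro g _; group

set_option maxHeartbeats 2000000 in
/-- Pairs with product in the prime field in a finite group with two transvections. -/
theorem exists_pair (hp2 : p ≠ 2) (R : Subgroup SS) [Finite R] {c : KK} (hc : c ≠ 0)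
    (hu : uu 1 ∈ R) (hl : ll c ∈ R) : HasPair R c := by
  classical
  have : Fintype R := Fintype.ofFinite R
  have hneg := neg_one_mem hp2 hc hu hl
  set n1 : R := ⟨-1, hneg⟩ with hn1
  have hn11 : n1 ≠ 1 := fun e => neg_one_ne_one hp2 (congrArg Subtype.val e)
  have hn1fix : ∀ L : PP, n1 • L = L := neg_one_smul_line hneg
  set NC := univ.filter (fun g : R => g ≠ 1 ∧ g ≠ n1) with hNC
  have memNC : ∀ g : R, g ∈ NC ↔ g ≠ 1 ∧ g ≠ n1 := fun g => by simp [hNC]
  have memNC' : ∀ g : R, g ∈ NC → (g : SS) ≠ 1 ∧ (g : SS) ≠ -1 := fun g hg =>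
    ⟨fun e => ((memNC g).1 hg).1 (Subtype.ext e), fun e => ((memNC g).1 hg).2 (Subtype.ext e)⟩
  -- fixed lines
  have hfix : ∀ g ∈ NC, ∃ L M : PP, ∀ N : PP, g • N = N ↔ N = L ∨ N = M := by
    intro g hg
    obtain ⟨h1, h2⟩ := memNC' g hg
    rcases eigen_cases h1 h2 with ⟨a, b, v, w, -, hv, hw, hav, hbw, hall⟩ | ⟨a, v, -, hv, hav, -, hall⟩
    · refine ⟨Projectivization.mk KK v hv, Projectivization.mk KK w hw, fun N => ⟨fun hN => ?_, ?_⟩⟩
      · obtain ⟨l, hl'⟩ := fix_rep R g hN
        rcases hall _ l hl' with ⟨t, ht⟩ | ⟨t, ht⟩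
        · exact Or.inl (mk_eq_of_smul hv ht)
        · exact Or.inr (mk_eq_of_smul hw ht)
      · rintro (rfl | rfl)
        · exact (fix_iff R g hv).2 ⟨a, hav⟩
        · exact (fix_iff R g hw).2 ⟨b, hbw⟩
    · refine ⟨Projectivization.mk KK v hv, Projectivization.mk KK v hv, fun N => ⟨fun hN => ?_, ?_⟩⟩
      · obtain ⟨l, hl'⟩ := fix_rep R g hN
        obtain ⟨t, ht⟩ := hall _ l hl'
        exact Or.inl (mk_eq_of_smul hv ht)
      · rintro (rfl | rfl) <;> exact (fix_iff R g hv).2 ⟨a, hav⟩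
  choose! f1 f2 hf using hfix
  set Fx : R → Finset PP := fun g => {f1 g, f2 g} with hFx
  have memFx : ∀ g ∈ NC, ∀ N, N ∈ Fx g ↔ g • N = N := fun g hg N => by
    rw [hf g hg N]; simp [hFx]
  set Ω := NC.biUnion Fx with hΩ
  set St : PP → Finset R := fun L => univ.filter (fun g : R => g • L = L) with hSt
  set orb : PP → Finset PP := fun L => univ.image (fun g : R => g • L) with horbdef
  have hN : ∀ L, Fintype.card R = (orb L).card * (St L).card := fun L => fiber_card L
  have hsplit : ∀ L, (NC.filter fun g => g • L = L).card + 2 = (St L).card := by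
    intro L
    have e : St L = (NC.filter fun g => g • L = L) ∪ {1, n1} := by
      ext g
      simp only [hSt, mem_union, mem_filter, mem_univ, true_and, memNC, mem_insert, mem_singleton]
      constructor
      · intro hg
        by_cases h : g = 1 ∨ g = n1
        · exact Or.inr h
        · push Not at h; exact Or.inl ⟨h, hg⟩
      · rintro (h | rfl | rfl)
        · exact h.2
        · exact one_smul _ _
        · exact hn1fix L
    rw [e, card_union_of_disjoint, card_pair (Ne.symm hn11)]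
    rw [disjoint_left]
    intro g hg hg'
    simp only [mem_filter, memNC, mem_insert, mem_singleton] at hg hg'
    rcases hg' with h | h
    · exact hg.1.1 h
    · exact hg.1.2 h
  have hNCcard : NC.card + 2 = Fintype.card R := by
    have := Finset.card_sdiff_add_card_eq_card (subset_univ ({1, n1} : Finset R))
    rw [card_pair (Ne.symm hn11)] at this
    have e : NC = univ \ {1, n1} := by ext g; simp [memNC]
    rw [e]; exact this
  have hΩinv : ∀ L ∈ Ω, ∀ x : R, x • L ∈ Ω := by
    intro L hL x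
    simp only [hΩ, mem_biUnion] at hL ⊢
    obtain ⟨g, hg, hgL⟩ := hL
    have hg' : x * g * x⁻¹ ∈ NC := by
      rw [memNC] at hg ⊢
      have hcen : x * n1 * x⁻¹ = n1 := by
        apply Subtype.ext
        show (x : SS) * (-1) * (x : SS)⁻¹ = -1
        apply Subtype.ext
        simp [Matrix.adjugate_fin_two, ← Matrix.SpecialLinearGroup.coe_mul]
      refine ⟨fun e => hg.1 (conj_eq_one_iff.1 e), fun e => hg.2 ?_⟩
      calc g = x⁻¹ * (x * g * x⁻¹) * x := by group
        _ = x⁻¹ * (x * n1 * x⁻¹) * x := by rw [e, hcen]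
        _ = n1 := by group
    refine ⟨_, hg', (memFx _ hg' _).2 ?_⟩
    rw [mul_smul, mul_smul, inv_smul_smul, (memFx g hg L).1 hgL]
  -- double counting
  have hdouble : ∑ g ∈ NC, (Fx g).card = ∑ L ∈ Ω, (NC.filter fun g => g • L = L).card := by
    have e : ∀ g ∈ NC, Fx g = Ω.filter (fun L => g • L = L) := by
      intro g hg
      ext L
      simp only [mem_filter]
      exact ⟨fun h => ⟨mem_biUnion.2 ⟨g, hg, h⟩, (memFx g hg L).1 h⟩, fun h => (memFx g hg L).2 h.2⟩
    rw [sum_congr rfl fun g hg => congrArg Finset.card (e g hg)]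
    simp only [card_filter]
    rw [sum_comm]
  set W := NC.filter (fun g => f1 g = f2 g) with hW
  have hFxsum : ∑ g ∈ NC, (Fx g).card + W.card = 2 * NC.card := by
    rw [hW, card_filter, ← sum_add_distrib, mul_comm, ← smul_eq_mul, ← sum_const]
    refine sum_congr rfl fun g _ => ?_
    by_cases h : f1 g = f2 g <;> simp [hFx, h]
  -- the additive group of upper transvections
  let A : AddSubgroup KK :=
    { carrier := {a | uu a ∈ R}
      zero_mem' := by
        show uu 0 ∈ R
        rw [show uu (0 : KK) = 1 from Subtype.ext (by rw [uu_coe, Matrix.SpecialLinearGroup.coe_one, Matrix.one_fin_two])]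
        exact one_mem _
      add_mem' := fun {a b} ha hb => by
        show uu (a + b) ∈ R
        rw [← uu_mul]; exact mul_mem ha hb
      neg_mem' := fun {a} ha => by
        show uu (-a) ∈ R
        have e : uu (-a) = (uu a)⁻¹ := eq_inv_of_mul_eq_one_left (by
          rw [uu_mul, neg_add_cancel]
          exact Subtype.ext (by rw [uu_coe, Matrix.SpecialLinearGroup.coe_one, Matrix.one_fin_two]))
        rw [e]; exact inv_mem ha }
  have memA : ∀ a : KK, a ∈ A ↔ uu a ∈ R := fun a => Iff.rfl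
  have hAfin : (A : Set KK).Finite := by
    refine Set.Finite.subset (s := Set.range fun g : R => ((g : SS) : Matrix (Fin 2) (Fin 2) KK) 0 1)
      (Set.finite_range _) fun a ha => ⟨⟨uu a, ha⟩, ?_⟩
    simp
  set Af := hAfin.toFinset with hAf
  have memAf : ∀ a : KK, a ∈ Af ↔ uu a ∈ R := fun a => Set.Finite.mem_toFinset _
  set q := Af.card with hq
  have h10 : (1 : KK) ∈ Af := (memAf 1).2 hu
  have h00 : (0 : KK) ∈ Af := (memAf 0).2 ((memA 0).1 A.zero_mem)
  have hneg1 : (-1 : KK) ≠ 1 := fun e => by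
    have h2 : ((2 : ℕ) : KK) = 0 := by push_cast; linear_combination -e
    rw [CharP.cast_eq_zero_iff KK p] at h2
    exact hp2 ((Nat.prime_dvd_prime_iff_eq hp.out Nat.prime_two).1 h2)
  have hq3 : 3 ≤ q := by
    have hsub : ({0, 1, -1} : Finset KK) ⊆ Af := by
      intro a ha
      simp only [mem_insert, mem_singleton] at ha
      rcases ha with rfl | rfl | rfl
      · exact h00
      · exact h10
      · exact (memAf _).2 ((memA _).1 (A.neg_mem ((memA 1).2 hu)))
    refine le_trans (le_of_eq ?_) (card_le_card hsub)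
    rw [card_eq_three.2 ⟨0, 1, -1, zero_ne_one, by norm_num, hneg1.symm, rfl⟩]
  have hqodd : Odd q := by
    have h : IsPGroup p (Multiplicative A) := by
      intro a
      exact ⟨1, by
        rw [pow_one]
        apply Multiplicative.toAdd.injective
        rw [toAdd_pow, toAdd_one]
        exact Subtype.ext (by simp)⟩
    have : Finite A := hAfin.to_subtype
    obtain ⟨j, hj⟩ := IsPGroup.iff_card.1 h
    have hcard : Nat.card (Multiplicative A) = q := by
      rw [Nat.card_congr Multiplicative.toAdd, hq, hAf, ← Set.ncard_eq_toFinset_card _ hAfin, ← Nat.card_coe_set_eq]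
      rfl
    rw [← hcard, hj]
    exact (hp.out.odd_of_ne_two hp2).pow
  -- the stabiliser of infinity
  have hdiag : ∀ g : R, g • (inf' : PP) = inf' →
      ((g : SS) : Matrix (Fin 2) (Fin 2) KK) 0 0 * ((g : SS) : Matrix (Fin 2) (Fin 2) KK) 1 1 = 1 := by
    intro g hg
    have h := (g : SS).det_coe
    rw [Matrix.det_fin_two, (smul_inf_iff g).1 hg, mul_zero, sub_zero] at h
    exact h
  set sg : Bool → KK := fun b => if b then 1 else -1 with hsg
  have hsgR : ∀ b a, a ∈ Af → ∃ g : R,
      ((g : SS) : Matrix (Fin 2) (Fin 2) KK) = !![sg b, sg b * a; 0, sg b] := by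
    intro b a ha
    cases b
    · refine ⟨n1 * ⟨uu a, (memAf a).1 ha⟩, ?_⟩
      show (((-1 : SS) * uu a : SS) : Matrix (Fin 2) (Fin 2) KK) = _
      rw [coe_neg_mul, uu_coe]
      ext i j; fin_cases i <;> fin_cases j <;> simp [hsg]
    · refine ⟨⟨uu a, (memAf a).1 ha⟩, ?_⟩
      ext i j; fin_cases i <;> fin_cases j <;> simp [hsg]
  choose mk2 hmk2 using hsgR
  set U2 := (St (inf' : PP)).filter (fun g : R => ((g : SS) : Matrix (Fin 2) (Fin 2) KK) 0 0 ^ 2 = 1) with hU2
  have hU2form : ∀ g ∈ U2, ∃ b, ∃ a, ∃ h : a ∈ Af, g = mk2 b a h := by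
    intro g hg
    simp only [hU2, hSt, mem_filter, mem_univ, true_and] at hg
    obtain ⟨hg, hsq⟩ := hg
    have hd := hdiag g hg
    have h10' := (smul_inf_iff g).1 hg
    obtain ⟨b, hb⟩ : ∃ b, ((g : SS) : Matrix (Fin 2) (Fin 2) KK) 0 0 = sg b := by
      rcases sq_eq_one_iff.1 hsq with h | h
      · exact ⟨true, by simp [hsg, h]⟩
      · exact ⟨false, by simp [hsg, h]⟩
    have hsb : sg b * sg b = 1 := by cases b <;> simp [hsg]
    rw [hb] at hd
    have h11 : ((g : SS) : Matrix (Fin 2) (Fin 2) KK) 1 1 = sg b := by linear_combination sg b * hd - ((g : SS) : Matrix (Fin 2) (Fin 2) KK) 1 1 * hsb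
    set a := sg b * ((g : SS) : Matrix (Fin 2) (Fin 2) KK) 0 1 with ha
    have hgm : ((g : SS) : Matrix (Fin 2) (Fin 2) KK) = !![sg b, sg b * a; 0, sg b] := by
      ext i j; fin_cases i <;> fin_cases j <;> simp [hb, h10', h11, ha, ← mul_assoc, hsb]
    have haR : uu a ∈ R := by
      cases b
      · have e : uu a = -1 * (g : SS) := by
          apply Subtype.ext
          rw [coe_neg_mul, hgm, uu_coe]
          ext i j; fin_cases i <;> fin_cases j <;> simp [hsg]
        rw [e]; exact mul_mem hneg g.2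
      · have e : uu a = (g : SS) := by
          apply Subtype.ext
          rw [hgm, uu_coe]
          ext i j; fin_cases i <;> fin_cases j <;> simp [hsg]
        rw [e]; exact g.2
    exact ⟨b, a, (memAf a).2 haR, Subtype.ext (Subtype.ext (by rw [hmk2]; exact hgm))⟩
  have hU2mem : ∀ b a (h : a ∈ Af), mk2 b a h ∈ U2 := by
    intro b a h
    simp only [hU2, hSt, mem_filter, mem_univ, true_and, smul_inf_iff, hmk2]
    cases b <;> simp [hsg]
  have hmk2inj : ∀ b a (h : a ∈ Af) b' a' (h' : a' ∈ Af), mk2 b a h = mk2 b' a' h' → b = b' ∧ a = a' := by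
    intro b a h b' a' h' e
    have e' := congrArg (fun X : R => ((X : SS) : Matrix (Fin 2) (Fin 2) KK)) e
    simp only [hmk2] at e'
    have e00 := congrFun (congrFun e' 0) 0
    have e01 := congrFun (congrFun e' 0) 1
    cases b <;> cases b' <;> simp [hsg] at e00 e01 ⊢
    · exact e01
    · exact absurd e00 hneg1
    · exact absurd e00.symm hneg1
    · exact e01
  have hU2card : U2.card = 2 * q := by
    have : U2.card = (univ ×ˢ Af : Finset (Bool × KK)).card := by
      symm
      refine card_bij (fun x hx => mk2 x.1 x.2 (mem_product.1 hx).2) (fun x hx => hU2mem _ _ _)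
        (fun x hx y hy e => Prod.ext_iff.2 (hmk2inj _ _ _ _ _ _ e)) fun g hg => ?_
      obtain ⟨b, a, ha, rfl⟩ := hU2form g hg
      exact ⟨(b, a), mem_product.2 ⟨mem_univ _, ha⟩, rfl⟩
    rw [this, card_product, card_univ, Fintype.card_bool]
  set M := (St (inf' : PP)).image (fun g : R => ((g : SS) : Matrix (Fin 2) (Fin 2) KK) 0 0 ^ 2) with hM
  set d := M.card with hd
  have memSt : ∀ g : R, g ∈ St (inf' : PP) ↔ g • (inf' : PP) = inf' := fun g => by simp [hSt]
  have h00mul : ∀ x y : R, x • (inf' : PP) = inf' → y • (inf' : PP) = inf' →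
      (((x * y : R) : SS) : Matrix (Fin 2) (Fin 2) KK) 0 0 =
        ((x : SS) : Matrix (Fin 2) (Fin 2) KK) 0 0 * ((y : SS) : Matrix (Fin 2) (Fin 2) KK) 0 0 := by
    intro x y hx hy
    rw [Subgroup.coe_mul, Matrix.SpecialLinearGroup.coe_mul, Matrix.mul_apply, Fin.sum_univ_two,
      (smul_inf_iff y).1 hy, mul_zero, add_zero]
  have hStcard : (St (inf' : PP)).card = 2 * q * d := by
    rw [card_eq_sum_card_image (fun g : R => ((g : SS) : Matrix (Fin 2) (Fin 2) KK) 0 0 ^ 2),
      sum_const_nat (m := 2 * q), ← hM, ← hd, mul_comm]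
    intro μ hμ
    obtain ⟨x, hx, rfl⟩ := mem_image.1 hμ
    rw [memSt] at hx
    rw [← hU2card]
    have hx' : x⁻¹ • (inf' : PP) = inf' := by rw [inv_smul_eq_iff, hx]
    have hxx : ((x : SS) : Matrix (Fin 2) (Fin 2) KK) 0 0 * ((x⁻¹ : R) : SS).1 0 0 = 1 := by
      rw [← h00mul x x⁻¹ hx hx', mul_inv_cancel]; simp
    apply card_bij' (fun g _ => x⁻¹ * g) (fun g _ => x * g)
    · intro g hg
      simp only [hU2, mem_filter, memSt] at hg ⊢
      refine ⟨by rw [mul_smul, hg.1, hx'], ?_⟩
      rw [h00mul _ _ hx' hg.1, mul_pow, hg.2, ← mul_pow, mul_comm, hxx, one_pow]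
    · intro g hg
      simp only [hU2, mem_filter, memSt] at hg ⊢
      refine ⟨by rw [mul_smul, hg.1, hx], ?_⟩
      rw [h00mul _ _ hx hg.1, mul_pow, hg.2, mul_one]
    · intro g _; group
    · intro g _; group
  have hd1 : 0 < d := card_pos.2 ⟨1, mem_image.2 ⟨1, (memSt 1).2 (one_smul _ _), by simp⟩⟩
  have hdq : d ≤ q - 1 := by
    rw [hq, ← card_erase_of_mem h00]
    refine card_le_card fun μ hμ => ?_
    obtain ⟨x, hx, rfl⟩ := mem_image.1 hμ
    rw [memSt] at hx
    have h11 := hdiag x hx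
    refine mem_erase.2 ⟨pow_ne_zero _ fun e => by rw [e, zero_mul] at h11; exact zero_ne_one h11, (memAf _).2 ?_⟩
    have e : uu (((x : SS) : Matrix (Fin 2) (Fin 2) KK) 0 0 ^ 2) * (x : SS) = (x : SS) * uu 1 := by
      apply Subtype.ext
      have hx10 := (smul_inf_iff x).1 hx
      show ((uu _ : SS) : Matrix (Fin 2) (Fin 2) KK) * _ = _ * ((uu 1 : SS) : Matrix (Fin 2) (Fin 2) KK)
      rw [uu_coe, uu_coe]
      ext i j
      fin_cases i <;> fin_cases j <;>
        simp [Matrix.mul_apply, Fin.sum_univ_two, hx10] <;>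
        linear_combination ((x : SS) : Matrix (Fin 2) (Fin 2) KK) 0 0 * h11
    rw [eq_mul_inv_of_mul_eq e]
    exact mul_mem (mul_mem x.2 hu) (inv_mem x.2)
  -- orbit of infinity
  set O0 := orb (inf' : PP) with hO0
  set s := O0.card with hs
  have hR0 : Fintype.card R = s * (2 * q * d) := by rw [hN inf', hStcard]
  have hu1NC : (⟨uu 1, hu⟩ : R) ∈ NC := by
    rw [memNC]
    refine ⟨fun e => ?_, fun e => ?_⟩ <;>
      · have := congrArg (fun X : R => ((X : SS) : Matrix (Fin 2) (Fin 2) KK) 0 1) e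
        simp [hn1] at this
  have hO0Ω : ∀ L ∈ O0, L ∈ Ω := by
    intro L hL
    obtain ⟨x, -, rfl⟩ := mem_image.1 hL
    refine hΩinv _ (mem_biUnion.2 ⟨_, hu1NC, (memFx _ hu1NC _).2 ((smul_inf_iff _).2 ?_)⟩) x
    simp
  have hWuniq : ∀ g ∈ W, ∀ L, g • L = L → L = f1 g := by
    intro g hg L hL
    simp only [hW, mem_filter] at hg
    rcases (hf g hg.1 L).1 hL with h | h
    · exact h
    · rw [h, ← hg.2]
  have hWsum : W.card = ∑ L ∈ O0, (W.filter fun g => g • L = L).card := by
    rw [← card_biUnion]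
    · congr 1
      ext g
      simp only [mem_biUnion, mem_filter]
      refine ⟨fun hg => ?_, fun ⟨L, _, hg, _⟩ => hg⟩
      have hg' := (mem_filter.1 hg).1
      obtain ⟨h1, h2⟩ := memNC' g hg'
      obtain ⟨x, hx⟩ := unique_fix_mem_orbit hp2 hu hneg h1 h2 (hWuniq g hg)
      exact ⟨f1 g, mem_image.2 ⟨x, mem_univ _, hx⟩, hg, (hf g hg' _).2 (Or.inl rfl)⟩
    · intro L _ L' _ hne
      rw [Function.onFun, disjoint_left]
      intro g hg hg'
      simp only [mem_filter] at hg hg'
      exact hne ((hWuniq g hg.1 L hg.2).trans (hWuniq g hg'.1 L' hg'.2).symm)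
  have hWinf : (W.filter fun g => g • (inf' : PP) = inf') = U2 \ {1, n1} := by
    ext g
    simp only [mem_filter, mem_sdiff, mem_insert, mem_singleton, not_or, hW, hU2, memSt]
    constructor
    · rintro ⟨⟨hg, he⟩, hfx⟩
      refine ⟨⟨hfx, ?_⟩, (memNC g).1 hg⟩
      by_contra hsq
      have h10' := (smul_inf_iff g).1 hfx
      have hd' := hdiag g hfx
      set a := ((g : SS) : Matrix (Fin 2) (Fin 2) KK) 0 0
      set b := ((g : SS) : Matrix (Fin 2) (Fin 2) KK) 1 1
      set o := ((g : SS) : Matrix (Fin 2) (Fin 2) KK) 0 1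
      have hab : b - a ≠ 0 := fun e => hsq (by
        have : b = a := sub_eq_zero.1 e
        rw [this] at hd'; rw [pow_two]; exact hd')
      have hne := pt_ne_inf (o / (b - a))
      refine hne ((hWuniq g (mem_filter.2 ⟨hg, he⟩) _ ?_).trans (hWuniq g (mem_filter.2 ⟨hg, he⟩) _ hfx).symm)
      rw [pt, fix_iff]
      refine ⟨b, ?_⟩
      ext i
      fin_cases i
      · simp [Matrix.mulVec, dotProduct, Fin.sum_univ_two]
        show a * (o / (b - a)) + o = b * (o / (b - a))
        field_simp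
        ring
      · simp [Matrix.mulVec, dotProduct, Fin.sum_univ_two, h10', b]
    · rintro ⟨⟨hfx, hsq⟩, hg1, hg2⟩
      have hg : g ∈ NC := (memNC g).2 ⟨hg1, hg2⟩
      refine ⟨⟨hg, ?_⟩, hfx⟩
      obtain ⟨b, a, ha, rfl⟩ := hU2form g (by simp only [hU2, mem_filter, memSt]; exact ⟨hfx, hsq⟩)
      have honly : ∀ L, mk2 b a ha • L = L → L = (inf' : PP) := by
        intro L hL
        rcases line_cases L with h | ⟨y, rfl⟩
        · exact h
        exfalso
        have h := smul_pt_eq _ hL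
        rw [hmk2] at h
        simp at h
        have ha0 : a = 0 := by
          cases b <;> simp [hsg] at h
          · exact h
          · exact h
        subst ha0
        cases b
        · exact hg2 (Subtype.ext (Subtype.ext (by rw [hmk2]; ext i j; fin_cases i <;> fin_cases j <;> simp [hsg, hn1])))
        · exact hg1 (Subtype.ext (Subtype.ext (by rw [hmk2]; ext i j; fin_cases i <;> fin_cases j <;> simp [hsg])))
      rw [honly _ ((hf _ hg _).2 (Or.inl rfl)), honly _ ((hf _ hg _).2 (Or.inr rfl))]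
  have hWeach : ∀ L ∈ O0, (W.filter fun g => g • L = L).card + 2 = 2 * q := by
    intro L hL
    obtain ⟨x, -, rfl⟩ := mem_image.1 hL
    have hconj : ∀ (x : R) (L : PP) (g : R), g ∈ W → g • L = L →
        x * g * x⁻¹ ∈ W ∧ (x * g * x⁻¹) • (x • L) = x • L := by
      intro x L g hg hgL
      have hg' := (mem_filter.1 hg).1
      have hfixed : (x * g * x⁻¹) • (x • L) = x • L := by rw [mul_smul, mul_smul, inv_smul_smul, hgL]
      have hNC' : x * g * x⁻¹ ∈ NC := by
        rw [memNC] at hg' ⊢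
        have hcen : x * n1 * x⁻¹ = n1 := by
          apply Subtype.ext
          show (x : SS) * (-1) * (x : SS)⁻¹ = -1
          apply Subtype.ext
          simp [Matrix.adjugate_fin_two, ← Matrix.SpecialLinearGroup.coe_mul]
        refine ⟨fun e => hg'.1 (conj_eq_one_iff.1 e), fun e => hg'.2 ?_⟩
        calc g = x⁻¹ * (x * g * x⁻¹) * x := by group
          _ = x⁻¹ * (x * n1 * x⁻¹) * x := by rw [e, hcen]
          _ = n1 := by group
      have huni : ∀ N, (x * g * x⁻¹) • N = N → N = x • L := by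
        intro N hN'
        have h' : g • (x⁻¹ • N) = x⁻¹ • N := by
          conv_rhs => rw [← hN']
          rw [mul_smul, mul_smul, inv_smul_smul]
        rw [← smul_inv_smul x N, (hWuniq g hg _ h').trans (hWuniq g hg _ hgL).symm]
      refine ⟨mem_filter.2 ⟨hNC', ?_⟩, hfixed⟩
      rw [huni _ ((hf _ hNC' _).2 (Or.inl rfl)), huni _ ((hf _ hNC' _).2 (Or.inr rfl))]
    have e : (W.filter fun g => g • (x • (inf' : PP)) = x • inf').card =
        (W.filter fun g => g • (inf' : PP) = inf').card := by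
      apply card_bij' (fun g _ => x⁻¹ * g * x) (fun g _ => x * g * x⁻¹)
      · intro g hg
        simp only [mem_filter] at hg ⊢
        have := hconj x⁻¹ _ g hg.1 hg.2
        rwa [inv_inv, inv_smul_smul] at this
      · intro g hg
        simp only [mem_filter] at hg ⊢
        exact hconj x _ g hg.1 hg.2
      · intro g _; group
      · intro g _; group
    rw [e, hWinf, card_sdiff, inter_eq_left.2, card_pair (Ne.symm hn11), hU2card]
    · omega
    · intro g hg
      simp only [mem_insert, mem_singleton] at hg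
      simp only [hU2, mem_filter, memSt]
      rcases hg with rfl | rfl
      · simp
      · refine ⟨hn1fix _, ?_⟩
        simp [hn1]
  have hWcard : W.card + s * 2 = s * (2 * q) := by
    have h := sum_congr (rfl : O0 = O0) hWeach
    rw [sum_add_distrib, ← hWsum, sum_const, sum_const, smul_eq_mul, smul_eq_mul] at h
    exact h
  -- orbit sums
  have hOsum : ∀ L, (∑ M ∈ orb L, (NC.filter fun g => g • M = M).card) + (orb L).card * 2 = Fintype.card R := by
    intro L
    have hsame : ∀ M ∈ orb L, (NC.filter fun g => g • M = M).card + 2 = (St L).card := by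
      intro M hM
      obtain ⟨x, -, rfl⟩ := mem_image.1 hM
      rw [hsplit]
      apply card_bij' (fun g _ => x⁻¹ * g * x) (fun g _ => x * g * x⁻¹)
      · intro g hg
        simp only [hSt, mem_filter, mem_univ, true_and] at hg ⊢
        rw [mul_smul, mul_smul, hg, inv_smul_smul]
      · intro g hg
        simp only [hSt, mem_filter, mem_univ, true_and] at hg ⊢
        rw [mul_smul, mul_smul, inv_smul_smul, hg]
      · intro g _; group
      · intro g _; group
    have h := sum_congr (rfl : orb L = orb L) hsame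
    rw [sum_add_distrib, sum_const, sum_const, smul_eq_mul, smul_eq_mul] at h
    rw [h, hN L]
  have horbΩ : ∀ L ∈ Ω, orb L ⊆ Ω := fun L hL M hM => by
    obtain ⟨x, -, rfl⟩ := mem_image.1 hM
    exact hΩinv L hL x
  have horbdis : ∀ L L', L' ∉ orb L → Disjoint (orb L) (orb L') := by
    intro L L' h
    rw [disjoint_left]
    intro M hM hM'
    obtain ⟨x, -, rfl⟩ := mem_image.1 hM
    obtain ⟨y, -, e⟩ := mem_image.1 hM'
    exact h (mem_image.2 ⟨y⁻¹ * x, mem_univ _, by rw [mul_smul, ← e, inv_smul_smul]⟩)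
  have hst4 : ∀ L ∈ Ω, 4 ≤ (St L).card ∧ 2 ∣ (St L).card := by
    intro L hL
    have h3 : 2 ∣ (St L).card := by
      have h : Nat.card (MulAction.stabilizer R L) = (St L).card := by
        rw [hSt, Nat.card_eq_fintype_card, Fintype.card_of_subtype]
        intro g; simp [MulAction.mem_stabilizer_iff]
      rw [← h]
      have ho : orderOf (⟨n1, hn1fix L⟩ : MulAction.stabilizer R L) = 2 := by
        refine orderOf_eq_prime (Subtype.ext (Subtype.ext ?_)) fun e => hn11 (congrArg Subtype.val e)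
        show ((-1 : SS)) ^ 2 = 1
        exact Subtype.ext (by simp)
      exact (dvd_of_eq ho.symm).trans (orderOf_dvd_natCard _)
    obtain ⟨g, hg, hgL⟩ := mem_biUnion.1 hL
    have h1 : 1 ≤ (NC.filter fun g => g • L = L).card :=
      card_pos.2 ⟨g, mem_filter.2 ⟨hg, (memFx g hg L).1 hgL⟩⟩
    have := hsplit L
    refine ⟨?_, h3⟩
    omega
  -- `s ≡ 1 (mod q)`
  set X := (O0.erase inf').preimage pt pt_injective.injOn with hX
  have memX : ∀ x, x ∈ X ↔ pt x ∈ O0 := fun x => by simp [hX, pt_ne_inf]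
  have hinfO0 : (inf' : PP) ∈ O0 := mem_image.2 ⟨1, mem_univ _, one_smul _ _⟩
  have hXcard : X.card + 1 = s := by
    rw [hX, Finset.card_preimage, hs, ← card_erase_add_one hinfO0]
    congr 2
    refine filter_true_of_mem fun L hL => ?_
    rcases line_cases L with h | ⟨x, rfl⟩
    · exact absurd h (mem_erase.1 hL).1
    · exact ⟨x, rfl⟩
  have hXadd : ∀ x ∈ X, ∀ a ∈ Af, x + a ∈ X := by
    intro x hx a ha
    rw [memX] at hx ⊢
    obtain ⟨g, -, hg⟩ := mem_image.1 hx
    exact mem_image.2 ⟨⟨uu a, (memAf a).1 ha⟩ * g, mem_univ _, by rw [mul_smul, hg, uu_smul_pt]⟩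
  have hqX : q ∣ X.card := by
    rw [card_eq_sum_card_image (fun x : KK => (QuotientAddGroup.mk x : KK ⧸ A)) X]
    refine dvd_sum fun y hy => ?_
    obtain ⟨x, hx, rfl⟩ := mem_image.1 hy
    refine dvd_of_eq ?_
    rw [hq, show (X.filter fun z => (QuotientAddGroup.mk z : KK ⧸ A) = QuotientAddGroup.mk x) =
      Af.image (fun a => x + a) from ?_, card_image_of_injective _ (add_right_injective x)]
    ext z
    simp only [mem_filter, mem_image, QuotientAddGroup.eq]
    constructor
    · rintro ⟨-, hz⟩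
      exact ⟨-(-z + x), (memAf _).2 ((memA _).1 (A.neg_mem hz)), by ring⟩
    · rintro ⟨a, ha, rfl⟩
      refine ⟨hXadd x hx a ha, ?_⟩
      have := A.neg_mem ((memA a).2 ((memAf a).1 ha))
      convert this using 1
      ring
  have hllNC : (⟨ll c, hl⟩ : R) ∈ NC := by
    rw [memNC]
    refine ⟨fun e => hc ?_, fun e => hc ?_⟩ <;>
      · have := congrArg (fun X : R => ((X : SS) : Matrix (Fin 2) (Fin 2) KK) 1 0) e
        simpa [hn1] using this
  have h0X : (0 : KK) ∈ X := by
    rw [memX]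
    obtain ⟨h1, h2⟩ := memNC' _ hllNC
    have honly : ∀ L, (⟨ll c, hl⟩ : R) • L = L → L = pt (0 : KK) := by
      intro L hL
      rcases line_cases L with rfl | ⟨x, rfl⟩
      · exfalso
        have := (smul_inf_iff _).1 hL
        simp [hc] at this
      · have h := smul_pt_eq _ hL
        simp at h
        have h' : c * (x * x) = 0 := by linear_combination -h
        rw [mul_self_eq_zero.1 ((mul_eq_zero.1 h').resolve_left hc)]
    obtain ⟨x, hx⟩ := unique_fix_mem_orbit hp2 hu hneg h1 h2 honly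
    exact mem_image.2 ⟨x, mem_univ _, hx⟩
  obtain ⟨k, hk⟩ := hqX
  have hk1 : 1 ≤ k := by
    rcases Nat.eq_zero_or_pos k with h | h
    · rw [h, mul_zero, card_eq_zero] at hk
      rw [hk] at h0X
      exact absurd h0X (notMem_empty _)
    · exact h
  have hsq : s = 1 + k * q := by rw [← hXcard, hk]; ring
  have hsq3 : q < s := by
    have : 1 * q ≤ k * q := Nat.mul_le_mul_right q hk1
    omega
  -- the equation
  have hsum0 := hOsum (inf' : PP)
  rw [← hO0, ← hs] at hsum0
  have hΩsum : ∑ L ∈ Ω, (NC.filter fun g => g • L = L).card + W.card = 2 * NC.card := by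
    rw [← hdouble]; exact hFxsum
  have hqd : q ≤ q * d := Nat.le_mul_of_pos_right q hd1
  obtain ⟨L1, hL1, hL10⟩ : ∃ L ∈ Ω, L ∉ O0 := by
    by_contra hno
    push Not at hno
    have e : Ω = O0 := Subset.antisymm hno fun L hL => hO0Ω L hL
    rw [e] at hΩsum
    have : s * q ≤ s * (q * d) := Nat.mul_le_mul_left _ hqd
    have e2 : Fintype.card R = 2 * (s * (q * d)) := by rw [hR0]; ring
    have e3 : s * (2 * q) = 2 * (s * q) := by ring
    omega
  set o := (orb L1).card with ho
  have hsum1 := hOsum L1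
  have hΩeq : Ω = O0 ∪ orb L1 := by
    refine Subset.antisymm (fun L hL => ?_) (union_subset (fun L hL => hO0Ω L hL) (horbΩ L1 hL1))
    by_contra hno
    simp only [mem_union, not_or] at hno
    have hsub : O0 ∪ orb L1 ∪ orb L ⊆ Ω :=
      union_subset (union_subset (fun L hL => hO0Ω L hL) (horbΩ L1 hL1)) (horbΩ L hL)
    have hle := sum_le_sum_of_subset (f := fun L => (NC.filter fun g => g • L = L).card) hsub
    have hd01 : Disjoint O0 (orb L1) := horbdis _ _ hL10
    have hd2 : Disjoint (O0 ∪ orb L1) (orb L) :=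
      disjoint_union_left.2 ⟨horbdis _ _ hno.1, horbdis _ _ hno.2⟩
    rw [sum_union hd2, sum_union hd01] at hle
    have hsum2 := hOsum L
    have q1 : 4 * o ≤ Fintype.card R := by
      rw [hN L1, ← ho, mul_comm 4]; exact Nat.mul_le_mul_left _ (hst4 L1 hL1).1
    have q2 : 4 * (orb L).card ≤ Fintype.card R := by
      rw [hN L, mul_comm 4]; exact Nat.mul_le_mul_left _ (hst4 L hL).1
    have e3 : s * (2 * q) = 2 * (s * q) := by ring
    have e4 : s * 3 ≤ s * q := Nat.mul_le_mul_left _ hq3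
    omega
  rw [hΩeq, sum_union (horbdis _ _ hL10)] at hΩsum
  have hoeq : o = s * (q - 2) + 2 := by
    have e3 : s * (2 * q) = 2 * (s * q) := by ring
    have e4 : s * (q - 2) + 2 * s = s * q := by
      rw [mul_comm 2 s, ← mul_add, Nat.sub_add_cancel (by omega)]
    have e5 : 2 * o + 4 * s = 2 * (s * q) + 4 := by
      clear e4
      linarith
    omega
  obtain ⟨n, hn⟩ := (hst4 L1 hL1).2
  have hnum : (s * (q - 2) + 2) * n = s * q * d := by
    have h := hN L1
    rw [← ho, hn, hR0, hoeq] at h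
    refine Nat.eq_of_mul_eq_mul_left (show 0 < 2 by norm_num) ?_
    calc 2 * ((s * (q - 2) + 2) * n) = (s * (q - 2) + 2) * (2 * n) := by ring
      _ = s * (2 * q * d) := h.symm
      _ = _ := by ring
  rcases numerics hq3 hqodd hdq hd1 hk1 hsq hnum with rfl | ⟨hq', hd', hn'⟩
  · -- the projective line over a field
    have hXA : Af = X := by
      refine eq_of_subset_of_card_le (fun a ha => ?_) (le_of_eq (by rw [hk, mul_one]))
      have := hXadd 0 h0X a ha
      rwa [zero_add] at this
    obtain ⟨h, -, hh⟩ := mem_image.1 ((memX 0).1 h0X)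
    have hh00 : ((h : SS) : Matrix (Fin 2) (Fin 2) KK) 0 0 = 0 := by
      simpa using smul_inf_eq_pt h hh
    have hne : h⁻¹ • (inf' : PP) ≠ inf' := fun e => pt_ne_inf 0 (hh.symm.trans (by
      conv_lhs => rw [← e, smul_inv_smul]))
    rcases line_cases (h⁻¹ • (inf' : PP)) with e | ⟨x, hx⟩
    · exact absurd e hne
    have hxX : x ∈ X := (memX x).2 (mem_image.2 ⟨h⁻¹, mem_univ _, hx⟩)
    rw [← hXA] at hxX
    have hx11 := smul_pt_eq_inf h (x := x) (by rw [← hx, smul_inv_smul])
    set w : R := h * ⟨uu x, (memAf x).1 hxX⟩ with hw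
    set r := ((h : SS) : Matrix (Fin 2) (Fin 2) KK) 0 1 with hr
    set t := ((h : SS) : Matrix (Fin 2) (Fin 2) KK) 1 0 with ht
    have hwm : ((w : SS) : Matrix (Fin 2) (Fin 2) KK) = !![0, r; t, 0] := by
      rw [hw, Subgroup.coe_mul, Matrix.SpecialLinearGroup.coe_mul, uu_coe]
      ext i j
      fin_cases i <;> fin_cases j <;> simp [Matrix.mul_apply, Fin.sum_univ_two, hh00, hr, ht]
      exact hx11
    have hdet := (w : SS).det_coe
    rw [hwm, Matrix.det_fin_two_of, zero_mul, zero_sub] at hdet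
    have ht0 : t ≠ 0 := fun e => by rw [e, mul_zero, neg_zero] at hdet; exact zero_ne_one hdet
    have hr0 : r ≠ 0 := fun e => by rw [e, zero_mul, neg_zero] at hdet; exact zero_ne_one hdet
    have hw1 : w • pt 1 = pt (r / t) := by
      rw [pt, pt, smul_mk', Projectivization.mk_eq_mk_iff']
      refine ⟨t, ?_⟩
      rw [smul_def, hwm]
      ext i; fin_cases i <;> simp [Matrix.mulVec, dotProduct, Fin.sum_univ_two, mul_div_cancel₀, ht0]
    have hrX : r / t ∈ Af := by
      rw [hXA, memX]
      obtain ⟨g, -, hg⟩ := mem_image.1 ((memX 1).1 (hXA ▸ h10))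
      exact mem_image.2 ⟨w * g, mem_univ _, by rw [mul_smul, hg, hw1]⟩
    have hll : ll (-1) ∈ R := by
      have hneg' : uu (-(r / t)) ∈ R := (memA _).1 (A.neg_mem ((memA _).2 ((memAf _).1 hrX)))
      have e : ll (-1) * (w : SS) = (w : SS) * uu (-(r / t)) := by
        apply Subtype.ext
        show ((ll _ : SS) : Matrix (Fin 2) (Fin 2) KK) * _ = _ * ((uu _ : SS) : Matrix (Fin 2) (Fin 2) KK)
        rw [ll_coe, uu_coe, hwm]
        ext i j
        fin_cases i <;> fin_cases j <;> simp [Matrix.mul_apply, Fin.sum_univ_two] <;> field_simp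
      rw [eq_mul_inv_of_mul_eq e]
      exact mul_mem (mul_mem w.2 hneg') (inv_mem w.2)
    refine ⟨1, 1, -1, -1, neg_ne_zero.2 one_ne_zero, by rw [map_neg, map_one, one_mul],
      ⟨1, one_mem _, Or.inl (by simp)⟩,
      ⟨uu 1 * ll (-1) * uu 1, mul_mem (mul_mem hu hll) hu, Or.inl ?_⟩⟩
    rw [one_mul, inv_one, mul_one, eq_mul_inv_iff_mul_eq]
    apply Subtype.ext
    simp [Matrix.SpecialLinearGroup.coe_mul]
  -- the exceptional case
  have hp3 : p = 3 := by
    have hsub : ((Finset.range p).image fun i : ℕ => (i : KK)) ⊆ Af := by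
      intro a ha
      obtain ⟨i, -, rfl⟩ := mem_image.1 ha
      rw [memAf]
      have := R.pow_mem hu i
      rwa [uu_pow, mul_one] at this
    have h := card_le_card hsub
    rw [card_image_of_injOn, card_range, ← hq, hq'] at h
    · have := hp.out.two_le
      omega
    · intro i hi j hj e
      simp only [coe_range, Set.mem_Iio] at hi hj
      exact Nat.ModEq.eq_of_lt_of_lt ((CharP.natCast_eq_natCast KK p).1 e) hi hj
  have h3 : (3 : KK) = 0 := by
    have h : ((3 : ℕ) : KK) = 0 := (CharP.cast_eq_zero_iff KK p 3).2 (dvd_of_eq hp3)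
    exact_mod_cast h
  by_cases hc1 : c = 1
  · exact ⟨1, 1, c, 1, one_ne_zero, by rw [map_one, hc1, one_mul],
      ⟨1, one_mem _, Or.inl (by simp)⟩, ⟨1, one_mem _, Or.inr (by simp)⟩⟩
  by_cases hcm : c = -1
  · exact ⟨1, 1, c, -1, neg_ne_zero.2 one_ne_zero, by rw [map_neg, map_one, hcm, one_mul],
      ⟨1, one_mem _, Or.inl (by simp)⟩, ⟨1, one_mem _, Or.inr (by simp)⟩⟩
  have htrace : ∀ x : KK, x ∈ Af → (x * c - 1) ^ 4 = -1 ∨ x * c = 0 ∨ x * c = 1 ∨ x * c = -1 := by
    intro x hx
    set g : R := ⟨uu x, (memAf x).1 hx⟩ * ⟨ll c, hl⟩ with hg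
    have hgm : ((g : SS) : Matrix (Fin 2) (Fin 2) KK) = !![1 + x * c, x; c, 1] := by
      rw [hg, Subgroup.coe_mul, Matrix.SpecialLinearGroup.coe_mul, uu_coe, ll_coe]
      ext i j; fin_cases i <;> fin_cases j <;> simp
    have hgNC : g ∈ NC := by
      rw [memNC]
      refine ⟨fun e => hc ?_, fun e => hc ?_⟩ <;>
        · have := congrArg (fun X : R => ((X : SS) : Matrix (Fin 2) (Fin 2) KK) 1 0) e
          simpa [hn1, hgm] using this
    have hfixg := (hf g hgNC (f1 g)).2 (Or.inl rfl)
    have hLΩ : f1 g ∈ Ω := mem_biUnion.2 ⟨g, hgNC, (memFx g hgNC _).2 hfixg⟩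
    have hpow : g ^ 12 = 1 ∨ g ^ 10 = 1 := by
      have hcard : (St (f1 g)).card = 12 ∨ (St (f1 g)).card = 10 := by
        rw [hΩeq, mem_union] at hLΩ
        rcases hLΩ with h | h <;> obtain ⟨y, -, e⟩ := mem_image.1 h
        · left
          have h1 := hN (f1 g)
          have h2 : orb (f1 g) = O0 := by
            ext M
            simp only [horbdef, hO0, mem_image, mem_univ, true_and]
            exact ⟨fun ⟨z, hz⟩ => ⟨z * y, by rw [mul_smul, e, hz]⟩,
              fun ⟨z, hz⟩ => ⟨z * y⁻¹, by rw [mul_smul, ← e, inv_smul_smul, hz]⟩⟩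
          rw [h2, ← hs, hR0, hq', hd'] at h1
          exact (Nat.eq_of_mul_eq_mul_left (by omega) h1).symm
        · right
          have h1 := hN (f1 g)
          have h2 : orb (f1 g) = orb L1 := by
            ext M
            simp only [horbdef, mem_image, mem_univ, true_and]
            exact ⟨fun ⟨z, hz⟩ => ⟨z * y, by rw [mul_smul, e, hz]⟩,
              fun ⟨z, hz⟩ => ⟨z * y⁻¹, by rw [mul_smul, ← e, inv_smul_smul, hz]⟩⟩
          rw [h2, hN L1, hn, hn'] at h1
          exact (Nat.eq_of_mul_eq_mul_left (by rw [← ho, hoeq]; omega) h1).symm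
      have hst : Nat.card (MulAction.stabilizer R (f1 g)) = (St (f1 g)).card := by
        rw [hSt, Nat.card_eq_fintype_card, Fintype.card_of_subtype]
        intro g; simp [MulAction.mem_stabilizer_iff]
      have := congrArg Subtype.val (pow_card_eq_one' (x := (⟨g, hfixg⟩ : MulAction.stabilizer R (f1 g))))
      rw [hst] at this
      rcases hcard with h | h <;> rw [h] at this
      · exact Or.inl this
      · exact Or.inr this
    -- the eigenvalue
    obtain ⟨l, hl0⟩ := fix_rep R g hfixg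
    set v := (f1 g).rep with hv
    rw [hgm] at hl0
    have e0 := congrFun hl0 0
    have e1 := congrFun hl0 1
    simp [Matrix.mulVec, dotProduct, Fin.sum_univ_two] at e0 e1
    have hv0 : v 0 ≠ 0 ∨ v 1 ≠ 0 := by
      by_contra hh
      push Not at hh
      exact (f1 g).rep_nonzero (by rw [← hv]; ext i; fin_cases i <;> simp [hh.1, hh.2])
    set T := 2 + x * c with hT
    have hchar : l * l - T * l + 1 = 0 := by
      rcases hv0 with hh | hh
      · refine (mul_eq_zero.1 (?_ : (l * l - T * l + 1) * v 0 = 0)).resolve_right hh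
        linear_combination (1 - l) * e0 - x * e1
      · refine (mul_eq_zero.1 (?_ : (l * l - T * l + 1) * v 1 = 0)).resolve_right hh
        linear_combination (-c) * e0 + (1 + x * c - l) * e1
    have hl0' : l ≠ 0 := fun e => by rw [e] at hchar; norm_num at hchar
    have hlpow : ∀ m : ℕ, g ^ m = 1 → l ^ m = 1 := by
      intro m hm
      have h1 := mulVec_pow_eigen (hgm.symm ▸ hl0 :
        ((g : SS) : Matrix (Fin 2) (Fin 2) KK) *ᵥ v = l • v) m
      rw [← Matrix.SpecialLinearGroup.coe_pow, ← Subgroup.coe_pow, hm, Subgroup.coe_one,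
        Matrix.SpecialLinearGroup.coe_one, Matrix.one_mulVec] at h1
      exact smul_left_injective KK (f1 g).rep_nonzero (show l ^ m • v = (1 : KK) • v by rw [one_smul]; exact h1.symm)
    rcases hpow with hg12 | hg10
    · have h12 := hlpow 12 hg12
      have h4 : l ^ 4 = 1 := eq_one_of_pow_prime_pow (p := p) (n := 1) (by
        rw [pow_one, ← pow_mul, show 4 * p = 12 by omega]; exact h12)
      rcases sq_eq_one_iff.1 (show (l ^ 2) ^ 2 = 1 by rw [← pow_mul]; exact h4) with h | h
      · rcases sq_eq_one_iff.1 h with rfl | rfl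
        · exact Or.inr (Or.inl (by linear_combination -hchar))
        · exact Or.inr (Or.inr (Or.inr (by linear_combination hchar - x * c * 0 - h3)))
      · have hT0 : T = 0 := (mul_eq_zero.1 (by linear_combination -hchar + h : T * l = 0)).resolve_right hl0'
        exact Or.inr (Or.inr (Or.inl (by linear_combination hT0 - h3)))
    · have h10' := hlpow 10 hg10
      have hTl : l + l⁻¹ = T := by
        field_simp
        linear_combination hchar
      by_cases h2 : l ^ 2 = 1
      · rcases sq_eq_one_iff.1 h2 with rfl | rfl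
        · exact Or.inr (Or.inl (by linear_combination -hchar))
        · exact Or.inr (Or.inr (Or.inr (by linear_combination hchar - h3)))
      · left
        have h5 : l ^ 8 + l ^ 6 + l ^ 4 + l ^ 2 + 1 = 0 := (mul_eq_zero.1
          (by linear_combination h10' : (l ^ 2 - 1) * (l ^ 8 + l ^ 6 + l ^ 4 + l ^ 2 + 1) = 0)).resolve_left
          (sub_ne_zero.2 h2)
        have hxT : x * c - 1 = T := by linear_combination -h3
        rw [hxT, ← hTl]
        field_simp
        linear_combination h5 + (l ^ 6 + l ^ 4 * 2 + l ^ 2) * h3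
  have hA1 : (-1 : KK) ∈ Af := (memAf _).2 ((memA _).1 (A.neg_mem ((memA 1).2 hu)))
  have hc2 : c ^ 2 = -1 := by
    rcases htrace 1 h10 with h | h | h | h
    rotate_left
    · exact absurd (by rwa [one_mul] at h) hc
    · exact absurd (by rwa [one_mul] at h) hc1
    · exact absurd (by rwa [one_mul] at h) hcm
    rcases htrace (-1) hA1 with h' | h' | h' | h'
    rotate_left
    · exact absurd (neg_eq_zero.1 (by rwa [neg_one_mul] at h')) hc
    · exact absurd (by linear_combination -h' : c = -1) hcm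
    · exact absurd (by linear_combination -h' : c = 1) hc1
    have h8 : c * (c ^ 2 + 1) = 0 := by
      linear_combination h - h' + (3 * c ^ 3 + 3 * c) * h3
    linear_combination (mul_eq_zero.1 h8).resolve_left hc
  refine ⟨ll 1, -c, c, 1, one_ne_zero, by rw [map_one]; linear_combination -hc2, ?_, ?_⟩
  · refine ⟨uu 1, hu, Or.inr ?_⟩
    have e : (ll 1 * uu (-c) : SS) = uu 1 * ll c * (uu 1)⁻¹ * ll 1 := by
      apply Subtype.ext
      simp [Matrix.adjugate_fin_two]
    rw [e, mul_inv_cancel_right]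
  · refine ⟨1, one_mem _, Or.inr ?_⟩
    rw [ll_mul, add_comm, ← ll_mul, mul_inv_cancel_right, one_mul, inv_one, mul_one]

theorem IsConjGen.mem {R : Subgroup SS} {c : KK} (hu : uu 1 ∈ R) (hl : ll c ∈ R) {g : SS}
    (h : IsConjGen R c g) : g ∈ R := by
  obtain ⟨x, hx, rfl | rfl⟩ := h <;> exact mul_mem (mul_mem hx (by assumption)) (inv_mem hx)

/-- A finite subgroup of `SL(2)` with two transvections of different centres contains `SL(2,p)`. -/
theorem exists_sl2p (hp2 : p ≠ 2) (R : Subgroup SS) [Finite R] {c : KK} (hc : c ≠ 0)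
    (hu : uu 1 ∈ R) (hl : ll c ∈ R) : HasSL2p R := by
  obtain ⟨Q, a, b, j, hj, hab, ha, hb⟩ := exists_pair hp2 R hc hu hl
  exact hasSL2p_of_conj Q hj hab (ha.mem hu hl) (hb.mem hu hl)

end CfsgLib.PStab.Dickson
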