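import Cfsg.Prelude.Def_PLocal
import Cfsg.Prelude.Def_LocalEven
import Cfsg.Agent.Lib.PStab.Dickson
import Cfsg.Agent.Lib.PStab.Stable

/-!
A quadratic pair that is not unipotent yields a section `Qd(p)`.
-/

set_option autoImplicit false

namespace CfsgLib.PStab

section Plane

variable {K W : Type*} [Field K] [AddCommGroup W] [Module K W] {H : Type*} [Group H] [Finite H]

/-- If `αβ` is not nilpotent there is an invariant plane. -/
theorem exists_plane_intertwining [IsAlgClosed K] [FiniteDimensional K W] (φ : H →* Module.End K W) {A B : H}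
    (hgen : Subgroup.closure ({A, B} : Set H) = ⊤) (hA : (φ A - 1) * (φ A - 1) = 0)
    (hB : (φ B - 1) * (φ B - 1) = 0) (hn : ¬ IsNilpotent ((φ A - 1) * (φ B - 1))) :
    ∃ (ρ : H →* Matrix (Fin 2) (Fin 2) K) (c : K) (L : (Fin 2 → K) →ₗ[K] W), c ≠ 0 ∧
      ρ A = !![1, c; 0, 1] ∧ ρ B = !![1, 0; 1, 1] ∧ Function.Injective L ∧
      ∀ g x, φ g (L x) = L (Matrix.toLin' (ρ g) x) := by
  classical
  set α := φ A - 1 with hα
  set β := φ B - 1 with hβ
  obtain ⟨c, hc0, hc⟩ : ∃ c : K, c ≠ 0 ∧ Module.End.HasEigenvalue (α * β) c := by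
    by_contra hne
    push Not at hne
    apply hn
    have htop := Module.End.iSup_maxGenEigenspace_eq_top (α * β)
    have h0 : Module.End.maxGenEigenspace (α * β) 0 = ⊤ := by
      rw [eq_top_iff, ← htop]
      refine iSup_le fun μ => ?_
      by_cases hμ : μ = 0
      · rw [hμ]
      · by_cases hbot : Module.End.maxGenEigenspace (α * β) μ = ⊥
        · rw [hbot]; exact bot_le
        exfalso
        refine hne μ hμ ?_
        rw [Module.End.maxGenEigenspace_eq_genEigenspace_finrank] at hbot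
        exact Module.End.hasEigenvalue_of_hasGenEigenvalue hbot
    rw [Module.End.maxGenEigenspace_eq_genEigenspace_finrank, Module.End.genEigenspace_nat,
      zero_smul, sub_zero, LinearMap.ker_eq_top] at h0
    exact ⟨_, h0⟩
  obtain ⟨u, hu⟩ := hc.exists_hasEigenvector
  set w := β u with hw
  have hαw : α w = c • u := hu.apply_eq_smul
  have hαu : α u = 0 := by
    have : c • α u = 0 := by
      rw [← map_smul, ← hαw, ← Module.End.mul_apply, hA, LinearMap.zero_apply]
    exact (smul_eq_zero.1 this).resolve_left hc0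
  have hβw : β w = 0 := by rw [hw, ← Module.End.mul_apply, hB, LinearMap.zero_apply]
  let L : (Fin 2 → K) →ₗ[K] W :=
    (LinearMap.proj (R := K) (φ := fun _ : Fin 2 => K) 0).smulRight u +
      (LinearMap.proj (R := K) (φ := fun _ : Fin 2 => K) 1).smulRight w
  have hL : ∀ x : Fin 2 → K, L x = x 0 • u + x 1 • w := fun x => by simp [L]
  have hinj : Function.Injective L := by
    refine LinearMap.ker_eq_bot.1 (LinearMap.ker_eq_bot'.2 fun x hx => ?_)
    rw [hL] at hx
    have h1 : x 1 = 0 := by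
      have := congrArg α hx
      rw [map_add, map_smul, map_smul, hαu, hαw, smul_zero, zero_add, map_zero, smul_smul,
        smul_eq_zero] at this
      rcases this with h | h
      · exact (mul_eq_zero.1 h).resolve_right hc0
      · exact absurd h hu.2
    rw [h1, zero_smul, add_zero, smul_eq_zero] at hx
    have h0 : x 0 = 0 := hx.resolve_right hu.2
    ext i; fin_cases i <;> simp [h0, h1]
  have step : ∀ h : H, ∃ m : Matrix (Fin 2) (Fin 2) K, φ h ∘ₗ L = L ∘ₗ Matrix.toLin' m := by
    intro h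
    refine forall_of_closure_pair (P := fun h => ∃ m : Matrix (Fin 2) (Fin 2) K,
      φ h ∘ₗ L = L ∘ₗ Matrix.toLin' m) hgen ⟨1, ?_⟩ ⟨!![1, c; 0, 1], ?_⟩ ⟨!![1, 0; 1, 1], ?_⟩ ?_ h
    · rw [map_one, Matrix.toLin'_one, LinearMap.comp_id, Module.End.one_eq_id, LinearMap.id_comp]
    · refine LinearMap.ext fun x => ?_
      have e : φ A (L x) = α (L x) + L x := by simp [hα]
      simp only [LinearMap.comp_apply, Matrix.toLin'_apply]
      rw [e, hL, hL, map_add, map_smul, map_smul, hαu, hαw]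
      simp [dotProduct, Fin.sum_univ_two]
      module
    · refine LinearMap.ext fun x => ?_
      have e : φ B (L x) = β (L x) + L x := by simp [hβ]
      simp only [LinearMap.comp_apply, Matrix.toLin'_apply]
      rw [e, hL, hL, map_add, map_smul, map_smul, hβw, ← hw]
      simp [dotProduct, Fin.sum_univ_two]
      module
    · rintro x y ⟨m, hm⟩ ⟨m', hm'⟩
      refine ⟨m * m', LinearMap.ext fun v => ?_⟩
      have h1 := LinearMap.congr_fun hm' v
      have h2 := LinearMap.congr_fun hm (Matrix.toLin' m' v)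
      simp only [LinearMap.comp_apply] at h1 h2 ⊢
      rw [map_mul, Module.End.mul_apply, h1, h2, Matrix.toLin'_mul_apply]
  choose ρ hρ using step
  have huniq : ∀ h m, φ h ∘ₗ L = L ∘ₗ Matrix.toLin' m → ρ h = m := by
    intro h m hm
    apply Matrix.toLin'.injective
    exact LinearMap.ext fun x => hinj (LinearMap.congr_fun ((hρ h).symm.trans hm) x)
  refine ⟨{ toFun := ρ, map_one' := huniq 1 1 ?_, map_mul' := fun x y => huniq _ _ ?_ }, c, L, hc0,
    huniq A _ ?_, huniq B _ ?_, hinj, fun g x => LinearMap.congr_fun (hρ g) x⟩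
  · rw [map_one, Matrix.toLin'_one, LinearMap.comp_id, Module.End.one_eq_id, LinearMap.id_comp]
  · refine LinearMap.ext fun v => ?_
    have h1 := LinearMap.congr_fun (hρ y) v
    have h2 := LinearMap.congr_fun (hρ x) (Matrix.toLin' (ρ y) v)
    simp only [LinearMap.comp_apply] at h1 h2 ⊢
    rw [map_mul, Module.End.mul_apply, h1, h2, Matrix.toLin'_mul_apply]
  · refine LinearMap.ext fun x => ?_
    have e : φ A (L x) = α (L x) + L x := by simp [hα]
    simp only [LinearMap.comp_apply, Matrix.toLin'_apply]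
    rw [e, hL, hL, map_add, map_smul, map_smul, hαu, hαw]
    simp [dotProduct, Fin.sum_univ_two]
    module
  · refine LinearMap.ext fun x => ?_
    have e : φ B (L x) = β (L x) + L x := by simp [hβ]
    simp only [LinearMap.comp_apply, Matrix.toLin'_apply]
    rw [e, hL, hL, map_add, map_smul, map_smul, hβw, ← hw]
    simp [dotProduct, Fin.sum_univ_two]
    module


end Plane


open Matrix
open scoped commutatorElement

variable {p : ℕ} [hp : Fact p.Prime]

local notation "KK" => AlgebraicClosure (ZMod p)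

/-- The matrix `[[m, x], [0, 1]]`. -/
def affMat (m : Matrix.SpecialLinearGroup (Fin 2) (ZMod p)) (x : Fin 2 → ZMod p) :
    Matrix.SpecialLinearGroup (Fin 3) (ZMod p) :=
  ⟨!![m.1 0 0, m.1 0 1, x 0; m.1 1 0, m.1 1 1, x 1; 0, 0, 1], by
    have h := m.det_coe
    rw [Matrix.det_fin_two] at h
    rw [Matrix.det_fin_three]
    simp
    linear_combination h⟩

theorem affMat_coe (m : Matrix.SpecialLinearGroup (Fin 2) (ZMod p)) (x : Fin 2 → ZMod p) :
    (affMat m x : Matrix (Fin 3) (Fin 3) (ZMod p)) =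
      !![m.1 0 0, m.1 0 1, x 0; m.1 1 0, m.1 1 1, x 1; 0, 0, 1] := rfl

theorem affMat_mul (m n : Matrix.SpecialLinearGroup (Fin 2) (ZMod p)) (x y : Fin 2 → ZMod p) :
    affMat m x * affMat n y = affMat (m * n) ((m : Matrix (Fin 2) (Fin 2) (ZMod p)) *ᵥ y + x) := by
  apply Subtype.ext
  ext i j
  fin_cases i <;> fin_cases j <;>
    simp [affMat_coe, Matrix.mul_apply, Fin.sum_univ_two, Fin.sum_univ_three, dotProduct] <;> rfl

theorem affMat_one : affMat (p := p) 1 0 = 1 := by
  apply Subtype.ext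
  ext i j
  fin_cases i <;> fin_cases j <;> simp [affMat_coe]

theorem affMat_mem_qd (m : Matrix.SpecialLinearGroup (Fin 2) (ZMod p)) (x : Fin 2 → ZMod p) :
    affMat m x ∈ Cfsg.qd p := Subgroup.subset_closure (by
    show _ ∧ _ ∧ _
    simp [affMat_coe])

theorem qd_le_range {T : Type*} [Group T] (f : T →* Matrix.SpecialLinearGroup (Fin 3) (ZMod p))
    (hf : ∀ m x, affMat m x ∈ f.range) : Cfsg.qd p ≤ f.range := by
  rw [Cfsg.qd, Subgroup.closure_le]
  intro M hM
  obtain ⟨h0, h1, h2⟩ := hM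
  have hd := M.det_coe
  rw [Matrix.det_fin_three, h0, h1, h2] at hd
  have hm : (!![M.1 0 0, M.1 0 1; M.1 1 0, M.1 1 1] : Matrix (Fin 2) (Fin 2) (ZMod p)).det = 1 := by
    rw [Matrix.det_fin_two_of]; linear_combination hd
  have e : M = affMat ⟨_, hm⟩ ![M.1 0 2, M.1 1 2] := by
    apply Subtype.ext
    show (M : Matrix (Fin 3) (Fin 3) (ZMod p)) = !![M.1 0 0, M.1 0 1, M.1 0 2; M.1 1 0, M.1 1 1, M.1 1 2; 0, 0, 1]
    ext i j
    fin_cases i <;> fin_cases j <;> simp [h0, h1, h2]
  rw [e]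
  exact hf _ _

/-- A group extension of the natural module by `SL(2,p)` has a subgroup mapping onto `Qd(p)`. -/
theorem involves_qd_of_natural (hp2 : p ≠ 2) {G : Type*} [Group G] [Finite G]
    (ι : Multiplicative (Fin 2 → ZMod p) →* G) (hι : Function.Injective ι)
    (ρ : G →* Matrix.SpecialLinearGroup (Fin 2) (ZMod p)) (hρs : Function.Surjective ρ)
    (hnat : ∀ g x, g * ι (Multiplicative.ofAdd x) * g⁻¹ =
      ι (Multiplicative.ofAdd ((ρ g : Matrix (Fin 2) (Fin 2) (ZMod p)) *ᵥ x))) :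
    ∃ (S : Subgroup G) (f : S →* Cfsg.qd p), Function.Surjective f := by
  classical
  have : NeZero p := ⟨hp.out.ne_zero⟩
  -- the preimage of `±1`
  let cen : Subgroup (Matrix.SpecialLinearGroup (Fin 2) (ZMod p)) := Subgroup.zpowers (-1)
  have hcn : cen.Normal := by
    refine ⟨fun z hz g => ?_⟩
    have hc : g * z = z * g := by
      obtain ⟨k, rfl⟩ := Subgroup.mem_zpowers_iff.1 hz
      have h1 : Commute g (-1) := by
        show g * -1 = -1 * g
        apply Subtype.ext
        simp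
      exact h1.zpow_right k
    rw [hc, mul_inv_cancel_right]; exact hz
  set M := cen.comap ρ with hM
  have hMn : M.Normal := hcn.comap ρ
  obtain ⟨T⟩ : Nonempty (Sylow 2 M) := inferInstance
  set T' := (T : Subgroup M).map M.subtype with hT'
  set L := Subgroup.normalizer (T' : Set G) with hL
  have htop : L ⊔ M = ⊤ := T.normalizer_sup_eq_top
  -- an element acting as `-1`
  obtain ⟨t, htT, htρ⟩ : ∃ t ∈ T', ρ t = -1 := by
    obtain ⟨m, hm⟩ := hρs (-1)
    have hmM : m ∈ M := by rw [hM, Subgroup.mem_comap, hm]; exact Subgroup.mem_zpowers _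
    set f : M →* cen := ρ.subgroupComap cen
    have hf : Function.Surjective f := ρ.subgroupComap_surjective_of_surjective cen hρs
    have hcard : Nat.card cen = 2 := by
      show Nat.card (Subgroup.zpowers _) = 2
      rw [Nat.card_zpowers]
      refine orderOf_eq_prime (by simp [pow_two]) fun e => ?_
      have h := congrArg (fun X : Matrix.SpecialLinearGroup (Fin 2) (ZMod p) => X.1 0 0) e
      simp at h
      have h2 : ((2 : ℕ) : ZMod p) = 0 := by push_cast; linear_combination -h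
      rw [CharP.cast_eq_zero_iff (ZMod p) p] at h2
      exact hp2 ((Nat.prime_dvd_prime_iff_eq hp.out Nat.prime_two).1 h2)
    have hcp : IsPGroup 2 cen := IsPGroup.of_card (n := 1) (by rw [hcard, pow_one])
    have htop' : ((T.mapSurjective hf : Sylow 2 cen) : Subgroup cen) = ⊤ :=
      ((T.mapSurjective hf).3 (hcp.to_subgroup ⊤) le_top).symm
    obtain ⟨t, ht, e⟩ := htop'.ge (Subgroup.mem_top (⟨-1, Subgroup.mem_zpowers _⟩ : cen))
    exact ⟨t, ⟨t, ht, rfl⟩, congrArg Subtype.val e⟩
  -- the image of `ι` lies in `M` and meets `L` trivially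
  have hιρ : ∀ x, ρ (ι (Multiplicative.ofAdd x)) = 1 := fun x => by
    apply Subtype.ext
    apply Matrix.toLin'.injective
    refine LinearMap.ext fun y => ?_
    have h := hnat (ι (Multiplicative.ofAdd x)) y
    rw [← map_mul, mul_comm, map_mul, mul_inv_cancel_right] at h
    simpa using (Multiplicative.ofAdd.injective (hι h)).symm
  have hdisj : ∀ x, ι (Multiplicative.ofAdd x) ∈ L → x = 0 := by
    intro x hx
    set w := ι (Multiplicative.ofAdd x) with hw
    have h1 : w * (t * w⁻¹ * t⁻¹) ∈ T' := by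
      have := mul_mem ((Subgroup.mem_normalizer_iff.1 hx t).1 htT) (inv_mem htT)
      convert this using 1
      group
    rw [hw, ← map_inv, ← ofAdd_neg, hnat, htρ, ← map_mul, ← ofAdd_add] at h1
    simp only [Matrix.SpecialLinearGroup.coe_neg, Matrix.SpecialLinearGroup.coe_one, Matrix.neg_mulVec,
      Matrix.one_mulVec, neg_neg] at h1
    have h2 : ι (Multiplicative.ofAdd (x + x)) ^ p = 1 := by
      rw [← map_pow, ← ofAdd_nsmul]
      simp
    have h3 : ι (Multiplicative.ofAdd (x + x)) = 1 := by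
      obtain ⟨s, hs, e⟩ := h1
      rw [Subgroup.subtype_apply] at e
      obtain ⟨k, hk⟩ := T.2 ⟨s, hs⟩
      refine orderOf_eq_one_iff.1 (Nat.dvd_one.1 ?_)
      have hc : Nat.Coprime p (2 ^ k) := Nat.Coprime.pow_right _ ((Nat.coprime_primes hp.out Nat.prime_two).2 hp2)
      rw [← hc]
      refine Nat.dvd_gcd (orderOf_dvd_of_pow_eq_one h2) (orderOf_dvd_of_pow_eq_one ?_)
      rw [← e]
      exact congrArg (fun z : (T : Subgroup M) => ((z : M) : G)) hk
    have h4 : x + x = 0 := Multiplicative.ofAdd.injective (hι (h3.trans (map_one ι).symm))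
    funext i
    have h5 : (2 : ZMod p) * x i = 0 := by
      have := congrFun h4 i
      simp only [Pi.add_apply, Pi.zero_apply] at this
      linear_combination this
    refine (mul_eq_zero.1 h5).resolve_left fun h => ?_
    have h' : ((2 : ℕ) : ZMod p) = 0 := by exact_mod_cast h
    rw [CharP.cast_eq_zero_iff (ZMod p) p] at h'
    exact hp2 ((Nat.prime_dvd_prime_iff_eq hp.out Nat.prime_two).1 h')
  have hLs : ∀ m, ∃ l ∈ L, ρ l = m := by
    intro m
    obtain ⟨g, rfl⟩ := hρs m
    have hg : g ∈ L ⊔ M := htop ▸ Subgroup.mem_top g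
    obtain ⟨l, hl, y, hy, rfl⟩ := Subgroup.mem_sup_of_normal_right.1 hg
    obtain ⟨k, hk⟩ := Subgroup.mem_zpowers_iff.1 (Subgroup.mem_comap.1 hy : ρ y ∈ cen)
    exact ⟨l * t ^ k, mul_mem hl (Subgroup.zpow_mem _ (Subgroup.le_normalizer htT) k),
      by rw [map_mul, map_mul, map_zpow, htρ, hk]⟩
  -- the semidirect product
  let act : L →* MulAut (Multiplicative (Fin 2 → ZMod p)) :=
    { toFun := fun l =>
        { toFun := fun x => Multiplicative.ofAdd
            ((ρ l : Matrix (Fin 2) (Fin 2) (ZMod p)) *ᵥ Multiplicative.toAdd x)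
          invFun := fun x => Multiplicative.ofAdd
            (((ρ l)⁻¹ : Matrix.SpecialLinearGroup (Fin 2) (ZMod p)).1 *ᵥ Multiplicative.toAdd x)
          left_inv := fun x => by
            simp only [toAdd_ofAdd]
            rw [Matrix.mulVec_mulVec, ← Matrix.SpecialLinearGroup.coe_mul, inv_mul_cancel,
              Matrix.SpecialLinearGroup.coe_one, Matrix.one_mulVec, ofAdd_toAdd]
          right_inv := fun x => by
            simp only [toAdd_ofAdd]
            rw [Matrix.mulVec_mulVec, ← Matrix.SpecialLinearGroup.coe_mul, mul_inv_cancel,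
              Matrix.SpecialLinearGroup.coe_one, Matrix.one_mulVec, ofAdd_toAdd]
          map_mul' := fun x y => by simp only [toAdd_mul, Matrix.mulVec_add, ofAdd_add] }
      map_one' := MulEquiv.ext fun x => by simp
      map_mul' := fun a b => MulEquiv.ext fun x => by
        simp only [Subgroup.coe_mul, map_mul, Matrix.SpecialLinearGroup.coe_mul, MulEquiv.coe_mk,
          Equiv.coe_fn_mk, MulAut.mul_apply, toAdd_ofAdd, Matrix.mulVec_mulVec] }
  have actapp : ∀ (l : L) (x : Fin 2 → ZMod p), act l (Multiplicative.ofAdd x) =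
      Multiplicative.ofAdd ((ρ l : Matrix (Fin 2) (Fin 2) (ZMod p)) *ᵥ x) := fun l x => rfl
  let j : Multiplicative (Fin 2 → ZMod p) ⋊[act] L →* G := SemidirectProduct.lift ι L.subtype fun l => by
    refine MonoidHom.ext fun x => ?_
    obtain ⟨x, rfl⟩ := Multiplicative.ofAdd.surjective x
    show ι (act l (Multiplicative.ofAdd x)) = (l : G) * ι (Multiplicative.ofAdd x) * (l : G)⁻¹
    rw [actapp, hnat]
  let tr : Multiplicative (Fin 2 → ZMod p) →* Matrix.SpecialLinearGroup (Fin 3) (ZMod p) :=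
    { toFun := fun x => affMat 1 (Multiplicative.toAdd x)
      map_one' := affMat_one
      map_mul' := fun x y => by simp [affMat_mul, add_comm] }
  let li : L →* Matrix.SpecialLinearGroup (Fin 3) (ZMod p) :=
    { toFun := fun l => affMat (ρ l) 0
      map_one' := by simp [affMat_one]
      map_mul' := fun a b => by simp [affMat_mul] }
  let q : Multiplicative (Fin 2 → ZMod p) ⋊[act] L →* Matrix.SpecialLinearGroup (Fin 3) (ZMod p) :=
    SemidirectProduct.lift tr li fun l => by
      refine MonoidHom.ext fun x => ?_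
      obtain ⟨x, rfl⟩ := Multiplicative.ofAdd.surjective x
      show affMat 1 ((ρ l : Matrix (Fin 2) (Fin 2) (ZMod p)) *ᵥ x) = li l * affMat 1 x * (li l)⁻¹
      rw [← map_inv]
      show _ = affMat (ρ l) 0 * affMat 1 x * affMat (ρ (↑(l⁻¹) : G)) 0
      simp [affMat_mul]
  have hqmem : ∀ a, q a ∈ Cfsg.qd p := fun a => by
    rw [← SemidirectProduct.inl_left_mul_inr_right a, map_mul]
    simp only [q, SemidirectProduct.lift_inl, SemidirectProduct.lift_inr]
    exact mul_mem (affMat_mem_qd _ _) (affMat_mem_qd _ _)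
  have hjinj : Function.Injective j := by
    rw [injective_iff_map_eq_one]
    intro a ha
    rw [← SemidirectProduct.inl_left_mul_inr_right a, map_mul] at ha
    simp only [j, SemidirectProduct.lift_inl, SemidirectProduct.lift_inr, Subgroup.subtype_apply] at ha
    have h0 : Multiplicative.toAdd a.left = 0 := by
      refine hdisj _ ?_
      rw [ofAdd_toAdd, eq_inv_of_mul_eq_one_left ha]
      exact inv_mem a.right.2
    have h1 : a.left = 1 := Multiplicative.toAdd.injective h0
    rw [h1, map_one, one_mul] at ha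
    exact SemidirectProduct.ext h1 (Subtype.ext ha)
  refine ⟨j.range, ((q.comp (MulEquiv.ofBijective j.rangeRestrict
    ⟨fun a b h => hjinj (congrArg Subtype.val h), j.rangeRestrict_surjective⟩).symm.toMonoidHom).codRestrict
      (Cfsg.qd p) fun a => hqmem _), ?_⟩
  rintro ⟨M', hM'⟩
  obtain ⟨a, rfl⟩ := qd_le_range q (fun m x => by
    obtain ⟨l, hl, rfl⟩ := hLs m
    refine ⟨SemidirectProduct.inl (Multiplicative.ofAdd x) * SemidirectProduct.inr ⟨l, hl⟩, ?_⟩
    simp [q, tr, li, affMat_mul]) hM'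
  refine ⟨MulEquiv.ofBijective j.rangeRestrict
    ⟨fun a b h => hjinj (congrArg Subtype.val h), j.rangeRestrict_surjective⟩ a, Subtype.ext ?_⟩
  simp

section Pair

variable {V : Type*} [CommGroup V] [Finite V] {H : Type*} [Group H] [Finite H]

/-- A conjugate of one of two elements. -/
def IsConjOf (A B a : H) : Prop := ∃ g : H, a = g * A * g⁻¹ ∨ a = g * B * g⁻¹

open Dickson in
theorem exists_natural_pair_aux [Module (ZMod p) (Additive V)] (hp2 : p ≠ 2) (ψ : H →* MulAut V) {A B : H}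
    (hgen : Subgroup.closure ({A, B} : Set H) = ⊤)
    (hA : ∀ v, ψ A (ψ A v) * v = ψ A v * ψ A v) (hB : ∀ v, ψ B (ψ B v) * v = ψ B v * ψ B v)
    {h : H} (hh : ∀ k : ℕ, ψ (h ^ p ^ k) ≠ 1) :
    ∃ (a b : H) (ι : Multiplicative (Fin 2 → ZMod p) →* V) (j : ZMod p), IsConjOf A B a ∧ IsConjOf A B b ∧
      Function.Injective ι ∧ j ≠ 0 ∧
      (∀ x, ψ a (ι (Multiplicative.ofAdd x)) = ι (Multiplicative.ofAdd (!![1, j; 0, 1] *ᵥ x))) ∧
      ∀ x, ψ b (ι (Multiplicative.ofAdd x)) = ι (Multiplicative.ofAdd (!![1, 0; 1, 1] *ᵥ x)) := by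
  classical
  let lin : H → (Additive V →ₗ[ZMod p] Additive V) := fun g =>
    AddMonoidHom.toZModLinearMap p
      { toFun := fun x => Additive.ofMul (ψ g (Additive.toMul x))
        map_zero' := by rw [toMul_zero, map_one, ofMul_one]
        map_add' := fun x y => by rw [toMul_add, map_mul, ofMul_mul] }
  have linapp : ∀ g (x : Additive V), lin g x = Additive.ofMul (ψ g (Additive.toMul x)) :=
    fun g x => rfl
  let φ : H →* Module.End (ZMod p) (Additive V) :=
    { toFun := lin
      map_one' := LinearMap.ext fun x => by rw [linapp, map_one]; simp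
      map_mul' := fun a b => LinearMap.ext fun x => by
        rw [Module.End.mul_apply, linapp, linapp, linapp, map_mul]; simp }
  have φapp : ∀ g (x : Additive V), (φ g : Additive V →ₗ[ZMod p] Additive V) x =
      Additive.ofMul (ψ g (Additive.toMul x)) := fun g x => rfl
  have quad : ∀ C : H, (∀ v, ψ C (ψ C v) * v = ψ C v * ψ C v) → (φ C - 1) * (φ C - 1) = 0 := by
    intro C hC
    refine LinearMap.ext fun x => ?_
    have e := congrArg Additive.ofMul (hC (Additive.toMul x))
    simp only [ofMul_mul, ofMul_toMul] at e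
    simp only [Module.End.mul_apply, LinearMap.sub_apply, Module.End.one_apply, map_sub,
      LinearMap.zero_apply]
    rw [φapp C (φ C x), φapp C x, toMul_ofMul]
    linear_combination (norm := abel) e
  have quadc : ∀ g C : H, (φ C - 1) * (φ C - 1) = 0 →
      (φ (g * C * g⁻¹) - 1) * (φ (g * C * g⁻¹) - 1) = 0 := by
    intro g C hC
    have e : φ (g * C * g⁻¹) - 1 = φ g * (φ C - 1) * φ g⁻¹ := by
      rw [map_mul, map_mul, mul_sub, sub_mul, mul_one, ← map_mul φ g g⁻¹, mul_inv_cancel, map_one]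
    rw [e]
    calc φ g * (φ C - 1) * φ g⁻¹ * (φ g * (φ C - 1) * φ g⁻¹)
        = φ g * (φ C - 1) * (φ g⁻¹ * φ g) * (φ C - 1) * φ g⁻¹ := by simp only [mul_assoc]
      _ = φ g * ((φ C - 1) * (φ C - 1)) * φ g⁻¹ := by
          rw [← map_mul, inv_mul_cancel, map_one, mul_one]; simp only [mul_assoc]
      _ = 0 := by rw [hC, mul_zero, zero_mul]
  set bas := Module.finBasis (ZMod p) (Additive V)
  set n := Module.finrank (ZMod p) (Additive V)
  let R : Module.End (ZMod p) (Additive V) →+* Module.End KK (Fin n → KK) :=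
    (Matrix.toLinAlgEquiv' (R := KK) (n := Fin n)).toRingEquiv.toRingHom.comp
      ((algebraMap (ZMod p) KK).mapMatrix.comp (LinearMap.toMatrixAlgEquiv bas).toRingEquiv.toRingHom)
  have hR : Function.Injective R :=
    (Matrix.toLinAlgEquiv' (R := KK) (n := Fin n)).injective.comp
      ((Matrix.map_injective (algebraMap (ZMod p) KK).injective).comp (LinearMap.toMatrixAlgEquiv bas).injective)
  have hRsc : ∀ t : ZMod p, R (algebraMap _ _ t) = algebraMap KK _ (algebraMap (ZMod p) KK t) := fun t => by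
    simp only [R, RingHom.comp_apply, RingEquiv.toRingHom_eq_coe, RingHom.coe_coe,
      AlgEquiv.coe_ringEquiv, AlgEquiv.commutes, RingHom.mapMatrix_apply]
    rw [show (algebraMap (ZMod p) (Matrix (Fin n) (Fin n) (ZMod p)) t).map (algebraMap (ZMod p) KK) =
      algebraMap KK (Matrix (Fin n) (Fin n) KK) (algebraMap (ZMod p) KK t) from ?_]
    · exact AlgEquiv.commutes (Matrix.toLinAlgEquiv' (R := KK) (n := Fin n)) _
    ext r s
    by_cases h : r = s <;> simp [Matrix.algebraMap_matrix_apply, h]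
  let φK : H →* Module.End KK (Fin n → KK) := R.toMonoidHom.comp φ
  have e1 : ∀ g, φK g - 1 = R (φ g - 1) := fun g => by rw [map_sub, map_one]; rfl
  have hAK : (φK A - 1) * (φK A - 1) = 0 := by rw [e1, ← map_mul, quad A hA, map_zero]
  have hBK : (φK B - 1) * (φK B - 1) = 0 := by rw [e1, ← map_mul, quad B hB, map_zero]
  have hchar : ((p : ℕ) : Module.End (ZMod p) (Additive V)) = 0 := by
    rw [← map_natCast (algebraMap (ZMod p) _), ZMod.natCast_self, map_zero]
  have hnil : ¬ IsNilpotent ((φK A - 1) * (φK B - 1)) := fun hnil => by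
    have hg : IsNilpotent (φ h - 1) := by
      rw [← IsNilpotent.map_iff hR, ← e1]
      exact isNilpotent_sub_one_of_pair φK hgen hAK hBK hnil h
    obtain ⟨k, hk⟩ := pow_eq_one_of_isNilpotent_sub_one hp.out hchar hg
    refine hh k (MulEquiv.ext fun v => ?_)
    rw [← map_pow] at hk
    exact congrArg Additive.toMul (LinearMap.congr_fun hk (Additive.ofMul v))
  obtain ⟨ρ, c, L, hc, hρA, hρB, hL, hint⟩ := exists_plane_intertwining φK hgen hAK hBK hnil
  -- normalise to `u(1)` and `l(c)`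
  set D : Matrix (Fin 2) (Fin 2) KK := !![c⁻¹, 0; 0, 1] with hD
  set D' : Matrix (Fin 2) (Fin 2) KK := !![c, 0; 0, 1] with hD'
  have hDD : D * D' = 1 := by rw [hD, hD']; ext i j; fin_cases i <;> fin_cases j <;> simp [hc]
  have hD'D : D' * D = 1 := by rw [hD, hD']; ext i j; fin_cases i <;> fin_cases j <;> simp [hc]
  have hdet : ∀ g, (ρ g).det = 1 := fun g => by
    refine forall_of_closure_pair (P := fun g => (ρ g).det = 1) hgen (by rw [map_one, Matrix.det_one])
      (by rw [hρA]; simp [Matrix.det_fin_two]) (by rw [hρB]; simp [Matrix.det_fin_two])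
      (fun x y hx hy => by rw [map_mul, Matrix.det_mul, hx, hy, one_mul]) g
  let σ : H →* Matrix.SpecialLinearGroup (Fin 2) KK :=
    { toFun := fun g => ⟨D * ρ g * D', by
        rw [Matrix.det_mul, Matrix.det_mul, hdet, mul_one, ← Matrix.det_mul, hDD, Matrix.det_one]⟩
      map_one' := Subtype.ext (by show D * ρ 1 * D' = 1; rw [map_one, mul_one, hDD])
      map_mul' := fun x y => Subtype.ext (by
        show D * ρ (x * y) * D' = D * ρ x * D' * (D * ρ y * D')
        calc D * ρ (x * y) * D' = D * (ρ x * 1 * ρ y) * D' := by rw [map_mul, mul_one]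
          _ = _ := by rw [← hD'D]; simp only [mul_assoc]) }
  have hσA : σ A = uu 1 := Subtype.ext (by
    show D * ρ A * D' = _
    rw [hρA, uu_coe, hD, hD']
    ext i j; fin_cases i <;> fin_cases j <;> simp [hc])
  have hσB : σ B = ll c := Subtype.ext (by
    show D * ρ B * D' = _
    rw [hρB, ll_coe, hD, hD']
    ext i j; fin_cases i <;> fin_cases j <;> simp [hc])
  have : Finite σ.range := Finite.of_surjective σ.rangeRestrict σ.rangeRestrict_surjective
  obtain ⟨Q, x₀, y₀, j, hj, hxy, hQa, hQb⟩ :=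
    exists_pair hp2 σ.range hc ⟨A, hσA⟩ ⟨B, hσB⟩
  have conjgen : ∀ z, IsConjGen σ.range c z → ∃ a, IsConjOf A B a ∧ σ a = z := by
    rintro z ⟨_, ⟨g, rfl⟩, rfl | rfl⟩
    · exact ⟨g * A * g⁻¹, ⟨g, Or.inl rfl⟩, by simp [hσA]⟩
    · exact ⟨g * B * g⁻¹, ⟨g, Or.inr rfl⟩, by simp [hσB]⟩
  obtain ⟨a, haC, ha⟩ := conjgen _ hQa
  obtain ⟨b, hbC, hb⟩ := conjgen _ hQb
  -- the scalar `j`
  set M : Module.End (ZMod p) (Additive V) :=
    (φ a - 1) * (φ b - 1) + (φ b - 1) * (φ a - 1) - algebraMap _ _ j with hM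
  have hker : LinearMap.ker M ≠ ⊥ := by
    intro hbot
    have hu : IsUnit M := by
      rw [LinearMap.isUnit_iff_ker_eq_bot]; exact hbot
    have hu' : IsUnit (R M) := hu.map R
    rw [LinearMap.isUnit_iff_ker_eq_bot, LinearMap.ker_eq_bot'] at hu'
    have hrho : ∀ g, ρ g = D' * (σ g : Matrix (Fin 2) (Fin 2) KK) * D := fun g => by
      show ρ g = D' * (D * ρ g * D') * D
      calc ρ g = 1 * ρ g * 1 := by rw [mul_one, one_mul]
        _ = _ := by rw [← hD'D]; simp only [mul_assoc]
    set Qm := D' * (Q : Matrix (Fin 2) (Fin 2) KK)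
    set Qm' := ((Q⁻¹ : Matrix.SpecialLinearGroup (Fin 2) KK) : Matrix (Fin 2) (Fin 2) KK) * D
    have hQQ : Qm' * Qm = 1 := by
      show _ * D * (D' * _) = 1
      rw [mul_assoc, ← mul_assoc D, hDD, one_mul, ← Matrix.SpecialLinearGroup.coe_mul, inv_mul_cancel,
        Matrix.SpecialLinearGroup.coe_one]
    have hQQ' : Qm * Qm' = 1 := mul_eq_one_comm.1 hQQ
    have ea : ρ a - 1 = Qm * (!![0, x₀; 0, 0] : Matrix (Fin 2) (Fin 2) KK) * Qm' := by
      have e : (!![0, x₀; 0, 0] : Matrix (Fin 2) (Fin 2) KK) = (uu x₀ : Matrix.SpecialLinearGroup (Fin 2) KK).1 - 1 := by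
        rw [uu_coe]; ext i j; fin_cases i <;> fin_cases j <;> simp
      rw [e, mul_sub, sub_mul, mul_one, hQQ', hrho, ha]
      simp only [Qm, Qm', Matrix.SpecialLinearGroup.coe_mul, mul_assoc]
    have eb : ρ b - 1 = Qm * (!![0, 0; y₀, 0] : Matrix (Fin 2) (Fin 2) KK) * Qm' := by
      have e : (!![0, 0; y₀, 0] : Matrix (Fin 2) (Fin 2) KK) = (ll y₀ : Matrix.SpecialLinearGroup (Fin 2) KK).1 - 1 := by
        rw [ll_coe]; ext i j; fin_cases i <;> fin_cases j <;> simp
      rw [e, mul_sub, sub_mul, mul_one, hQQ', hrho, hb]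
      simp only [Qm, Qm', Matrix.SpecialLinearGroup.coe_mul, mul_assoc]
    have hzero : (ρ a - 1) * (ρ b - 1) + (ρ b - 1) * (ρ a - 1) - (algebraMap (ZMod p) KK j) • 1 = 0 := by
      have key : ∀ X Y : Matrix (Fin 2) (Fin 2) KK, Qm * X * Qm' * (Qm * Y * Qm') = Qm * (X * Y) * Qm' := by
        intro X Y
        calc Qm * X * Qm' * (Qm * Y * Qm') = Qm * X * (Qm' * Qm) * Y * Qm' := by simp only [mul_assoc]
          _ = _ := by rw [hQQ, mul_one]; simp only [mul_assoc]
      rw [ea, eb, key, key, ← add_mul, ← mul_add,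
        show (!![0, x₀; 0, 0] : Matrix (Fin 2) (Fin 2) KK) * !![0, 0; y₀, 0] + !![0, 0; y₀, 0] * !![0, x₀; 0, 0] =
          (algebraMap (ZMod p) KK j) • 1 from by
            rw [← hxy]; ext i j; fin_cases i <;> fin_cases j <;> simp [mul_comm],
        Matrix.mul_smul, Matrix.smul_mul, mul_one, hQQ', sub_self]
    have hL0 : R M (L ![1, 0]) = 0 := by
      have hsub : ∀ g z, (φK g - 1) (L z) = L (Matrix.toLin' (ρ g - 1) z) := fun g z => by
        rw [LinearMap.sub_apply, hint, Module.End.one_apply, map_sub, Matrix.toLin'_one, LinearMap.sub_apply,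
          LinearMap.id_apply, map_sub]
      rw [hM, map_sub, map_add, map_mul, map_mul, ← e1, ← e1, hRsc, LinearMap.sub_apply, LinearMap.add_apply,
        Module.End.mul_apply, Module.End.mul_apply, hsub, hsub, hsub, hsub, Module.algebraMap_end_apply,
        ← map_smul, ← map_add, ← map_sub, ← Matrix.toLin'_mul_apply, ← Matrix.toLin'_mul_apply]
      have := congrArg (fun X => L (Matrix.toLin' X ![1, 0])) hzero
      simpa only [map_sub, map_add, map_smul, Matrix.toLin'_one, LinearMap.sub_apply, LinearMap.add_apply,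
        LinearMap.smul_apply, LinearMap.id_apply, map_zero, LinearMap.zero_apply] using this
    have h0 := hu' _ hL0
    rw [← map_zero L] at h0
    simpa using congrFun (hL h0) 0
  obtain ⟨v₁, hv₁M, hv₁⟩ := (Submodule.ne_bot_iff _).1 hker
  rw [LinearMap.mem_ker] at hv₁M
  have qa : (φ a - 1) * (φ a - 1) = 0 := by
    obtain ⟨g, rfl | rfl⟩ := haC
    · exact quadc g A (quad A hA)
    · exact quadc g B (quad B hB)
  have qb : (φ b - 1) * (φ b - 1) = 0 := by
    obtain ⟨g, rfl | rfl⟩ := hbC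
    · exact quadc g A (quad A hA)
    · exact quadc g B (quad B hB)
  set α := φ a - 1 with hα
  set β := φ b - 1 with hβ
  have hz : ∀ x, M x = α (β x) + β (α x) - j • x := fun x => by
    simp [hM, Module.algebraMap_end_apply]
  have haa : ∀ x, α (α x) = 0 := fun x => by rw [← Module.End.mul_apply, qa, LinearMap.zero_apply]
  have hbb : ∀ x, β (β x) = 0 := fun x => by rw [← Module.End.mul_apply, qb, LinearMap.zero_apply]
  rw [hz, sub_eq_zero] at hv₁M
  obtain ⟨v, hv, hαv, hαβ⟩ : ∃ v, v ≠ 0 ∧ α v = 0 ∧ α (β v) = j • v := by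
    by_cases h0 : α v₁ = 0
    · exact ⟨v₁, hv₁, h0, by simpa [h0] using hv₁M⟩
    · refine ⟨α v₁, h0, haa _, ?_⟩
      have := congrArg α hv₁M
      simpa [haa] using this
  set w := β v with hw
  let L' : (Fin 2 → ZMod p) →ₗ[ZMod p] Additive V :=
    (LinearMap.proj (R := ZMod p) (φ := fun _ : Fin 2 => ZMod p) 0).smulRight v +
      (LinearMap.proj (R := ZMod p) (φ := fun _ : Fin 2 => ZMod p) 1).smulRight w
  have hL' : ∀ x : Fin 2 → ZMod p, L' x = x 0 • v + x 1 • w := fun x => by simp [L']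
  have hinj : Function.Injective L' := by
    refine LinearMap.ker_eq_bot.1 (LinearMap.ker_eq_bot'.2 fun x hx => ?_)
    rw [hL'] at hx
    have h1 : x 1 = 0 := by
      have := congrArg α hx
      rw [map_add, map_smul, map_smul, hαv, hαβ, smul_zero, zero_add, map_zero, smul_smul,
        smul_eq_zero] at this
      rcases this with h | h
      · exact (mul_eq_zero.1 h).resolve_right hj
      · exact absurd h hv
    rw [h1, zero_smul, add_zero, smul_eq_zero] at hx
    have h0 : x 0 = 0 := hx.resolve_right hv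
    ext i; fin_cases i <;> simp [h0, h1]
  refine ⟨a, b, L'.toAddMonoidHom.toMultiplicativeLeft, j, haC, hbC, fun x y e => ?_, hj,
    fun x => ?_, fun x => ?_⟩
  · exact Multiplicative.toAdd.injective (hinj (Additive.toMul.injective e))
  · have e : φ a (L' x) = L' (!![1, j; 0, 1] *ᵥ x) := by
      have e0 : φ a (L' x) = α (L' x) + L' x := by simp [hα]
      rw [e0, hL', hL', map_add, map_smul, map_smul, hαv, hαβ]
      simp [dotProduct, Fin.sum_univ_two]
      module
    exact congrArg Additive.toMul e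
  · have e : φ b (L' x) = L' (!![1, 0; 1, 1] *ᵥ x) := by
      have e0 : φ b (L' x) = β (L' x) + L' x := by simp [hβ]
      rw [e0, hL', hL', map_add, map_smul, map_smul, ← hw, show β w = 0 from hbb v]
      simp [dotProduct, Fin.sum_univ_two]
      module
    exact congrArg Additive.toMul e

end Pair

open Subgroup in
/-- A surjection from a subgroup gives a section. -/
theorem involves_of_surjective {G M : Type*} [Group G] [Group M] {S : Subgroup G} {f : S →* M}
    (hf : Function.Surjective f) : Cfsg.Involves M G := by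
  have e : (f.ker.map S.subtype).subgroupOf S = f.ker := comap_map_eq_self_of_injective S.subtype_injective _
  have hn : ((f.ker.map S.subtype).subgroupOf S).Normal := e.symm ▸ inferInstance
  exact ⟨S, f.ker.map S.subtype, hn,
    ⟨(QuotientGroup.quotientMulEquivOfEq e).trans (QuotientGroup.quotientKerEquivOfSurjective f hf)⟩⟩

/-- Sections of a subgroup or of a homomorphic image are sections. -/
theorem involves_of_subgroup {G M : Type*} [Group G] [Group M] {K : Subgroup G}
    (h : Cfsg.Involves M K) : Cfsg.Involves M G := by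
  obtain ⟨S, R, hn, ⟨e⟩⟩ := h
  let i := S.equivMapOfInjective K.subtype K.subtype_injective
  exact involves_of_surjective (f := e.toMonoidHom.comp ((QuotientGroup.mk' (R.subgroupOf S)).comp i.symm.toMonoidHom))
    (e.surjective.comp ((QuotientGroup.mk'_surjective _).comp i.symm.surjective))

theorem involves_of_hom {G H M : Type*} [Group G] [Group H] [Group M] {π : G →* H}
    (hπ : Function.Surjective π) (h : Cfsg.Involves M H) : Cfsg.Involves M G := by
  obtain ⟨S, R, hn, ⟨e⟩⟩ := h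
  exact involves_of_surjective (f := e.toMonoidHom.comp ((QuotientGroup.mk' (R.subgroupOf S)).comp (π.subgroupComap S)))
    (e.surjective.comp ((QuotientGroup.mk'_surjective _).comp (π.subgroupComap_surjective_of_surjective S hπ)))

theorem involves_qd_of_pair_elem (hp2 : p ≠ 2) {G : Type*} [Group G] [Finite G] {V : Subgroup G} [V.Normal]
    (hVc : ∀ x ∈ V, ∀ y ∈ V, x * y = y * x) (hVp : ∀ x ∈ V, x ^ p = 1) {a b : G}
    (haq : IsQuad V a) (hbq : IsQuad V b) {h : G} (hh : h ∈ Subgroup.closure ({a, b} : Set G))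
    (hne : ∀ k : ℕ, h ^ p ^ k ∉ Subgroup.centralizer (V : Set G)) :
    Cfsg.Involves ↥(Cfsg.qd p) G := by
  set X := Subgroup.closure ({a, b} : Set G) with hX
  letI : CommGroup V :=
    { (inferInstance : Group V) with mul_comm := fun x y => Subtype.ext (hVc x x.2 y y.2) }
  let ψ : X →* MulAut V := (MulAut.conjNormal (H := V)).comp X.subtype
  have ψapp : ∀ (g : X) (x : V), ((ψ g x : V) : G) = g * x * (g : G)⁻¹ := fun g x =>
    MulAut.conjNormal_apply _ _
  have quad : ∀ c : X, IsQuad V (c : G) → ∀ v, ψ c (ψ c v) * v = ψ c v * ψ c v := by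
    intro c hc v
    have hfix : ψ c (v * (ψ c v)⁻¹) = v * (ψ c v)⁻¹ := by
      apply Subtype.ext
      rw [ψapp, Subgroup.coe_mul, Subgroup.coe_inv, ψapp]
      have := hc v v.2
      rw [commutatorElement_eq_one_iff_mul_comm] at this
      have e : ⁅(v : G), (c : G)⁆ = (v : G) * ((c : G) * v * (c : G)⁻¹)⁻¹ := by
        rw [commutatorElement_def]; group
      rw [e] at this
      rw [← this]; group
    rw [map_mul, map_inv, mul_inv_eq_iff_eq_mul, mul_right_comm, eq_mul_inv_iff_mul_eq] at hfix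
    rw [hfix]
    exact mul_comm _ _
  have : Module (ZMod p) (Additive V) := AddCommGroup.zmodModule fun x => by
    apply Additive.toMul.injective
    rw [toMul_nsmul, toMul_zero]
    exact Subtype.ext (hVp _ (Additive.toMul x).2)
  have hgen : Subgroup.closure ({⟨a, Subgroup.subset_closure (Or.inl rfl)⟩,
      ⟨b, Subgroup.subset_closure (Or.inr rfl)⟩} : Set X) = ⊤ := by
    apply Subgroup.map_injective X.subtype_injective
    rw [MonoidHom.map_closure, ← MonoidHom.range_eq_map, Subgroup.range_subtype]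
    simp [Set.image_insert_eq, hX]
  obtain ⟨a', b', ι, j, -, -, hι, hj, ha', hb'⟩ :=
    exists_natural_pair_aux hp2 ψ hgen (quad _ haq) (quad _ hbq) (h := ⟨h, hh⟩) fun k hk => hne k (by
      refine Subgroup.mem_centralizer_iff.2 fun x hx => ?_
      have h1 : ((ψ ((⟨h, hh⟩ : X) ^ p ^ k) ⟨x, hx⟩ : V) : G) = x := by rw [hk]; rfl
      rw [ψapp, SubmonoidClass.coe_pow, mul_inv_eq_iff_eq_mul] at h1
      exact h1.symm)
  -- the group acting naturally on the plane
  set ι₁ : Multiplicative (Fin 2 → ZMod p) →* G := V.subtype.comp ι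
  have hι₁ : Function.Injective ι₁ := V.subtype_injective.comp hι
  let G₁ : Subgroup G :=
    { carrier := {g | ∃ m : Matrix.SpecialLinearGroup (Fin 2) (ZMod p), ∀ x,
        g * ι₁ (Multiplicative.ofAdd x) * g⁻¹ = ι₁ (Multiplicative.ofAdd (m.1 *ᵥ x))}
      one_mem' := ⟨1, fun x => by simp⟩
      mul_mem' := fun {g g'} ⟨m, hm⟩ ⟨m', hm'⟩ => ⟨m * m', fun x => by
        rw [Matrix.SpecialLinearGroup.coe_mul, ← Matrix.mulVec_mulVec, ← hm, ← hm']
        group⟩
      inv_mem' := fun {g} ⟨m, hm⟩ => ⟨m⁻¹, fun x => by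
        have := hm ((m⁻¹).1 *ᵥ x)
        rw [Matrix.mulVec_mulVec, ← Matrix.SpecialLinearGroup.coe_mul, mul_inv_cancel,
          Matrix.SpecialLinearGroup.coe_one, Matrix.one_mulVec] at this
        rw [← this]; group⟩ }
  have huniq : ∀ (g : G) (m m' : Matrix.SpecialLinearGroup (Fin 2) (ZMod p)),
      (∀ x, g * ι₁ (Multiplicative.ofAdd x) * g⁻¹ = ι₁ (Multiplicative.ofAdd (m.1 *ᵥ x))) →
      (∀ x, g * ι₁ (Multiplicative.ofAdd x) * g⁻¹ = ι₁ (Multiplicative.ofAdd (m'.1 *ᵥ x))) → m = m' := by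
    intro g m m' h h'
    apply Subtype.ext
    apply Matrix.toLin'.injective
    exact LinearMap.ext fun x => Multiplicative.ofAdd.injective (hι₁ ((h x).symm.trans (h' x)))
  have hmem : ∀ g : G₁, ∃ m : Matrix.SpecialLinearGroup (Fin 2) (ZMod p), ∀ x,
      (g : G) * ι₁ (Multiplicative.ofAdd x) * (g : G)⁻¹ = ι₁ (Multiplicative.ofAdd (m.1 *ᵥ x)) := fun g => g.2
  choose ρf hρf using hmem
  let ρ : G₁ →* Matrix.SpecialLinearGroup (Fin 2) (ZMod p) :=
    { toFun := ρf
      map_one' := huniq 1 _ 1 (hρf 1) fun x => by simp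
      map_mul' := fun g g' => huniq _ _ _ (hρf (g * g')) fun x => by
        rw [Matrix.SpecialLinearGroup.coe_mul, ← Matrix.mulVec_mulVec, ← hρf, ← hρf, Subgroup.coe_mul]
        group }
  have hιmem : ∀ x, ι₁ x ∈ G₁ := fun x => ⟨1, fun y => by
    rw [mul_inv_eq_iff_eq_mul, ← map_mul]
    simp [← map_mul, mul_comm]⟩
  let ι₂ : Multiplicative (Fin 2 → ZMod p) →* G₁ := ι₁.codRestrict G₁ hιmem
  have hA' : (a' : G) ∈ G₁ ∧ ∀ (hm : (a' : G) ∈ G₁), (ρ ⟨a', hm⟩ : Matrix (Fin 2) (Fin 2) (ZMod p)) = !![1, j; 0, 1] := by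
    have hd : (!![1, j; 0, 1] : Matrix (Fin 2) (Fin 2) (ZMod p)).det = 1 := by simp [Matrix.det_fin_two]
    have h1 : ∀ x, (a' : G) * ι₁ (Multiplicative.ofAdd x) * (a' : G)⁻¹ =
        ι₁ (Multiplicative.ofAdd ((⟨_, hd⟩ : Matrix.SpecialLinearGroup (Fin 2) (ZMod p)).1 *ᵥ x)) := fun x =>
      (ψapp a' _).symm.trans (congrArg Subtype.val (ha' x))
    exact ⟨⟨_, h1⟩, fun hm => congrArg Subtype.val (huniq _ _ _ (hρf ⟨_, hm⟩) h1)⟩
  have hB' : (b' : G) ∈ G₁ ∧ ∀ (hm : (b' : G) ∈ G₁), (ρ ⟨b', hm⟩ : Matrix (Fin 2) (Fin 2) (ZMod p)) = !![1, 0; 1, 1] := by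
    have hd : (!![1, 0; 1, 1] : Matrix (Fin 2) (Fin 2) (ZMod p)).det = 1 := by simp [Matrix.det_fin_two]
    have h1 : ∀ x, (b' : G) * ι₁ (Multiplicative.ofAdd x) * (b' : G)⁻¹ =
        ι₁ (Multiplicative.ofAdd ((⟨_, hd⟩ : Matrix.SpecialLinearGroup (Fin 2) (ZMod p)).1 *ᵥ x)) := fun x =>
      (ψapp b' _).symm.trans (congrArg Subtype.val (hb' x))
    exact ⟨⟨_, h1⟩, fun hm => congrArg Subtype.val (huniq _ _ _ (hρf ⟨_, hm⟩) h1)⟩
  have hsurj : Function.Surjective ρ := by
    have : NeZero p := ⟨hp.out.ne_zero⟩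
    rw [← MonoidHom.range_eq_top, eq_top_iff]
    refine (CfsgLib.Classical.SL_le_of_transvections ρ.range fun i k hik c => ?_).ge
    have pu : ∀ (c : ZMod p) (n : ℕ), (!![1, c; 0, 1] : Matrix (Fin 2) (Fin 2) (ZMod p)) ^ n =
        !![1, (n : ZMod p) * c; 0, 1] := fun c n => by
      induction n with
      | zero => simp [Matrix.one_fin_two]
      | succ n ih => rw [pow_succ, ih]; simp; ring
    have pl : ∀ (c : ZMod p) (n : ℕ), (!![1, 0; c, 1] : Matrix (Fin 2) (Fin 2) (ZMod p)) ^ n =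
        !![1, 0; (n : ZMod p) * c, 1] := fun c n => by
      induction n with
      | zero => simp [Matrix.one_fin_two]
      | succ n ih => rw [pow_succ, ih]; simp; ring
    fin_cases i <;> fin_cases k
    · exact absurd rfl hik
    · refine ⟨⟨a', hA'.1⟩ ^ (c * j⁻¹).val, Subtype.ext ?_⟩
      rw [map_pow, Matrix.SpecialLinearGroup.coe_pow, hA'.2, pu, ZMod.natCast_rightInverse,
        inv_mul_cancel_right₀ hj]
      ext r s
      fin_cases r <;> fin_cases s <;> simp [Matrix.SpecialLinearGroup.transvection, Matrix.transvection]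
    · refine ⟨⟨b', hB'.1⟩ ^ c.val, Subtype.ext ?_⟩
      rw [map_pow, Matrix.SpecialLinearGroup.coe_pow, hB'.2, pl, ZMod.natCast_rightInverse, mul_one]
      ext r s
      fin_cases r <;> fin_cases s <;> simp [Matrix.SpecialLinearGroup.transvection, Matrix.transvection]
    · exact absurd rfl hik
  obtain ⟨S, f, hf⟩ := involves_qd_of_natural hp2 ι₂
    (fun x y e => hι₁ (show ι₁ x = ι₁ y from congrArg (fun z : G₁ => (z : G)) e)) ρ hsurj (fun g x => Subtype.ext (hρf g x))
  exact involves_of_subgroup (involves_of_surjective hf)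

/-- The pair lemma in a group without section `Qd(p)`. -/
theorem exists_pow_mem_centralizer_of_qdFree_pair (hp2 : p ≠ 2) {G : Type*} [Group G] [Finite G]
    (hqd : ¬ Cfsg.Involves ↥(Cfsg.qd p) G) {P : Subgroup G} (hP : IsPGroup p P) {a b : G}
    (ha : a ∈ Subgroup.normalizer (P : Set G)) (hb : b ∈ Subgroup.normalizer (P : Set G))
    (haq : IsQuad P a) (hbq : IsQuad P b) {h : G} (hh : h ∈ Subgroup.closure ({a, b} : Set G)) :
    ∃ k : ℕ, h ^ p ^ k ∈ Subgroup.centralizer (P : Set G) := by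
  set N := Subgroup.normalizer (P : Set G) with hN
  have hPN : P ≤ N := Subgroup.le_normalizer
  set F := (frattini P).map P.subtype with hF
  have hFn : (F.subgroupOf N).Normal := by
    refine ⟨fun x hx g => ?_⟩
    obtain ⟨y, hy, e⟩ := Subgroup.mem_subgroupOf.1 hx
    refine Subgroup.mem_subgroupOf.2 ⟨Subgroup.normalizerMonoidHom P g y, ?_, ?_⟩
    · exact (Subgroup.characteristic_iff_map_eq.1 inferInstance (Subgroup.normalizerMonoidHom P g)).le
        ⟨y, hy, rfl⟩
    · rw [Subgroup.coe_mul, Subgroup.coe_mul, ← e]; rfl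
  set π := QuotientGroup.mk' (F.subgroupOf N)
  have hπ : Function.Surjective π := QuotientGroup.mk'_surjective _
  set V := (P.subgroupOf N).map π
  have hPn : (P.subgroupOf N).Normal := Subgroup.normal_in_normalizer
  have hVn : V.Normal := hPn.map π hπ
  have hmk : ∀ x y : N, (x : G)⁻¹ * y ∈ F → π x = π y := fun x y h =>
    QuotientGroup.eq.2 (Subgroup.mem_subgroupOf.2 h)
  have hVc : ∀ x ∈ V, ∀ y ∈ V, x * y = y * x := by
    rintro _ ⟨x, hx, rfl⟩ _ ⟨y, hy, rfl⟩
    rw [← map_mul, ← map_mul]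
    refine hmk _ _ ⟨(⟨(x : G), hx⟩ * ⟨(y : G), hy⟩)⁻¹ * (⟨(y : G), hy⟩ * ⟨(x : G), hx⟩), ?_, rfl⟩
    exact QuotientGroup.eq.1 (show (((⟨(x : G), hx⟩ : P) * ⟨(y : G), hy⟩ : P) : P ⧸ frattini P) =
      (((⟨(y : G), hy⟩ : P) * ⟨(x : G), hx⟩ : P) : P ⧸ frattini P) from by
        rw [QuotientGroup.mk_mul, QuotientGroup.mk_mul]
        exact CfsgLib.PGroup.quotient_frattini_comm hP _ _)
  have hVp : ∀ x ∈ V, x ^ p = 1 := by
    rintro _ ⟨x, hx, rfl⟩
    rw [← map_pow, ← map_one π]
    refine (hmk 1 _ ?_).symm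
    refine ⟨(1 : P)⁻¹ * (⟨(x : G), hx⟩ : P) ^ p, ?_, by simp⟩
    exact QuotientGroup.eq.1
      (CfsgLib.PGroup.quotient_frattini_pow hP ((⟨(x : G), hx⟩ : P) : P ⧸ frattini P)).symm
  have quad : ∀ c : N, IsQuad P (c : G) → IsQuad V (π c) := by
    rintro c hc _ ⟨x, hx, rfl⟩
    rw [← map_commutatorElement, ← map_commutatorElement, ← map_one π]
    exact congrArg π (Subtype.ext (by simpa [commutatorElement_def] using hc x hx))
  have hhN : h ∈ N := (Subgroup.closure_le _).2 (by rintro _ (rfl | rfl) <;> assumption) hh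
  obtain ⟨k, hk⟩ : ∃ k, π ⟨h, hhN⟩ ^ p ^ k ∈ Subgroup.centralizer (V : Set (N ⧸ F.subgroupOf N)) := by
    by_contra hne
    push Not at hne
    refine hqd (involves_of_subgroup (involves_of_hom hπ
      (involves_qd_of_pair_elem hp2 hVc hVp (quad ⟨a, ha⟩ haq) (quad ⟨b, hb⟩ hbq)
        (h := π ⟨h, hhN⟩) ?_ hne)))
    · have e : (Subgroup.closure ({a, b} : Set G)).subgroupOf N = Subgroup.closure {⟨a, ha⟩, ⟨b, hb⟩} := by
        refine Subgroup.map_injective N.subtype_injective ?_
        rw [Subgroup.subgroupOf_map_subtype, MonoidHom.map_closure, inf_eq_left.2]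
        · simp [Set.image_insert_eq]
        · exact (Subgroup.closure_le _).2 (by rintro _ (rfl | rfl) <;> assumption)
      rw [show ({π ⟨a, ha⟩, π ⟨b, hb⟩} : Set (N ⧸ F.subgroupOf N)) = π '' {⟨a, ha⟩, ⟨b, hb⟩} from
        (Set.image_pair π _ _).symm, ← MonoidHom.map_closure, ← e]
      exact ⟨_, Subgroup.mem_subgroupOf.2 hh, rfl⟩
  -- pass to the `p'`-part
  obtain ⟨i, m, hm, hord⟩ := Nat.exists_eq_pow_mul_and_not_dvd (orderOf_pos h).ne' p hp.out.one_lt.ne'
  refine ⟨k + i, mem_centralizer_of_frattini hP (Subgroup.pow_mem _ hhN _) ?_ fun x hx => ?_⟩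
  · refine Nat.Coprime.coprime_dvd_left (k := m) ?_ (Nat.Coprime.symm (hp.out.coprime_iff_not_dvd.2 hm))
    apply orderOf_dvd_of_pow_eq_one
    rw [← pow_mul, pow_add, mul_assoc, ← hord, pow_mul', pow_orderOf_eq_one, one_pow]
  · set g : N := ⟨h, hhN⟩ ^ p ^ (k + i) with hg
    have h1 : π g ∈ Subgroup.centralizer (V : Set (N ⧸ F.subgroupOf N)) := by
      rw [hg, pow_add, pow_mul, map_pow, map_pow]
      exact pow_mem hk _
    have h2 : π ⁅g, ⟨x, hPN hx⟩⁆ = 1 := by
      rw [map_commutatorElement, commutatorElement_eq_one_iff_mul_comm]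
      exact (Subgroup.mem_centralizer_iff.1 h1 _ ⟨_, hx, rfl⟩).symm
    have h3 := Subgroup.mem_subgroupOf.1 ((QuotientGroup.eq_one_iff _).1 h2)
    simp only [hg, commutatorElement_def, Subgroup.coe_mul, Subgroup.coe_inv, SubmonoidClass.coe_pow] at h3 ⊢
    exact h3

/-- The criterion: all pairs of conjugates act as `p`-groups. -/
theorem inCoreAct_of_pairs {G : Type*} [Group G] [Finite G] {N P : Subgroup G} (_hP : IsPGroup p P)
    (hN : N ≤ Subgroup.normalizer (P : Set G)) {a : G} (ha : a ∈ N)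
    (hpairs : ∀ g ∈ N, ∀ h : G, h ∈ Subgroup.closure ({a, g * a * g⁻¹} : Set G) →
      ∃ k : ℕ, h ^ p ^ k ∈ Subgroup.centralizer (P : Set G)) :
    InCoreAct p N P a := by
  classical
  set C := (Subgroup.centralizer (P : Set G)).subgroupOf N with hC
  have : C.Normal := by
    constructor
    intro c hc g
    rw [hC, Subgroup.mem_subgroupOf, Subgroup.mem_centralizer_iff] at hc ⊢
    intro x hx
    have h1 := hc _ ((Subgroup.mem_normalizer_iff''.1 (hN g.2) x).1 hx)
    simp only [Subgroup.coe_mul, Subgroup.coe_inv]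
    calc x * ((g : G) * c * (g : G)⁻¹) = g * (((g : G)⁻¹ * x * g) * c) * (g : G)⁻¹ := by group
      _ = g * c * (g : G)⁻¹ * x := by rw [h1]; group
  set f := QuotientGroup.mk' C
  have hpair : ∀ g : N, ∀ h : G, ∀ hh : h ∈ N,
      h ∈ Subgroup.closure ({a, (g : G) * a * (g : G)⁻¹} : Set G) → ∃ k : ℕ, f ⟨h, hh⟩ ^ p ^ k = 1 := by
    intro g h hh hmem
    obtain ⟨k, hk⟩ := hpairs g g.2 h hmem
    refine ⟨k, ?_⟩
    rw [← map_pow]
    exact (QuotientGroup.eq_one_iff _).2 (Subgroup.mem_subgroupOf.2 (by simpa using hk))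
  set X := Subgroup.zpowers (f ⟨a, ha⟩)
  have hgen : ∀ q : N ⧸ C, IsPGroup p ↥(X ⊔ X.map (MulAut.conj q).toMonoidHom) := by
    intro q
    obtain ⟨g, rfl⟩ := QuotientGroup.mk'_surjective C q
    set S := Subgroup.closure ({a, (g : G) * a * (g : G)⁻¹} : Set G)
    have hle : X ⊔ X.map (MulAut.conj (f g)).toMonoidHom ≤ (S.subgroupOf N).map f := by
      refine sup_le ?_ ?_
      · rw [Subgroup.zpowers_le]
        exact ⟨⟨a, ha⟩, Subgroup.subset_closure (Or.inl rfl), rfl⟩
      · rw [Subgroup.map_le_iff_le_comap, Subgroup.zpowers_le, Subgroup.mem_comap]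
        refine ⟨g * ⟨a, ha⟩ * g⁻¹, ?_, ?_⟩
        · exact Subgroup.mem_subgroupOf.2 (Subgroup.subset_closure (Or.inr (by simp)))
        · simp
    refine IsPGroup.to_le ?_ hle
    rintro ⟨y, ⟨h, hh, rfl⟩⟩
    obtain ⟨k, hk⟩ := hpair g h h.2 hh
    exact ⟨k, Subtype.ext hk⟩
  have hX : IsPGroup p X := (hgen 1).to_le le_sup_left
  obtain ⟨M, hMn, hMp, hXM⟩ := CfsgLib.Invol.baer_suzuki X hX hgen
  refine ⟨(M.comap f).map N.subtype, Subgroup.map_subtype_le _, ?_, ?_, ?_⟩
  · intro g hg
    rw [Subgroup.mem_normalizer_iff]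
    intro x
    have hn : (M.comap f).Normal := hMn.comap f
    constructor
    · rintro ⟨y, hy, rfl⟩
      exact ⟨⟨g, hg⟩ * y * ⟨g, hg⟩⁻¹, hn.conj_mem y hy _, rfl⟩
    · rintro ⟨y, hy, hxy⟩
      refine ⟨⟨g, hg⟩⁻¹ * y * ⟨g, hg⟩, by simpa using hn.conj_mem y hy ⟨g, hg⟩⁻¹, ?_⟩
      rw [Subgroup.subtype_apply] at hxy
      simp [hxy, mul_assoc]
  · exact ⟨⟨a, ha⟩, hXM (Subgroup.mem_zpowers _), rfl⟩
  · rintro _ ⟨y, hy, rfl⟩
    obtain ⟨n, hn⟩ := hMp ⟨f y, hy⟩
    refine ⟨n, ?_⟩
    have h1 : f (y ^ p ^ n) = 1 := by rw [map_pow]; exact congrArg Subtype.val hn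
    have := Subgroup.mem_subgroupOf.1 ((QuotientGroup.eq_one_iff _).1 h1)
    simpa using this

/-- `Qd(p)`-free groups are stable. -/
theorem stableAll_of_qdFree (hp2 : p ≠ 2) {G : Type*} [Group G] [Finite G]
    (hqd : ¬ Cfsg.Involves ↥(Cfsg.qd p) G) : StableAll p G := fun _ hP _ ha hq =>
  inCoreAct_of_pairs hP le_rfl ha fun g hg _ hh =>
    exists_pow_mem_centralizer_of_qdFree_pair hp2 hqd hP ha
      (mul_mem (mul_mem hg ha) (inv_mem hg)) hq (isQuad_conj hg hq) hh

end CfsgLib.PStab
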