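import Cfsg.Agent.Lib.PStab.Control

/-!
Control of fusion by the normaliser of `Z(J(S))` when only the normalisers of the subgroups between `Z(S)`
and `S` are stable.
-/

set_option autoImplicit false

namespace CfsgLib.PStab

open Cfsg Subgroup
open CfsgLib.Fusion (conjSub conjSub_conjSub conjSub_one conjSub_mono card_conjSub conj_mem_conjSub
  conjSub_eq_iff_mem_normalizer mem_conjSub)
open CfsgLib.Techniques.Functor (Full Agree LocalAt exists_full full_of_le exists_move conjSub_norm_le lt_norm
  card_lt_of_lt conjSub_normalizer exists_conjSub_eq)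
open scoped commutatorElement

variable {G : Type*} [Group G] [Finite G] {p : ℕ} [hp : Fact p.Prime] (S : Sylow p G)

/-- Local-to-global with a movable class of good subgroups and a handler for the others. -/
theorem local_global_good (Φ : Subgroup G → G → Prop) (good : Subgroup G → Prop)
    (hres : ∀ {A B : Subgroup G} {g : G}, B ≤ A → Φ A g → Φ B g)
    (htrans : ∀ {A : Subgroup G} {g h : G}, Φ A g → Φ (conjSub g A) h → Φ A (h * g))
    (hmove : ∀ X u, good X → conjSub u ((S : Subgroup G) ⊓ normalizer (X : Set G)) ≤ (S : Subgroup G) →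
      good (conjSub u X))
    (htop : ∀ g ∈ normalizer ((S : Subgroup G) : Set G), Φ (S : Subgroup G) g)
    (hbad : ∀ X ≤ (S : Subgroup G), Full p (S : Subgroup G) X → ¬ good X →
      (∀ B g, B ≤ (S : Subgroup G) → conjSub g B ≤ (S : Subgroup G) → Nat.card X < Nat.card B → Φ B g) →
      ∀ x ∈ normalizer (X : Set G), Φ X x)
    (hloc : ∀ X ≤ (S : Subgroup G), good X → Full p (S : Subgroup G) X →
      (∀ Y ≤ (S : Subgroup G), good Y →
        Nat.card ↥((S : Subgroup G) ⊓ normalizer (X : Set G)) <
          Nat.card ↥((S : Subgroup G) ⊓ normalizer (Y : Set G)) → LocalAt Φ (S : Subgroup G) Y) →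
      LocalAt Φ (S : Subgroup G) X) :
    ∀ A g, A ≤ (S : Subgroup G) → conjSub g A ≤ (S : Subgroup G) → Φ A g := by
  set s := Nat.card ↥(S : Subgroup G) with hs
  have hcS : ∀ X : Subgroup G, Nat.card ↥((S : Subgroup G) ⊓ normalizer (X : Set G)) ≤ s :=
    fun X => card_le_of_le inf_le_left
  suffices key : ∀ d,
      (∀ A g, A ≤ (S : Subgroup G) → conjSub g A ≤ (S : Subgroup G) → s - Nat.card A = d → Φ A g) ∧
      (∀ X ≤ (S : Subgroup G), good X →
        s - Nat.card ↥((S : Subgroup G) ⊓ normalizer (X : Set G)) = d →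
        LocalAt Φ (S : Subgroup G) X) from fun A g hA hg => (key _).1 A g hA hg rfl
  intro d
  induction d using Nat.strong_induction_on with
  | _ d ih =>
    have hP : ∀ A g, A ≤ (S : Subgroup G) → conjSub g A ≤ (S : Subgroup G) → s - Nat.card A = d →
        Φ A g := by
      intro A g hA hgA hd
      rcases eq_or_lt_of_le hA with rfl | hlt
      · exact htop g (conjSub_eq_iff_mem_normalizer.1 (eq_of_le_of_card_ge hgA (card_conjSub g _).ge))
      set B := conjSub g A with hB
      have hBlt : B < (S : Subgroup G) := lt_of_le_of_ne hgA fun he => hlt.ne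
        (eq_of_le_of_card_ge hlt.le (by rw [← card_conjSub g A, ← hB, he]))
      obtain ⟨u, huS, hu, huN⟩ := exists_full S hA
      obtain ⟨w, hw, hwN⟩ := exists_move S (X := B) (u := u * g⁻¹) (by
        rw [hB, conjSub_conjSub, inv_mul_cancel_right]; exact hu)
      rw [hB, conjSub_conjSub (u * g⁻¹), inv_mul_cancel_right, ← hB] at hw hwN
      have hcA := card_lt_of_lt (lt_norm S.2 hlt)
      have hcB := card_lt_of_lt (lt_norm S.2 hBlt)
      rw [hB, card_conjSub] at hcB
      have h1 : Φ A u := hres (le_inf hA le_normalizer)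
        ((ih (s - Nat.card ↥((S : Subgroup G) ⊓ normalizer (A : Set G)))
          (by have := hcS A; omega)).1 _ u inf_le_left huN rfl)
      set x := w * g * u⁻¹ with hx
      have hxN : x ∈ normalizer ((conjSub u A : Subgroup G) : Set G) := by
        rw [← conjSub_eq_iff_mem_normalizer, hx, conjSub_conjSub, inv_mul_cancel_right,
          ← conjSub_conjSub, ← hB, hw]
      have hcA' : Nat.card A < Nat.card ↥((S : Subgroup G) ⊓
          normalizer ((conjSub u A : Subgroup G) : Set G)) :=
        hcA.trans_le (by rw [← card_conjSub u]; exact card_le_of_le (conjSub_norm_le huN))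
      have h2 : Φ (conjSub u A) x := by
        by_cases hg' : good (conjSub u A)
        · exact (ih (s - Nat.card ↥((S : Subgroup G) ⊓ normalizer ((conjSub u A : Subgroup G) : Set G)))
            (by have := hcS (conjSub u A); omega)).2 _ huS hg' rfl _ x hxN
            (le_inf huS le_normalizer)
            ((conjSub_eq_iff_mem_normalizer.2 hxN).le.trans (le_inf huS le_normalizer))
        · refine hbad _ huS hu hg' (fun C h hC hhC hlt' => ?_) x hxN
          rw [card_conjSub] at hlt'
          exact (ih (s - Nat.card C) (by have := card_le_of_le hC; omega)).1 C h hC hhC rfl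
      have h3 : Φ (conjSub u A) w⁻¹ := by
        set D := conjSub w ((S : Subgroup G) ⊓ normalizer (B : Set G)) with hD
        have hDc : Nat.card D = Nat.card ↥((S : Subgroup G) ⊓ normalizer (B : Set G)) :=
          card_conjSub _ _
        refine hres (A := D) ?_ ((ih (s - Nat.card D) ?_).1 D w⁻¹ (hwN.trans inf_le_left) ?_ rfl)
        · rw [hD, ← hw]; exact conjSub_mono w (le_inf hgA le_normalizer)
        · have := hcS B; rw [hB] at this hDc; omega
        · rw [hD, conjSub_conjSub, inv_mul_cancel, conjSub_one]; exact inf_le_left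
      have h4 : Φ A (w⁻¹ * (x * u)) := by
        refine htrans (htrans h1 h2) ?_
        rw [← conjSub_conjSub, conjSub_eq_iff_mem_normalizer.2 hxN]
        exact h3
      rwa [hx, inv_mul_cancel_right, inv_mul_cancel_left] at h4
    refine ⟨hP, fun X hX hXg hd => ?_⟩
    obtain ⟨u, huS, hu, huN⟩ := exists_full S hX
    have hle := conjSub_norm_le huN
    have hstar : LocalAt Φ (S : Subgroup G) (conjSub u X) := by
      have hc : Nat.card ↥((S : Subgroup G) ⊓ normalizer (X : Set G)) ≤
          Nat.card ↥((S : Subgroup G) ⊓ normalizer ((conjSub u X : Subgroup G) : Set G)) := by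
        rw [← card_conjSub u]; exact card_le_of_le hle
      refine hloc _ huS (hmove X u hXg huN) hu fun Y hY hYg hlt => (ih _ ?_).2 Y hY hYg rfl
      have := hcS Y; omega
    intro A n hn hA hnA
    have h1 : Φ A u := hres hA (hP _ u inf_le_left huN hd)
    have hn' : u * n * u⁻¹ ∈ normalizer ((conjSub u X : Subgroup G) : Set G) := by
      rw [← conjSub_normalizer]; exact conj_mem_conjSub hn
    have h2 : Φ (conjSub u A) (u * n * u⁻¹) := hstar _ _ hn' ((conjSub_mono u hA).trans hle) (by
      rw [conjSub_conjSub, inv_mul_cancel_right, ← conjSub_conjSub]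
      exact (conjSub_mono u hnA).trans hle)
    have h3 : Φ (conjSub (u * n * u⁻¹) (conjSub u A)) u⁻¹ := by
      refine hres (A := conjSub u ((S : Subgroup G) ⊓ normalizer (X : Set G))) ?_
        (hP _ u⁻¹ huN ?_ (by rw [card_conjSub]; exact hd))
      · rw [conjSub_conjSub, inv_mul_cancel_right, ← conjSub_conjSub]
        exact conjSub_mono u hnA
      · rw [conjSub_conjSub, inv_mul_cancel, conjSub_one]; exact inf_le_left
    have h4 : Φ A (u⁻¹ * (u * n * u⁻¹ * u)) := by
      refine htrans (htrans h1 h2) ?_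
      rwa [← conjSub_conjSub]
    rwa [inv_mul_cancel_right, inv_mul_cancel_left] at h4

/-- Central elements of `E` lie in `Z(J(E))`. -/
theorem mem_zjGen_of_central {E : Subgroup G} {x : G} (hx : x ∈ E)
    (hc : x ∈ centralizer (E : Set G)) : x ∈ zjGen 0 E := by
  have hone : x ^ 0 = 1 := pow_zero x
  have hAx : ∀ A ∈ maxAdm 0 E, x ∈ A := fun A hA =>
    mem_of_commute_maxAdm (p := 0) (Or.inl rfl) hA hx hone fun a ha => (mem_centralizer_iff.1 hc a (hA.1 ha)).symm
  obtain ⟨A, hA⟩ := maxAdm_nonempty 0 E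
  exact ⟨le_jGen hA (hAx A hA), mem_centralizer_iff.2 fun y hy => mem_centralizer_iff.1 hc y (jGen_le 0 E hy)⟩

/-- Control of fusion from stability of the normalisers of the subgroups above `Z(S)`. -/
theorem control_of_local_stable (hp2 : p ≠ 2)
    (hst : ∀ X : Subgroup G, (S : Subgroup G) ⊓ centralizer ((S : Subgroup G) : Set G) ≤ X →
      X ≤ (S : Subgroup G) → StableAll p ↥(normalizer (X : Set G))) :
    ∀ A g, A ≤ (S : Subgroup G) → conjSub g A ≤ (S : Subgroup G) →
      ∃ m ∈ normalizer (zjGen 0 (S : Subgroup G) : Set G), Agree A m g := by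
  set Z := (S : Subgroup G) ⊓ centralizer ((S : Subgroup G) : Set G) with hZ
  set W := zjGen 0 (S : Subgroup G) with hW
  refine local_global_good S (fun A g => ∃ m ∈ normalizer (W : Set G), Agree A m g)
    (fun X => ∀ u, conjSub u ((S : Subgroup G) ⊓ normalizer (X : Set G)) ≤ (S : Subgroup G) →
      Z ≤ conjSub u X) ?_ ?_ ?_ ?_ ?_ ?_
  · rintro A B g hBA ⟨m, hm, hag⟩
    exact ⟨m, hm, hag.mono hBA⟩
  · rintro A g h ⟨m, hm, hag⟩ ⟨m2, hm2, hag2⟩
    exact ⟨m2 * m, mul_mem hm2 hm, hag.mul hag2⟩
  · intro X u hX hu v hv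
    rw [conjSub_conjSub]
    refine hX _ ?_
    rw [← conjSub_conjSub]
    exact (conjSub_mono v (conjSub_norm_le hu)).trans hv
  · exact fun g hg => ⟨g, normalizer_le_normalizer_zjGen 0 _ hg, Agree.refl _ g⟩
  · intro X hX hfull hbad ih x hx
    set N := normalizer (X : Set G) with hN
    set C := centralizer (X : Set G) with hC
    have hCN : C ≤ N := centralizer_le_normalizer _
    have hXp : IsPGroup p X := S.2.to_le hX
    set T1 := (S : Subgroup G) ⊓ C with hT1
    have hconjC : ∀ n ∈ N, conjSub n C = C := by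
      intro n hn
      refine conjSub_eq_iff_mem_normalizer.2 (CfsgLib.Solvable.mem_normalizer_of_conj_mem fun c hc => ?_)
      refine mem_centralizer_iff.2 fun y hy => ?_
      have h1 := mem_centralizer_iff.1 hc _ ((mem_normalizer_iff''.1 hn y).1 hy)
      calc y * (n * c * n⁻¹) = n * ((n⁻¹ * y * n) * c) * n⁻¹ := by group
        _ = _ := by rw [h1]; group
    -- `S ⊓ C` is a Sylow subgroup of `C`
    have hT1i : ¬ p ∣ T1.relIndex C := by
      obtain ⟨R, hR⟩ := ((S.2.to_le (inf_le_left : T1 ≤ S)).of_equiv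
        (subgroupOfEquivOfLe (inf_le_right : T1 ≤ C)).symm).exists_le_sylow
      set R' := (R : Subgroup C).map C.subtype with hR'
      obtain ⟨n, hn, hm⟩ := CfsgLib.Fusion.exists_conj_mem_of_le (R.2.map C.subtype) (S.2.to_le inf_le_left)
        (show R' ≤ N from (map_subtype_le _).trans hCN) (inf_le_right : (S : Subgroup G) ⊓ N ≤ N) hfull
      have hle : conjSub n R' ≤ T1 := by
        rintro _ ⟨y, hy, rfl⟩
        refine mem_inf.2 ⟨(hm y hy).1, ?_⟩
        rw [← hconjC n hn]
        exact conj_mem_conjSub (map_subtype_le _ hy)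
      have hTR : T1 ≤ R' := fun y hy => mem_map.2 ⟨⟨y, hy.2⟩, hR hy, rfl⟩
      have : T1 = R' := eq_of_le_of_card_ge hTR (by rw [← card_conjSub n R']; exact card_le_of_le hle)
      rw [this]
      show ¬ p ∣ (R'.subgroupOf C).index
      rw [show R'.subgroupOf C = (R : Subgroup C) from comap_map_eq_self_of_injective C.subtype_injective _]
      exact R.not_dvd_index
    have hnle : ¬ T1 ≤ X := by
      intro hle
      apply hbad
      intro v hv z hz
      have hXv : conjSub v X ≤ (S : Subgroup G) := (conjSub_mono v (le_inf hX le_normalizer)).trans hv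
      have hzC : v⁻¹ * z * v ∈ C := mem_centralizer_iff.2 fun y hy => by
        have := mem_centralizer_iff.1 hz.2 _ (hXv (conj_mem_conjSub hy))
        calc y * (v⁻¹ * z * v) = v⁻¹ * ((v * y * v⁻¹) * z) * v := by group
          _ = _ := by rw [this]; group
      obtain ⟨c, hc, hcm⟩ := CfsgLib.Fusion.exists_conj_mem_of_le
        (((S.2.to_le (inf_le_left : Z ≤ S)).map (MulAut.conj v⁻¹).toMonoidHom).to_le
          (zpowers_le.2 (mem_map.2 ⟨z, hz, by simp⟩) : zpowers (v⁻¹ * z * v) ≤ _))
        (S.2.to_le (inf_le_left : T1 ≤ S)) (zpowers_le.2 hzC) inf_le_right hT1i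
      have h1 : c * (v⁻¹ * z * v) * c⁻¹ ∈ X := hle (hcm _ (mem_zpowers _))
      have h2 : c * (v⁻¹ * z * v) * c⁻¹ * c = c * (c * (v⁻¹ * z * v) * c⁻¹) :=
        mem_centralizer_iff.1 hc _ h1
      have h3 : v⁻¹ * z * v = c * (v⁻¹ * z * v) * c⁻¹ := by
        calc v⁻¹ * z * v = c⁻¹ * (c * (v⁻¹ * z * v) * c⁻¹ * c) := by group
          _ = _ := by rw [h2]; group
      rw [← h3] at h1
      exact ⟨v⁻¹ * z * v, h1, by simp [mul_assoc]⟩
    -- Frattini
    obtain ⟨c, hc, e⟩ := exists_conjSub_eq (H := C) (T := conjSub x T1) (R := T1)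
      ((S.2.to_le inf_le_left).map _) (by rw [← hconjC x hx]; exact conjSub_mono x inf_le_right)
      (by
        have h := CfsgLib.Fusion.not_dvd_relIndex_map (MulAut.conj x).toMonoidHom (inf_le_right : T1 ≤ C) hT1i
        rwa [show C.map (MulAut.conj x).toMonoidHom = C from hconjC x hx] at h)
      (S.2.to_le inf_le_left) inf_le_right hT1i
    set T := X ⊔ T1 with hT
    have hTS : T ≤ (S : Subgroup G) := sup_le hX inf_le_left
    have hlt : Nat.card X < Nat.card T :=
      card_lt_of_lt (lt_of_le_not_ge le_sup_left fun hle => hnle (le_sup_right.trans hle))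
    have hmX : conjSub (c * x) X = X := by
      rw [← conjSub_conjSub, conjSub_eq_iff_mem_normalizer.2 hx, conjSub_eq_iff_mem_normalizer.2 (hCN hc)]
    have hmT : conjSub (c * x) T ≤ (S : Subgroup G) := by
      rw [hT, CfsgLib.Techniques.Functor.conjSub_sup, hmX, ← conjSub_conjSub, e]
      exact hTS
    obtain ⟨m, hm, hag⟩ := ih T (c * x) hTS hmT hlt
    refine ⟨m, hm, fun a ha => ?_⟩
    rw [hag a (mem_sup_left ha)]
    have h1 : x * a * x⁻¹ ∈ X := (mem_normalizer_iff.1 hx a).1 ha
    calc c * x * a * (c * x)⁻¹ = c * (x * a * x⁻¹) * c⁻¹ := by group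
      _ = _ := by rw [← mem_centralizer_iff.1 hc _ h1, mul_inv_cancel_right]
  · intro X hX hgood hfull ih A n hn hA hnA
    set N := normalizer (X : Set G) with hN
    set Q := (S : Subgroup G) ⊓ N with hQ
    have hZX : Z ≤ X := by
      have := hgood 1 (by rw [conjSub_one]; exact inf_le_left)
      rwa [conjSub_one] at this
    let T : Sylow p N := IsPGroup.toSylow
      ((S.2.to_le (inf_le_left : Q ≤ S)).of_equiv (subgroupOfEquivOfLe (inf_le_right : Q ≤ N)).symm) hfull
    have hT : (T : Subgroup N) = Q.subgroupOf N := IsPGroup.toSylow_coe _ _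
    obtain ⟨m', hm', hag'⟩ := control_of_stableAll hp2 (hst X hZX hX) (Or.inl rfl) T
      (D := (T : Subgroup N)) ⟨le_rfl, fun _ _ _ h => h⟩ (A.subgroupOf N) ⟨n, hn⟩
      (by rw [hT]; exact comap_mono hA) (by
        rintro _ ⟨a, ha, rfl⟩
        rw [hT, mem_subgroupOf]
        exact hnA (conj_mem_conjSub (g := n) (mem_subgroupOf.1 ha)))
    set Y := zjGen 0 Q with hY
    have hWY : Y = (zjGen 0 (T : Subgroup N)).map N.subtype := by
      rw [hY, hT, ← zjGen_map N.subtype_injective, subgroupOf_map_subtype, inf_eq_left.2 inf_le_right]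
    have hm'Y : (m' : G) ∈ normalizer (Y : Set G) := by
      rw [hWY]; exact le_normalizer_map N.subtype ⟨m', hm', rfl⟩
    have hag : Agree A (m' : G) n := fun a ha => by
      simpa using congrArg Subtype.val (hag' ⟨a, (hA ha).2⟩ (mem_subgroupOf.2 ha))
    rcases eq_or_lt_of_le (inf_le_left : Q ≤ (S : Subgroup G)) with heq | hlt
    · exact ⟨m', by rw [hW, ← show Q = (S : Subgroup G) from heq]; exact hm'Y, hag⟩
    have hle : (S : Subgroup G) ⊓ normalizer (Q : Set G) ≤ (S : Subgroup G) ⊓ normalizer (Y : Set G) :=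
      inf_le_inf le_rfl (normalizer_le_normalizer_zjGen 0 Q)
    have hQY : Q ≤ (S : Subgroup G) ⊓ normalizer (Y : Set G) := (le_inf inf_le_left le_normalizer).trans hle
    have hcard : Nat.card Q < Nat.card ↥((S : Subgroup G) ⊓ normalizer (Y : Set G)) :=
      (card_lt_of_lt (lt_norm S.2 hlt)).trans_le (card_le_of_le hle)
    have hgY : ∀ u, conjSub u ((S : Subgroup G) ⊓ normalizer (Y : Set G)) ≤ (S : Subgroup G) →
        Z ≤ conjSub u Y := by
      intro u hu z hz
      have huQ : conjSub u Q ≤ (S : Subgroup G) := (conjSub_mono u hQY).trans hu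
      have hzQ : z ∈ conjSub u Q := conjSub_mono u (le_inf hX le_normalizer) (hgood u huQ hz)
      have hYmap : conjSub u Y = zjGen 0 (conjSub u Q) :=
        (zjGen_map (f := (MulAut.conj u).toMonoidHom) (MulAut.conj u).injective Q).symm
      rw [hYmap]
      exact mem_zjGen_of_central hzQ (mem_centralizer_iff.2 fun y hy => mem_centralizer_iff.1 hz.2 y (huQ hy))
    obtain ⟨m2, hm2, hag2⟩ := ih Y ((zjGen_le 0 Q).trans inf_le_left) hgY hcard A m' hm'Y (hA.trans hQY)
      ((hag.conjSub_eq.le.trans hnA).trans hQY)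
    exact ⟨m2, hm2, hag2.trans hag⟩

end CfsgLib.PStab
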