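import Cfsg.Agent.Lib.OddLocal.Puig
import Cfsg.Agent.Lib.PStab.Stable
import Cfsg.Agent.Lib.Components.OmegaFixed
import Cfsg.Agent.Lib.Cores.Basic
import Cfsg.Agent.Lib.Solvable.Fitting
import Cfsg.Agent.Lib.Fusion.GroupSystem

/-!
The Puig series of a subgroup inside an ambient group and the Puig replacement of `ZJ` in groups of odd order.
-/

set_option autoImplicit false

namespace CfsgLib.PStab.Puig

open Cfsg Subgroup
open scoped commutatorElement

universe u v

variable {G : Type u} [Group G] {H : Type v} [Group H]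

/-- The relative step: the abelian subgroups of `S` normalized by `X`. -/
def step (S X : Subgroup G) : Subgroup G :=
  sSup {A : Subgroup G | A ≤ S ∧ IsMulCommutative A ∧ X ≤ normalizer (A : Set G)}

/-- The Puig series of a subgroup. -/
def pseq (S : Subgroup G) : ℕ → Subgroup G
  | 0 => ⊥
  | n + 1 => step S (pseq S n)

/-- `L_*(S)`. -/
def pLow (S : Subgroup G) : Subgroup G := ⨆ n : ℕ, pseq S (2 * n)

/-- `L(S)`. -/
def pUp (S : Subgroup G) : Subgroup G := ⨅ n : ℕ, pseq S (2 * n + 1)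

/-- `Z(L(S))`. -/
def pZ (S : Subgroup G) : Subgroup G := pUp S ⊓ centralizer (pUp S : Set G)

theorem step_le (S X : Subgroup G) : step S X ≤ S := sSup_le fun _ hA => hA.1

theorem le_step {S X A : Subgroup G} (hA : A ≤ S) (hc : IsMulCommutative A)
    (hX : X ≤ normalizer (A : Set G)) : A ≤ step S X := le_sSup ⟨hA, hc, hX⟩

theorem pseq_le (S : Subgroup G) : ∀ n, pseq S n ≤ S
  | 0 => bot_le
  | _ + 1 => step_le _ _

theorem normalizer_le_normalizer_map {f : G →* H} (hf : Function.Injective f) {X A : Subgroup G}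
    (h : X.map f ≤ normalizer ((A.map f : Subgroup H) : Set H)) : X ≤ normalizer (A : Set G) := by
  intro x hx
  rw [mem_normalizer_iff]
  intro a
  have h1 := mem_normalizer_iff.1 (h (mem_map_of_mem f hx)) (f a)
  rw [← map_inv, ← map_mul, ← map_mul] at h1
  rwa [mem_map_iff_mem hf, mem_map_iff_mem hf] at h1

theorem puigStep_map {f : G →* H} (hf : Function.Injective f) (X : Subgroup G) :
    (puigStep X).map f = step ((⊤ : Subgroup G).map f) (X.map f) := by
  refine le_antisymm ?_ (sSup_le ?_)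
  · rw [map_le_iff_le_comap]
    refine sSup_le ?_
    rintro A ⟨hAc, hXA⟩
    rw [← map_le_iff_le_comap]
    refine le_step (map_mono le_top) ⟨⟨?_⟩⟩ ((map_mono hXA).trans (le_normalizer_map f))
    rintro ⟨_, a, ha, rfl⟩ ⟨_, b, hb, rfl⟩
    refine Subtype.ext (?_ : f a * f b = f b * f a)
    rw [← map_mul, ← map_mul]
    exact congrArg f (congrArg Subtype.val (hAc.is_comm.comm ⟨a, ha⟩ ⟨b, hb⟩))
  · rintro A ⟨hA, hAc, hXA⟩
    have hAr : A ≤ f.range := hA.trans (map_le_range f ⊤)
    rw [← map_comap_eq_self hAr]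
    refine map_mono (le_sSup ⟨⟨⟨?_⟩⟩, normalizer_le_normalizer_map hf ?_⟩)
    · rintro ⟨a, ha⟩ ⟨b, hb⟩
      refine Subtype.ext (hf ?_)
      show f (a * b) = f (b * a)
      rw [map_mul, map_mul]
      exact congrArg Subtype.val (hAc.is_comm.comm ⟨f a, ha⟩ ⟨f b, hb⟩)
    · rwa [map_comap_eq_self hAr]

theorem puigSeq_map {f : G →* H} (hf : Function.Injective f) :
    ∀ n, (puigSeq G n).map f = pseq ((⊤ : Subgroup G).map f) n
  | 0 => Subgroup.map_bot f
  | n + 1 => by
    show (puigStep (puigSeq G n)).map f = step _ (pseq _ n)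
    rw [puigStep_map hf, puigSeq_map hf n]

theorem puigLower_map {f : G →* H} (hf : Function.Injective f) :
    (puigLower G).map f = pLow ((⊤ : Subgroup G).map f) := by
  rw [puigLower, Subgroup.map_iSup]
  exact iSup_congr fun n => puigSeq_map hf _

theorem puigSubgroup_map {f : G →* H} (hf : Function.Injective f) :
    (puigSubgroup G).map f = pUp ((⊤ : Subgroup G).map f) := by
  rw [puigSubgroup, Subgroup.map_iInf f hf]
  exact iInf_congr fun n => puigSeq_map hf _

theorem top_map_subtype (S : Subgroup G) : (⊤ : Subgroup S).map S.subtype = S := by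
  rw [← MonoidHom.range_eq_map, range_subtype]

theorem puigSubgroup_map_subtype (S : Subgroup G) : (puigSubgroup S).map S.subtype = pUp S := by
  rw [puigSubgroup_map S.subtype_injective, top_map_subtype]

theorem puigLower_map_subtype (S : Subgroup G) : (puigLower S).map S.subtype = pLow S := by
  rw [puigLower_map S.subtype_injective, top_map_subtype]

theorem puigSeq_map_subtype (S : Subgroup G) (n : ℕ) : (puigSeq S n).map S.subtype = pseq S n := by
  rw [puigSeq_map S.subtype_injective, top_map_subtype]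

theorem center_puig_map_subtype (S : Subgroup G) :
    ((center (puigSubgroup S)).map (puigSubgroup S).subtype).map S.subtype = pZ S := by
  rw [pZ, ← puigSubgroup_map_subtype]
  ext x
  constructor
  · rintro ⟨s, ⟨l, hl, rfl⟩, rfl⟩
    refine mem_inf.2 ⟨mem_map_of_mem _ l.2, mem_centralizer_iff.2 ?_⟩
    rintro _ ⟨m, hm, rfl⟩
    exact congrArg (fun t : puigSubgroup S => ((t : S) : G)) (mem_center_iff.1 hl ⟨m, hm⟩)
  · rintro ⟨⟨s, hs, rfl⟩, hc⟩
    refine ⟨s, ⟨⟨s, hs⟩, mem_center_iff.2 fun m => ?_, rfl⟩, rfl⟩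
    exact Subtype.ext (Subtype.ext (mem_centralizer_iff.1 hc _ (mem_map_of_mem S.subtype m.2)))

variable [Finite G]

theorem step_pUp (S : Subgroup G) : step S (pUp S) = pLow S := by
  rw [← puigSubgroup_map_subtype, ← puigLower_map_subtype, ← CfsgLib.OddLocal.puigStep_subgroup,
    puigStep_map S.subtype_injective, top_map_subtype]

theorem step_pLow (S : Subgroup G) : step S (pLow S) = pUp S := by
  rw [← puigSubgroup_map_subtype, ← puigLower_map_subtype, ← CfsgLib.OddLocal.puigStep_lower,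
    puigStep_map S.subtype_injective, top_map_subtype]

theorem pLow_le_pUp (S : Subgroup G) : pLow S ≤ pUp S := by
  rw [← puigSubgroup_map_subtype, ← puigLower_map_subtype]
  exact map_mono CfsgLib.OddLocal.puigLower_le

theorem pUp_le (S : Subgroup G) : pUp S ≤ S := by
  rw [← step_pLow]; exact step_le _ _

/-- Puig terms are self-centralizing in a `p`-group. -/
theorem inf_centralizer_pseq_le {p : ℕ} [Fact p.Prime] {S : Subgroup G} (hS : IsPGroup p S) (n : ℕ) :
    S ⊓ centralizer (pseq S (n + 1) : Set G) ≤ pseq S (n + 1) := by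
  have := hS.isNilpotent
  obtain ⟨A, hn, hc, hA⟩ := CfsgLib.OddLocal.exists_selfCentralizing_abelian_normal (G := S)
  rintro x ⟨hxS, hxC⟩
  rw [← puigSeq_map_subtype] at hxC ⊢
  exact ⟨⟨x, hxS⟩, CfsgLib.OddLocal.centralizer_le_puigStep hn hc hA (mem_centralizer_iff.2 fun y hy =>
    Subtype.ext (mem_centralizer_iff.1 hxC _ (mem_map_of_mem S.subtype hy))), rfl⟩

theorem inf_centralizer_pLow_le {p : ℕ} [Fact p.Prime] {S : Subgroup G} (hS : IsPGroup p S) :
    S ⊓ centralizer (pLow S : Set G) ≤ pLow S := by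
  have := hS.isNilpotent
  obtain ⟨A, hn, hc, hA⟩ := CfsgLib.OddLocal.exists_selfCentralizing_abelian_normal (G := S)
  rintro x ⟨hxS, hxC⟩
  rw [← puigLower_map_subtype] at hxC ⊢
  rw [← CfsgLib.OddLocal.puigStep_subgroup] at hxC ⊢
  exact ⟨⟨x, hxS⟩, CfsgLib.OddLocal.centralizer_le_puigStep hn hc hA (mem_centralizer_iff.2 fun y hy =>
    Subtype.ext (mem_centralizer_iff.1 hxC _ (mem_map_of_mem S.subtype hy))), rfl⟩

/-- The normalizer of `S` normalizes every term. -/
theorem map_conj_pseq {S : Subgroup G} {g : G} (hg : g ∈ normalizer (S : Set G)) (n : ℕ) :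
    (pseq S n).map (MulAut.conj g).toMonoidHom = pseq S n := by
  have h := puigSeq_map (f := (MulAut.conj g).toMonoidHom.comp S.subtype)
    ((MulAut.conj g).injective.comp S.subtype_injective) n
  rw [← Subgroup.map_map, puigSeq_map_subtype, ← Subgroup.map_map, top_map_subtype] at h
  rw [h]
  congr 1
  exact mem_normalizer_iff_map_conj_eq.1 hg

theorem normalizer_le_normalizer_pseq (S : Subgroup G) (n : ℕ) :
    normalizer (S : Set G) ≤ normalizer (pseq S n : Set G) :=
  fun _ hg => mem_normalizer_iff_map_conj_eq.2 (map_conj_pseq hg n)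

theorem normalizer_le_normalizer_pLow (S : Subgroup G) : normalizer (S : Set G) ≤ normalizer (pLow S : Set G) :=
  fun g hg => mem_normalizer_iff_map_conj_eq.2 (by
    show (pLow S).map (MulAut.conj g).toMonoidHom = _
    rw [pLow, Subgroup.map_iSup]; exact iSup_congr fun n => map_conj_pseq hg _)

theorem normalizer_le_normalizer_pUp (S : Subgroup G) : normalizer (S : Set G) ≤ normalizer (pUp S : Set G) :=
  fun g hg => mem_normalizer_iff_map_conj_eq.2 (by
    show (pUp S).map (MulAut.conj g).toMonoidHom = _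
    rw [pUp, Subgroup.map_iInf _ (MulAut.conj g).injective]; exact iInf_congr fun n => map_conj_pseq hg _)

theorem normalizer_le_normalizer_pZ (S : Subgroup G) : normalizer (S : Set G) ≤ normalizer (pZ S : Set G) :=
  fun _ hg => CfsgLib.Solvable.le_normalizer_inf (le_rfl)
    (CfsgLib.Solvable.normalizer_le_normalizer_centralizer (pUp S)) (normalizer_le_normalizer_pUp S hg)

/-- Comparison of two series. -/
theorem pseq_compare {S S₀ : Subgroup G} (hS₀ : S₀ ≤ S)
    (h : ∀ n, pseq S₀ (2 * n + 1) ≤ pseq S (2 * n + 1) → pseq S (2 * n + 2) ≤ S₀) :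
    ∀ n, pseq S (2 * n) ≤ pseq S₀ (2 * n) ∧ pseq S₀ (2 * n + 1) ≤ pseq S (2 * n + 1) := by
  have hodd : ∀ n, pseq S (2 * n) ≤ pseq S₀ (2 * n) → pseq S₀ (2 * n + 1) ≤ pseq S (2 * n + 1) :=
    fun n hn => sSup_le fun A hA => le_step (hA.1.trans hS₀) hA.2.1 (hn.trans hA.2.2)
  intro n
  induction n with
  | zero => exact ⟨le_rfl, hodd 0 le_rfl⟩
  | succ n ih =>
    have h' : pseq S (2 * (n + 1)) ≤ pseq S₀ (2 * (n + 1)) :=
      sSup_le fun A hA => le_step ((le_step hA.1 hA.2.1 hA.2.2).trans (h n ih.2)) hA.2.1 (ih.2.trans hA.2.2)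
    exact ⟨h', hodd (n + 1) h'⟩

theorem pLow_le_and_pUp_le {S S₀ : Subgroup G} (h : ∀ n, pseq S (2 * n) ≤ pseq S₀ (2 * n) ∧
      pseq S₀ (2 * n + 1) ≤ pseq S (2 * n + 1)) : pLow S ≤ pLow S₀ ∧ pUp S₀ ≤ pUp S :=
  ⟨iSup_mono fun n => (h n).1, iInf_mono fun n => (h n).2⟩

/-- The Puig subgroup of any subgroup containing it is the same. -/
theorem pUp_eq_of_le {S S₀ : Subgroup G} (hS₀ : S₀ ≤ S) (hL : pUp S ≤ S₀) : pUp S₀ = pUp S := by
  refine le_antisymm (pLow_le_and_pUp_le (pseq_compare hS₀ fun n _ =>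
    (le_iSup (fun k => pseq S (2 * k)) (n + 1)).trans ((pLow_le_pUp S).trans hL))).2 ?_
  have key : ∀ n, pseq S₀ (2 * n) ≤ pLow S ∧ pUp S ≤ pseq S₀ (2 * n + 1) := by
    have hodd : ∀ n, pseq S₀ (2 * n) ≤ pLow S → pUp S ≤ pseq S₀ (2 * n + 1) := fun n hn => by
      rw [← step_pLow]
      refine sSup_le fun A hA => le_step ((le_step hA.1 hA.2.1 hA.2.2).trans ?_) hA.2.1 (hn.trans hA.2.2)
      rw [step_pLow]; exact hL
    intro n
    induction n with
    | zero => exact ⟨bot_le, hodd 0 bot_le⟩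
    | succ n ih =>
      have h' : pseq S₀ (2 * (n + 1)) ≤ pLow S := by
        rw [← step_pUp]
        exact sSup_le fun A hA => le_step (hA.1.trans hS₀) hA.2.1 (ih.2.trans hA.2.2)
      exact ⟨h', hodd (n + 1) h'⟩
  exact le_iInf fun n => (key n).2

variable {p : ℕ} [hp : Fact p.Prime]

/-- In an odd solvable group with trivial `p'`-core: an abelian `p`-subgroup normalized by an odd term of
the series of `O_p(G)` lies in `O_p(G)`. -/
theorem le_pCore_of_pseq_normalizes [Group.IsSolvable G] (hp2 : p ≠ 2) (hodd : Odd (Nat.card G))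
    (hO : pPrimeCore p G = ⊥) {n : ℕ} {A : Subgroup G} (hAp : IsPGroup p A) (hAc : IsMulCommutative A)
    (hX : pseq (pCore p G) (n + 1) ≤ normalizer (A : Set G)) : A ≤ pCore p G := by
  set T := pCore p G with hT
  set X := pseq T (n + 1) with hXdef
  have hTp : IsPGroup p T := CfsgLib.Cores.isPGroup_pCore p
  have hTtop : normalizer (T : Set G) = ⊤ := normalizer_eq_top_iff.2 inferInstance
  have hXtop : normalizer (X : Set G) = ⊤ := top_le_iff.1 (hTtop.ge.trans (normalizer_le_normalizer_pseq T (n + 1)))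
  have hXn : X.Normal := normalizer_eq_top_iff.1 hXtop
  have hCC : centralizer (T : Set G) ≤ T := CfsgLib.Solvable.centralizer_pCore_le p hO
  -- the centraliser of `X` is a p-group
  have hC : IsPGroup p ↥(centralizer (X : Set G)) := by
    rintro ⟨x, hx⟩
    obtain ⟨a, m, hm, hn⟩ := Nat.exists_eq_pow_mul_and_not_dvd (orderOf_pos x).ne' p hp.out.ne_one
    refine ⟨a, Subtype.ext ?_⟩
    show x ^ p ^ a = 1
    set y := x ^ p ^ a with hy
    have hym : y ^ m = 1 := by rw [hy, ← pow_mul, ← hn, pow_orderOf_eq_one]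
    have hyc : y ∈ centralizer (X : Set G) := pow_mem hx _
    have hycop : (orderOf y).Coprime p :=
      Nat.Coprime.coprime_dvd_left (orderOf_dvd_of_pow_eq_one hym) (hp.out.coprime_iff_not_dvd.2 hm).symm
    have hQ : (Nat.card (zpowers y)).Coprime p := by rwa [Nat.card_zpowers]
    have hXy : X ≤ centralizer (zpowers y : Set G) := le_centralizer_iff.1 (zpowers_le.2 hyc)
    have hle : zpowers y ≤ centralizer (T : Set G) :=
      CfsgLib.Components.commute_of_fixed_omega hp2 hTp hQ (hTp.to_le (pseq_le T (n + 1)))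
        (by rw [hTtop]; exact le_top) (by rw [hTtop]; exact le_top)
        (hXy.trans (centralizer_le_normalizer _))
        fun v hv _ hvX => hXy (inf_centralizer_pseq_le hTp n ⟨hv, hvX⟩)
    obtain ⟨k, hk⟩ := hTp ⟨y, hCC (hle (mem_zpowers y))⟩
    exact orderOf_eq_one_iff.1 (Nat.eq_one_of_dvd_coprimes (hycop.pow_right k) dvd_rfl
      (orderOf_dvd_of_pow_eq_one (congrArg Subtype.val hk)))
  intro a ha
  have hq : IsQuad X a := by
    intro x hx
    rw [commutatorElement_eq_one_iff_mul_comm]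
    have h1 : ⁅x, a⁆ ∈ A := by
      rw [commutatorElement_def]
      exact mul_mem ((mem_normalizer_iff.1 (hX hx) a).1 ha) (inv_mem ha)
    exact congrArg Subtype.val (hAc.is_comm.comm (⟨_, h1⟩ : A) ⟨a, ha⟩)
  obtain ⟨K, -, hNK, haK, hK⟩ := stableAll_of_odd hodd X (hTp.to_le (pseq_le T (n + 1))) a (hXtop ▸ mem_top a) hq
  rw [hXtop, top_le_iff, normalizer_eq_top_iff] at hNK
  refine CfsgLib.Cores.le_pCore (N := K) ?_ haK
  rintro ⟨k, hk⟩
  obtain ⟨i, hi⟩ := hK k hk
  obtain ⟨j, hj⟩ := hC ⟨_, hi⟩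
  exact ⟨i + j, Subtype.ext (by rw [SubmonoidClass.coe_pow, pow_add, pow_mul]; exact congrArg Subtype.val hj)⟩

theorem puig_chain [Group.IsSolvable G] (hp2 : p ≠ 2) (hodd : Odd (Nat.card G)) (hO : pPrimeCore p G = ⊥)
    (S : Sylow p G) : pLow (S : Subgroup G) ≤ pLow (pCore p G) ∧ pUp (pCore p G) ≤ pUp (S : Subgroup G) := by
  refine pLow_le_and_pUp_le (pseq_compare (CfsgLib.Cores.pCore_le_sylow S) fun n hn => sSup_le fun A hA => ?_)
  exact le_pCore_of_pseq_normalizes hp2 hodd hO (S.2.to_le hA.1) hA.2.1 (hn.trans hA.2.2)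

/-- `Z(L(S))` is normal. -/
theorem pZ_normal [Group.IsSolvable G] (hp2 : p ≠ 2) (hodd : Odd (Nat.card G)) (hO : pPrimeCore p G = ⊥)
    (S : Sylow p G) : (pZ (S : Subgroup G)).Normal := by
  set T := pCore p G with hT
  obtain ⟨hlow, hup⟩ := puig_chain hp2 hodd hO S
  have hTp : IsPGroup p T := CfsgLib.Cores.isPGroup_pCore p
  set LT := pLow T with hLT
  set Y := LT ⊓ centralizer (LT : Set G) with hY
  have hTtop : normalizer (T : Set G) = ⊤ := normalizer_eq_top_iff.2 inferInstance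
  have hLTtop : normalizer (LT : Set G) = ⊤ := top_le_iff.1 (hTtop.ge.trans (normalizer_le_normalizer_pLow T))
  have hYn : Y.Normal := normalizer_eq_top_iff.1 (top_le_iff.1 fun g _ =>
    CfsgLib.Solvable.le_normalizer_inf le_rfl (CfsgLib.Solvable.normalizer_le_normalizer_centralizer LT)
      (hLTtop.ge (mem_top g)))
  have hLTS : LT ≤ pUp (S : Subgroup G) := (pLow_le_pUp T).trans hup
  have hZY : pZ (S : Subgroup G) ≤ Y := by
    rintro z ⟨hz, hzc⟩
    have hzc' : z ∈ centralizer (LT : Set G) := centralizer_le hLTS hzc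
    refine ⟨hlow (inf_centralizer_pLow_le S.2 ⟨pUp_le _ hz, centralizer_le (pLow_le_pUp _) hzc⟩), hzc'⟩
  have hYS : Y ≤ (S : Subgroup G) := inf_le_left.trans (hLTS.trans (pUp_le _))
  have hYc : IsMulCommutative Y :=
    ⟨⟨fun a b => Subtype.ext ((mem_centralizer_iff.1 b.2.2 _ a.2.1))⟩⟩
  have hYlow : Y ≤ pLow (S : Subgroup G) := by
    rw [← step_pUp]
    exact le_step hYS hYc (le_top.trans (normalizer_eq_top_iff.2 hYn).ge)
  -- the normal subgroup `K` above `L(S)`
  set C := centralizer (Y : Set G) with hC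
  have hCn : C.Normal := by rw [hC]; infer_instance
  set K := (pCore p (G ⧸ C)).comap (QuotientGroup.mk' C) with hK
  have hKn : K.Normal := (inferInstance : (pCore p (G ⧸ C)).Normal).comap _
  have hLK : pUp (S : Subgroup G) ≤ K := by
    rw [← step_pLow]
    refine sSup_le fun A hA a ha => ?_
    have hYtop : normalizer (Y : Set G) = ⊤ := normalizer_eq_top_iff.2 hYn
    have hq : IsQuad Y a := by
      intro x hx
      rw [commutatorElement_eq_one_iff_mul_comm]
      have h1 : ⁅x, a⁆ ∈ A := by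
        rw [commutatorElement_def]
        exact mul_mem ((mem_normalizer_iff.1 (hA.2.2 (hYlow hx)) a).1 ha) (inv_mem ha)
      exact congrArg Subtype.val (hA.2.1.is_comm.comm (⟨_, h1⟩ : A) ⟨a, ha⟩)
    obtain ⟨M, -, hNM, haM, hM⟩ := stableAll_of_odd hodd Y (S.2.to_le hYS) a (hYtop ▸ mem_top a) hq
    rw [hYtop, top_le_iff, normalizer_eq_top_iff] at hNM
    show QuotientGroup.mk' C a ∈ pCore p (G ⧸ C)
    have hn : (M.map (QuotientGroup.mk' C)).Normal := hNM.map _ (QuotientGroup.mk'_surjective C)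
    refine CfsgLib.Cores.le_pCore (N := M.map (QuotientGroup.mk' C)) ?_ (mem_map_of_mem _ haM)
    rintro ⟨_, k, hk, rfl⟩
    obtain ⟨i, hi⟩ := hM k hk
    refine ⟨i, Subtype.ext ?_⟩
    rw [SubmonoidClass.coe_pow, ← map_pow, coe_one]
    exact (QuotientGroup.eq_one_iff _).2 hi
  set S₀ := (S : Subgroup G) ⊓ K with hS₀
  have hUp : pUp S₀ = pUp (S : Subgroup G) := pUp_eq_of_le inf_le_left (le_inf (pUp_le _) hLK)
  have hN₀ : normalizer (S₀ : Set G) ≤ normalizer (pZ (S : Subgroup G) : Set G) := by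
    have := normalizer_le_normalizer_pZ S₀
    rwa [pZ, hUp, ← pZ] at this
  have hi : ¬ p ∣ S₀.relIndex K := by
    refine CfsgLib.Fusion.not_dvd_relIndex_inf (p := p) (N := ⊤) S.2 le_top ?_ le_top
      (normalizer_eq_top_iff.2 hKn).ge
    rw [relIndex_top_right]
    exact S.not_dvd_index
  obtain ⟨T₀, hT₀⟩ : ∃ T₀ : Sylow p K, (T₀ : Subgroup K) = S₀.subgroupOf K :=
    ⟨IsPGroup.toSylow ((S.2.to_le (inf_le_left : S₀ ≤ S)).of_equiv (subgroupOfEquivOfLe (inf_le_right : S₀ ≤ K)).symm) hi,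
      IsPGroup.toSylow_coe _ _⟩
  have hfr : normalizer (S₀ : Set G) ⊔ K = ⊤ := by
    have := Sylow.normalizer_sup_eq_top T₀
    rwa [hT₀, map_subgroupOf_eq_of_le inf_le_right] at this
  refine normalizer_eq_top_iff.1 (top_le_iff.1 (hfr.ge.trans (sup_le hN₀ ?_)))
  have hKS : K ≤ C ⊔ (S : Subgroup G) := by
    refine le_trans (comap_mono (CfsgLib.Cores.pCore_le_sylow (S.mapSurjective (QuotientGroup.mk'_surjective C)))) ?_
    rw [Sylow.coe_mapSurjective, comap_map_eq, QuotientGroup.ker_mk', sup_comm]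
  refine hKS.trans (sup_le ?_ (le_normalizer.trans (normalizer_le_normalizer_pZ _)))
  intro c hc
  refine CfsgLib.Solvable.mem_normalizer_of_conj_mem fun z hz => ?_
  rwa [← mem_centralizer_iff.1 hc z (hZY hz), mul_inv_cancel_right]

end CfsgLib.PStab.Puig
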