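import Cfsg.Prelude.Def_OddOrderLocal
import Cfsg.Agent.Lib.Cores.PConstrained
import Cfsg.Agent.Lib.Cores.Local
import Cfsg.Agent.Lib.Components.OmegaFixed
import Cfsg.Agent.Lib.Signalizer.Basic
import Cfsg.Agent.Lib.Solvable.NilpotentParts

/-!
The transitivity theorem for an abelian `p`-subgroup `E` of rank three containing all `p`-elements of its
centralizer, in a group with `p`-constrained `p`-local subgroups.
-/

set_option autoImplicit false

namespace CfsgLib.PStab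

open Cfsg Subgroup
open scoped commutatorElement

variable {G : Type*} [Group G] [Finite G] {p : ℕ} [hp : Fact p.Prime]

omit [Finite G] hp in
theorem conj_pow_eq {u v z : G} (h : u * v * u⁻¹ = v * z) (hc : Commute u z) (n : ℕ) :
    u ^ n * v * (u ^ n)⁻¹ = v * z ^ n := by
  induction n with
  | zero => simp
  | succ n ih =>
    calc u ^ (n + 1) * v * (u ^ (n + 1))⁻¹ = u ^ n * (u * v * u⁻¹) * (u ^ n)⁻¹ := by rw [pow_succ]; group
      _ = (u ^ n * v * (u ^ n)⁻¹) * (u ^ n * z * (u ^ n)⁻¹) := by rw [h]; group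
      _ = v * z ^ (n + 1) := by rw [ih, (hc.pow_left n).eq]; group

omit [Finite G] in
/-- A moved element `v * z`, with `z` a fixed `p`-element and `u` of order prime to `p`, is not moved. -/
theorem eq_one_of_conj_eq_mul {u v z : G} (h : u * v * u⁻¹ = v * z) (hc : Commute u z)
    (hu : (orderOf u).Coprime p) {k : ℕ} (hz : z ^ p ^ k = 1) : z = 1 := by
  have h1 : z ^ orderOf u = 1 := by
    have := conj_pow_eq h hc (orderOf u)
    rw [pow_orderOf_eq_one] at this
    simpa using this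
  exact orderOf_eq_one_iff.1 (Nat.eq_one_of_dvd_coprimes (hu.pow_right k) (orderOf_dvd_of_pow_eq_one h1)
    (orderOf_dvd_of_pow_eq_one hz))

theorem orderOf_coprime_of_mem {D : Subgroup G} (hD : (Nat.card D).Coprime p) {u : G} (hu : u ∈ D) :
    (orderOf u).Coprime p :=
  hD.coprime_dvd_left (Subgroup.orderOf_coe (⟨u, hu⟩ : D) ▸ orderOf_dvd_natCard (⟨u, hu⟩ : D))

/-- In a `p`-constrained group with trivial `p'`-core, a `p'`-subgroup normalized by `E` and centralizing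
`C_P(E)` is trivial. -/
theorem eq_bot_of_fixed {E D : Subgroup G} (hE : IsPGroup p E) (hD : (Nat.card D).Coprime p)
    (hED : E ≤ normalizer (D : Set G))
    (hC : centralizer (pCore p G : Set G) ≤ pCore p G)
    (hcl : p = 2 → ∀ T : Subgroup G, IsPGroup p T → ∀ a ∈ T, ∀ b ∈ T, ∀ c ∈ T, ⁅⁅a, b⁆, c⁆ = 1)
    (hfix : ∀ z ∈ pCore p G, z ∈ centralizer (E : Set G) → z ∈ centralizer (D : Set G)) : D = ⊥ := by
  set P := pCore p G with hPdef
  have hP : IsPGroup p P := CfsgLib.Cores.isPGroup_pCore p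
  have hdis : ∀ u ∈ D, u ∈ P → u = 1 := by
    intro u hu huP
    obtain ⟨k, hk⟩ := hP ⟨u, huP⟩
    exact orderOf_eq_one_iff.1 (Nat.eq_one_of_dvd_coprimes ((orderOf_coprime_of_mem hD hu).pow_right k)
      dvd_rfl (orderOf_dvd_of_pow_eq_one (congrArg Subtype.val hk)))
  have hconj : ∀ g : G, ∀ v ∈ P, g * v * g⁻¹ ∈ P := fun g v hv => Normal.conj_mem inferInstance v hv g
  have hpow : ∀ z ∈ P, ∃ k, z ^ p ^ k = 1 := fun z hz => by
    obtain ⟨k, hk⟩ := hP ⟨z, hz⟩
    exact ⟨k, congrArg Subtype.val hk⟩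
  suffices h : D ≤ centralizer (P : Set G) from (eq_bot_iff_forall _).2 fun u hu => hdis u hu (hC (h hu))
  by_cases hp2 : p = 2
  · obtain ⟨S, hS⟩ := (hP.to_sup_of_normal_left hE).exists_le_sylow
    have hcent : ∀ v ∈ P, ∀ e ∈ E, ⁅v, e⁆ ∈ P ∧
        (∀ c ∈ (S : Subgroup G), Commute ⁅v, e⁆ c) ∧ ⁅v, e⁆ ∈ centralizer (D : Set G) := by
      intro v hv e he
      have h1 : ⁅v, e⁆ ∈ P := by
        rw [commutatorElement_def, show v * e * v⁻¹ * e⁻¹ = v * (e * v⁻¹ * e⁻¹) by group]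
        exact mul_mem hv (hconj e _ (inv_mem hv))
      have h2 : ∀ c ∈ (S : Subgroup G), Commute ⁅v, e⁆ c := fun c hc =>
        commutatorElement_eq_one_iff_commute.1
          (hcl hp2 _ S.2 v (hS (mem_sup_left hv)) e (hS (mem_sup_right he)) c hc)
      exact ⟨h1, h2, hfix _ h1 (mem_centralizer_iff.2 fun c hc => (h2 c (hS (mem_sup_right hc))).eq.symm)⟩
    -- `E` centralizes `D`
    have hcomm : ∀ e ∈ E, ∀ d ∈ D, e * d * e⁻¹ = d := by
      intro e he d hd
      set u := d⁻¹ * (e * d * e⁻¹) with hu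
      have huD : u ∈ D := mul_mem (inv_mem hd) ((mem_normalizer_iff.1 (hED he) d).1 hd)
      have key : u ∈ centralizer (P : Set G) := by
        refine mem_centralizer_iff.2 fun v hv => ?_
        obtain ⟨a1, b1, c1⟩ := hcent v⁻¹ (inv_mem hv) e⁻¹ (inv_mem he)
        obtain ⟨a2, b2, c2⟩ := hcent _ (inv_mem (hconj d v hv)) e he
        set z1 := ⁅v⁻¹, e⁻¹⁆ with hz1
        set z2 := ⁅(d * v * d⁻¹)⁻¹, e⁆ with hz2
        have hd1 : Commute d z1 := mem_centralizer_iff.1 c1 d hd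
        have hd2 : Commute d z2 := mem_centralizer_iff.1 c2 d hd
        have he1 : Commute z1 e := b1 e (hS (mem_sup_right he))
        have h1 : e⁻¹ * v * e = v * z1 := by rw [hz1, commutatorElement_def]; group
        have h2 : e * (d * v * d⁻¹) * e⁻¹ = (d * v * d⁻¹) * z2 := by rw [hz2, commutatorElement_def]; group
        have h3 : u * v * u⁻¹ = v * (z2 * z1) := by
          calc u * v * u⁻¹ = d⁻¹ * (e * (d * (e⁻¹ * v * e) * d⁻¹) * e⁻¹) * d := by rw [hu]; group
            _ = d⁻¹ * (e * ((d * v * d⁻¹) * (d * z1 * d⁻¹)) * e⁻¹) * d := by rw [h1]; group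
            _ = d⁻¹ * (e * ((d * v * d⁻¹) * z1) * e⁻¹) * d := by rw [hd1.eq, mul_inv_cancel_right]
            _ = d⁻¹ * ((e * (d * v * d⁻¹) * e⁻¹) * (e * z1 * e⁻¹)) * d := by group
            _ = d⁻¹ * (d * v * d⁻¹ * z2 * z1) * d := by rw [h2, ← he1.eq, mul_inv_cancel_right]
            _ = v * (d⁻¹ * (z2 * z1) * d) := by group
            _ = v * (z2 * z1) := by rw [mul_assoc d⁻¹, ← (hd2.mul_right hd1).eq, inv_mul_cancel_left]
        have hu1 : Commute u (z2 * z1) :=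
          Commute.mul_right (mem_centralizer_iff.1 c2 u huD) (mem_centralizer_iff.1 c1 u huD)
        obtain ⟨k, hk⟩ := hpow _ (mul_mem a2 a1)
        rw [eq_one_of_conj_eq_mul h3 hu1 (orderOf_coprime_of_mem hD huD) hk, mul_one] at h3
        exact (mul_inv_eq_iff_eq_mul.1 h3).symm
      have := hdis u huD (hC key)
      exact (inv_mul_eq_one.1 this).symm
    intro d hd
    refine mem_centralizer_iff.2 fun v hv => ?_
    set w := v⁻¹ * (d * v * d⁻¹) with hw
    have hwP : w ∈ P := mul_mem (inv_mem hv) (hconj d v hv)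
    have hwC : w ∈ centralizer (D : Set G) := by
      refine hfix w hwP (mem_centralizer_iff.2 fun e he => ?_)
      obtain ⟨-, b, c⟩ := hcent v⁻¹ (inv_mem hv) e he
      set z := ⁅v⁻¹, e⁆ with hz
      have hdz : Commute d z := mem_centralizer_iff.1 c d hd
      have h1 : e * v * e⁻¹ = v * z := by rw [hz, commutatorElement_def]; group
      have h2 : e * w * e⁻¹ = w := by
        calc e * w * e⁻¹ = (e * v * e⁻¹)⁻¹ * ((e * d * e⁻¹) * (e * v * e⁻¹) * (e * d * e⁻¹)⁻¹) := by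
              rw [hw]; group
          _ = (v * z)⁻¹ * (d * v * d⁻¹ * (d * z * d⁻¹)) := by rw [h1, hcomm e he d hd]; group
          _ = (v * z)⁻¹ * (d * v * d⁻¹ * z) := by rw [hdz.eq, mul_inv_cancel_right]
          _ = z⁻¹ * (w * z) := by rw [hw]; group
          _ = w := by
              rw [← (b w (hS (mem_sup_left hwP))).eq, inv_mul_cancel_left]
      exact mul_inv_eq_iff_eq_mul.1 h2
    obtain ⟨k, hk⟩ := hpow w hwP
    have h3 : d * v * d⁻¹ = v * w := by rw [hw]; group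
    rw [eq_one_of_conj_eq_mul h3 (mem_centralizer_iff.1 hwC d hd) (orderOf_coprime_of_mem hD hd) hk,
      mul_one] at h3
    exact (mul_inv_eq_iff_eq_mul.1 h3).symm
  · exact CfsgLib.Components.commute_of_fixed_omega hp2 hP hD hE
      (by rw [normalizer_eq_top]; exact le_top) (by rw [normalizer_eq_top]; exact le_top) hED
      fun v hv _ hvC => hfix v hv hvC

/-- In a `p`-constrained group every `p'`-subgroup normalized by `E` lies in the `p'`-core, when `E` is an
abelian `p`-subgroup containing all `p`-elements of its centralizer. -/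
theorem le_pPrimeCore_of_full (hG : IsPConstrained p G)
    (hcl : p = 2 → ∀ T : Subgroup G, IsPGroup p T → ∀ a ∈ T, ∀ b ∈ T, ∀ c ∈ T, ⁅⁅a, b⁆, c⁆ = 1)
    {E D : Subgroup G} (hE : IsPGroup p E)
    (hfull : ∀ x ∈ centralizer (E : Set G), IsPGroup p (zpowers x) → x ∈ E)
    (hD : (Nat.card D).Coprime p) (hED : E ≤ normalizer (D : Set G)) : D ≤ pPrimeCore p G := by
  set π := QuotientGroup.mk' (pPrimeCore p G)
  rw [← QuotientGroup.ker_mk' (pPrimeCore p G), ← Subgroup.map_eq_bot_iff]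
  have hD' : (Nat.card (D.map π)).Coprime p := hD.coprime_dvd_left (card_map_dvd D π)
  refine eq_bot_of_fixed (hE.map π) hD' ((map_mono hED).trans (le_normalizer_map π))
    (CfsgLib.Cores.isPConstrained_iff.1 hG) (fun hp2 T hT a ha b hb c hc => ?_) fun z hz hzE => ?_
  · obtain ⟨S₀, hS₀⟩ := hT.exists_le_sylow
    obtain ⟨S, hS⟩ := Sylow.mapSurjective_surjective (QuotientGroup.mk'_surjective (pPrimeCore p G)) p S₀
    rw [← hS, Sylow.coe_mapSurjective] at hS₀
    obtain ⟨a', ha', rfl⟩ := hS₀ ha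
    obtain ⟨b', hb', rfl⟩ := hS₀ hb
    obtain ⟨c', hc', rfl⟩ := hS₀ hc
    rw [← map_commutatorElement, ← map_commutatorElement, hcl hp2 _ S.2 a' ha' b' hb' c' hc', map_one]
  · -- a fixed point of `E` in the p-core is in the image of `E`
    rw [← CfsgLib.Cores.map_mk'_centralizer_of_coprime hE (CfsgLib.Cores.coprime_card_pPrimeCore p)] at hzE
    obtain ⟨y, hy, rfl⟩ := hzE
    obtain ⟨k, hk⟩ := CfsgLib.Cores.isPGroup_pCore p ⟨π y, hz⟩
    have hk' : π y ^ p ^ k = 1 := congrArg Subtype.val hk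
    obtain ⟨a, m, hm, hn⟩ := Nat.exists_eq_pow_mul_and_not_dvd (orderOf_pos y).ne' p hp.out.ne_one
    obtain ⟨j, hj, hj'⟩ := Nat.chineseRemainder ((hp.out.coprime_iff_not_dvd.2 hm).pow_left (max a k)) 1 0
    have h1 : π (y ^ j) = π y := by
      rw [map_pow]
      refine (pow_eq_pow_iff_modEq.2 ?_).trans (pow_one _)
      exact (Nat.ModEq.of_dvd (pow_dvd_pow p (le_max_right a k)) hj).of_dvd (orderOf_dvd_of_pow_eq_one hk')
    have h2 : y ^ j ∈ E := by
      refine hfull _ (pow_mem hy j) ?_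
      rintro ⟨_, i, rfl⟩
      refine ⟨a, Subtype.ext ?_⟩
      show ((y ^ j) ^ i) ^ p ^ a = 1
      obtain ⟨t, rfl⟩ := (Nat.modEq_zero_iff_dvd.1 hj')
      rw [← zpow_natCast, ← zpow_mul, mul_comm i, zpow_mul, zpow_natCast, ← pow_mul,
        show m * t * p ^ a = orderOf y * t by rw [hn]; ring, pow_mul, pow_orderOf_eq_one, one_pow, one_zpow]
    rw [← h1, mem_centralizer_iff]
    intro d hd
    have hdis : ∀ u ∈ D.map π, u ∈ pCore p (G ⧸ pPrimeCore p G) → u = 1 := by
      intro u hu huP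
      obtain ⟨l, hl⟩ := CfsgLib.Cores.isPGroup_pCore p ⟨u, huP⟩
      exact orderOf_eq_one_iff.1 (Nat.eq_one_of_dvd_coprimes ((orderOf_coprime_of_mem hD' hu).pow_right l)
        dvd_rfl (orderOf_dvd_of_pow_eq_one (congrArg Subtype.val hl)))
    have hn' : π (y ^ j) ∈ normalizer ((D.map π : Subgroup _) : Set _) :=
      le_normalizer_map π (mem_map_of_mem π (hED h2))
    have h3 : d * π (y ^ j) * d⁻¹ * (π (y ^ j))⁻¹ = 1 := by
      refine hdis _ ?_ ?_
      · rw [mul_assoc d, mul_assoc d]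
        exact mul_mem hd ((mem_normalizer_iff.1 hn' _).1 (inv_mem hd))
      · rw [h1]
        exact mul_mem (Normal.conj_mem inferInstance _ hz d) (inv_mem hz)
    exact commutatorElement_eq_one_iff_mul_comm.1 (by rw [commutatorElement_def]; exact h3)

section Transitivity

variable {E : Subgroup G}

omit hp in
theorem isPGroup_iff_primes {q : ℕ} [hq : Fact q.Prime] {R : Subgroup G} :
    IsPGroup q R ↔ ∀ r : ℕ, r.Prime → r ∣ Nat.card R → r ∈ ({q} : Set ℕ) := by
  constructor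
  · intro h r hr hd
    obtain ⟨k, hk⟩ := IsPGroup.iff_card.1 h
    exact (Nat.prime_dvd_prime_iff_eq hr hq.out).1 (hr.dvd_of_dvd_pow (hk ▸ hd))
  · exact fun h => IsPGroup.of_card (Nat.eq_prime_pow_of_unique_prime_dvd Nat.card_pos.ne' fun {r} hr hd => h r hr hd)

/-- The local signalizer: an `E`-invariant `p'`-subgroup normalizing a nontrivial `p`-subgroup `T`. -/
theorem le_map_pPrimeCore (hloc : ∀ T : Subgroup G, IsPGroup p T → T ≠ ⊥ → IsPConstrained p ↥(normalizer (T : Set G)))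
    (hcl : p = 2 → ∀ T : Subgroup G, IsPGroup p T → ∀ a ∈ T, ∀ b ∈ T, ∀ c ∈ T, ⁅⁅a, b⁆, c⁆ = 1)
    (hE : IsPGroup p E) (hfull : ∀ x ∈ centralizer (E : Set G), IsPGroup p (zpowers x) → x ∈ E)
    {T D : Subgroup G} (hT : IsPGroup p T) (hT1 : T ≠ ⊥) (hET : E ≤ normalizer (T : Set G))
    (hDT : D ≤ normalizer (T : Set G)) (hD : (Nat.card D).Coprime p) (hED : E ≤ normalizer (D : Set G)) :
    D ≤ (pPrimeCore p ↥(normalizer (T : Set G))).map (normalizer (T : Set G)).subtype := by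
  set X := normalizer (T : Set G) with hX
  rw [← map_subgroupOf_eq_of_le hDT]
  refine map_mono (le_pPrimeCore_of_full (E := E.subgroupOf X) (hloc T hT hT1) ?_
    (hE.of_equiv (subgroupOfEquivOfLe hET).symm) ?_ ?_ ?_)
  · intro hp2 U hU a ha b hb c hc
    exact Subtype.ext (hcl hp2 _ (hU.map X.subtype) _ (mem_map_of_mem _ ha) _ (mem_map_of_mem _ hb) _
      (mem_map_of_mem _ hc))
  · intro x hx hxp
    refine hfull _ (mem_centralizer_iff.2 fun e he => ?_) ?_
    · exact congrArg Subtype.val (mem_centralizer_iff.1 hx ⟨e, hET he⟩ he)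
    · have := hxp.map X.subtype
      rwa [MonoidHom.map_zpowers] at this
  · rwa [Nat.card_congr (subgroupOfEquivOfLe hDT).toEquiv]
  · intro e he
    rw [mem_normalizer_iff]
    intro d
    simp only [mem_subgroupOf, coe_mul, coe_inv]
    exact mem_normalizer_iff.1 (hED he) (d : G)

/-- The transitivity theorem. -/
theorem transitivity_of_pConstrained
    (hloc : ∀ T : Subgroup G, IsPGroup p T → T ≠ ⊥ → IsPConstrained p ↥(normalizer (T : Set G)))
    (hcl : p = 2 → ∀ T : Subgroup G, IsPGroup p T → ∀ a ∈ T, ∀ b ∈ T, ∀ c ∈ T, ⁅⁅a, b⁆, c⁆ = 1)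
    (hE : IsPGroup p E) (hEc : IsMulCommutative E) (hfull : ∀ x ∈ centralizer (E : Set G), IsPGroup p (zpowers x) → x ∈ E)
    {A : Subgroup G} (hA : IsElementaryAbelian p A) (hAE : A ≤ E) (hA3 : p ^ 3 ≤ Nat.card A)
    {q : ℕ} [hq : Fact q.Prime] (hqp : q ≠ p) {Q₁ Q₂ : Subgroup G}
    (h₁ : Q₁ ∈ maxInvSubgroups ⊤ E {q}) (h₂ : Q₂ ∈ maxInvSubgroups ⊤ E {q}) :
    ∃ k ∈ piCoreOf (primesNotDvd p) (centralizer (E : Set G)), Q₂ = Q₁.map (MulAut.conj k).toMonoidHom := by
  set KE := piCoreOf (primesNotDvd p) (centralizer (E : Set G)) with hKE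
  have hKEC : KE ≤ centralizer (E : Set G) := map_subtype_le _
  have hcE : ∀ a ∈ E, ∀ b ∈ E, a * b = b * a := fun a ha b hb =>
    congrArg Subtype.val (hEc.is_comm.comm (⟨a, ha⟩ : E) ⟨b, hb⟩)
  let Inv : Subgroup G → Prop := fun R => IsPGroup q R ∧ E ≤ normalizer (R : Set G)
  let Max : Subgroup G → Prop := fun R => Inv R ∧ ∀ R', Inv R' → R ≤ R' → R' = R
  have hMax : ∀ R, R ∈ maxInvSubgroups ⊤ E {q} → Max R := fun R hR =>
    ⟨⟨isPGroup_iff_primes.2 hR.1.2.1, hR.1.2.2⟩, fun R' hR' hle =>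
      hR.2 R' ⟨le_top, isPGroup_iff_primes.1 hR'.1, hR'.2⟩ hle⟩
  have hcop : ∀ R : Subgroup G, IsPGroup q R → (Nat.card R).Coprime p := by
    intro R hR
    obtain ⟨k, hk⟩ := IsPGroup.iff_card.1 hR
    rw [hk]
    exact Nat.Coprime.pow_left k ((Nat.coprime_primes hq.out hp.out).2 hqp)
  have hcomp : ∀ (c d : G) (R : Subgroup G),
      (R.map (MulAut.conj c).toMonoidHom).map (MulAut.conj d).toMonoidHom = R.map (MulAut.conj (d * c)).toMonoidHom := by
    intro c d R
    rw [map_map]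
    congr 1
    ext x
    simp [mul_assoc]
  have hone : ∀ R : Subgroup G, R.map (MulAut.conj (1 : G)).toMonoidHom = R := fun R => by
    conv_rhs => rw [← Subgroup.map_id R]
    congr 1
    ext x
    simp
  have hMaxConj : ∀ R c, Max R → c ∈ KE → Max (R.map (MulAut.conj c).toMonoidHom) := by
    have hI : ∀ R d, Inv R → d ∈ centralizer (E : Set G) → Inv (R.map (MulAut.conj d).toMonoidHom) := by
      intro R d hR hd
      refine ⟨hR.1.map _, fun e he => mem_normalizer_iff_map_conj_eq.2 ?_⟩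
      show (R.map (MulAut.conj d).toMonoidHom).map (MulAut.conj e).toMonoidHom = _
      rw [hcomp, mem_centralizer_iff.1 hd e he, ← hcomp,
        show R.map (MulAut.conj e).toMonoidHom = R from mem_normalizer_iff_map_conj_eq.1 (hR.2 he)]
    intro R c hR hc
    refine ⟨hI R c hR.1 (hKEC hc), fun R' hR' hle => ?_⟩
    have h := hR.2 _ (hI R' c⁻¹ hR' (inv_mem (hKEC hc))) (by
      have := map_mono (f := (MulAut.conj c⁻¹).toMonoidHom) hle
      rwa [hcomp, inv_mul_cancel, hone] at this)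
    rw [← h, hcomp, mul_inv_cancel, hone]
  let Conj : Subgroup G → Subgroup G → Prop := fun R R' => ∃ c ∈ KE, R' = R.map (MulAut.conj c).toMonoidHom
  have hrefl : ∀ R, Conj R R := fun R => ⟨1, one_mem _, (hone R).symm⟩
  have hsymm : ∀ R R', Conj R R' → Conj R' R := by
    rintro R R' ⟨c, hc, rfl⟩
    exact ⟨c⁻¹, inv_mem hc, by rw [hcomp, inv_mul_cancel, hone]⟩
  have htrans : ∀ R R' R'', Conj R R' → Conj R' R'' → Conj R R'' := by
    rintro R R' R'' ⟨c, hc, rfl⟩ ⟨d, hd, rfl⟩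
    exact ⟨d * c, mul_mem hd hc, hcomp c d R⟩
  have hext0 : ∀ R, Inv R → ∃ M, Max M ∧ R ≤ M := by
    intro R hR
    obtain ⟨M, hle, hM, hmax⟩ := Finite.exists_le_maximal (p := Inv) (a := R) hR
    exact ⟨M, ⟨hM, fun R' h1 h2 => le_antisymm (hmax h1 h2) h2⟩, hle⟩
  by_contra hcon
  obtain ⟨⟨R₁, R₂⟩, ⟨hR₁, hR₂, hne⟩, hmax⟩ := Set.exists_max_image
    {P : Subgroup G × Subgroup G | Max P.1 ∧ Max P.2 ∧ ¬ Conj P.1 P.2}
    (fun P => Nat.card ↥(P.1 ⊓ P.2)) (Set.toFinite _) ⟨(Q₁, Q₂), hMax _ h₁, hMax _ h₂, hcon⟩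
  set D := R₁ ⊓ R₂ with hD
  have hD₁ : D ≠ R₁ := fun h => hne (by
    rw [hR₁.2 R₂ hR₂.1 (inf_eq_left.1 h)]
    exact hrefl R₁)
  have hD₂ : D ≠ R₂ := fun h => hne (by
    rw [hR₂.2 R₁ hR₁.1 (inf_eq_right.1 h)]
    exact hrefl R₂)
  obtain ⟨a, ha, ha1, hn₁, hn₂⟩ := CfsgLib.Signalizer.exists_common_fixed hA hA3 hqp hR₁.1.1 hR₂.1.1
    (hAE.trans hR₁.1.2) (hAE.trans hR₂.1.2) hD₁ hD₂
  have hED : E ≤ normalizer (D : Set G) := CfsgLib.Solvable.le_normalizer_inf hR₁.1.2 hR₂.1.2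
  set T := zpowers a with hTdef
  have hT : IsPGroup p T := hE.to_le (zpowers_le.2 (hAE ha))
  have hT1 : T ≠ ⊥ := by simpa [hTdef] using ha1
  have hEa : E ≤ centralizer ({a} : Set G) := fun e he => mem_centralizer_singleton_iff.2 (hcE e he a (hAE ha))
  have hCT : centralizer ({a} : Set G) ≤ normalizer (T : Set G) := by
    rw [hTdef, ← centralizer_closure, ← zpowers_eq_closure]
    exact centralizer_le_normalizer _
  set X := normalizer (T : Set G) with hXdef
  set θ := (pPrimeCore p X).map X.subtype with hθ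
  have hXθ : X ≤ normalizer (θ : Set G) := by
    refine CfsgLib.Solvable.le_normalizer_of_conj_mem ?_
    rintro x hx _ ⟨y, hy, rfl⟩
    exact ⟨⟨x, hx⟩ * y * ⟨x, hx⟩⁻¹, Normal.conj_mem inferInstance y hy _, rfl⟩
  have hEθ : E ≤ normalizer (θ : Set G) := (hEa.trans hCT).trans hXθ
  set H := θ ⊓ normalizer (D : Set G) with hH
  set K := D ⊔ H with hK
  have hKcop : (Nat.card K).Coprime p :=
    Nat.Coprime.coprime_dvd_left (CfsgLib.Solvable.card_sup_dvd_of_le_normalizer (A := D) (X := H) inf_le_right)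
      (Nat.Coprime.mul_left (hcop D (hR₁.1.1.to_le inf_le_left))
        ((CfsgLib.Cores.card_map_pPrimeCore_coprime X).coprime_dvd_left (card_dvd_of_le inf_le_left)))
  have hEK : E ≤ normalizer (K : Set G) := by
    intro e he
    rw [mem_normalizer_iff_map_conj_eq, hK, Subgroup.map_sup, mem_normalizer_iff_map_conj_eq.1 (hED he),
      mem_normalizer_iff_map_conj_eq.1
        (CfsgLib.Solvable.le_normalizer_inf hEθ (hED.trans le_normalizer) he)]
  have hEKcop : (Nat.card E).Coprime (Nat.card K) := by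
    obtain ⟨n, hn⟩ := IsPGroup.iff_card.1 hE
    rw [hn]
    exact Nat.Coprime.pow_left n hKcop.symm
  have hsol : Group.IsSolvable E := Group.isSolvable_of_comm fun a b => hEc.is_comm.comm a b
  have hext : ∀ R : Subgroup G, Max R → D ≤ R → ¬ (normalizer (D : Set G) ⊓ R ⊓ centralizer {a} ≤ D) →
      ∃ S : Sylow q K, E ≤ normalizer ((S : Subgroup K).map K.subtype : Set G) ∧
        D < R ⊓ (S : Subgroup K).map K.subtype := by
    intro R hR hDR hn
    set U₀ := normalizer (D : Set G) ⊓ R ⊓ centralizer {a} with hU₀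
    set U := D ⊔ U₀ with hU
    have hU₀R : U₀ ≤ R := inf_le_left.trans inf_le_right
    have hEU₀ : E ≤ normalizer (U₀ : Set G) :=
      CfsgLib.Solvable.le_normalizer_inf (CfsgLib.Solvable.le_normalizer_inf (hED.trans le_normalizer) hR.1.2)
        (hEa.trans le_normalizer)
    have hU₀θ : U₀ ≤ θ :=
      le_map_pPrimeCore hloc hcl hE hfull hT hT1 (hEa.trans hCT) (inf_le_right.trans hCT)
        (hcop _ (hR.1.1.to_le hU₀R)) hEU₀
    have hUK : U ≤ K := sup_le le_sup_left ((le_inf hU₀θ (inf_le_left.trans inf_le_left)).trans le_sup_right)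
    have hUR : U ≤ R := sup_le hDR hU₀R
    have hEU : E ≤ normalizer (U : Set G) := by
      intro e he
      rw [mem_normalizer_iff_map_conj_eq, hU, Subgroup.map_sup, mem_normalizer_iff_map_conj_eq.1 (hED he),
        mem_normalizer_iff_map_conj_eq.1 (hEU₀ he)]
    obtain ⟨S, hUS, hES⟩ := CfsgLib.Solvable.exists_invariant_sylow_ge (A := E) (K := K) hEK hEKcop (Or.inl hsol) q
      hUK (hR.1.1.to_le hUR) hEU
    refine ⟨S, hES, lt_of_lt_of_le ?_ (le_inf hUR hUS)⟩
    exact lt_of_le_of_ne le_sup_left fun h => hn (le_sup_right.trans h.ge)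
  obtain ⟨S₁, hES₁, hlt₁⟩ := hext R₁ hR₁ inf_le_left hn₁
  obtain ⟨S₂, hES₂, hlt₂⟩ := hext R₂ hR₂ inf_le_right hn₂
  obtain ⟨c, hc, hcS⟩ := CfsgLib.Solvable.exists_centralizer_conj_sylow E K hEK hEKcop (Or.inl hsol) S₁ S₂ hES₁ hES₂
  rw [CfsgLib.Solvable.conj_smul_eq_map] at hcS
  have hcKE : c ∈ KE := by
    set C := centralizer (E : Set G) with hC
    set W := K ⊓ C with hW
    have hE1 : E ≠ ⊥ := fun h => ha1 (mem_bot.1 (h ▸ hAE ha))
    have hWle : W ≤ (pPrimeCore p ↥(normalizer (E : Set G))).map (normalizer (E : Set G)).subtype :=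
      le_map_pPrimeCore hloc hcl hE hfull hE hE1 le_normalizer (inf_le_right.trans (centralizer_le_normalizer _))
        (hKcop.coprime_dvd_left (card_dvd_of_le inf_le_left)) (CfsgLib.Solvable.le_normalizer_inf hEK
          ((le_normalizer (H := E)).trans (CfsgLib.Solvable.normalizer_le_normalizer_centralizer E)))
    set N := normalizer (E : Set G) with hN
    have hCN : C ≤ N := centralizer_le_normalizer _
    set M := (((pPrimeCore p N).map N.subtype).subgroupOf C) with hM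
    have hMn : M.Normal := by
      refine ⟨fun m hm g => ?_⟩
      rw [hM, mem_subgroupOf] at hm ⊢
      obtain ⟨y, hy, hy'⟩ := hm
      refine ⟨⟨g, hCN g.2⟩ * y * ⟨g, hCN g.2⟩⁻¹, Normal.conj_mem inferInstance y hy _, ?_⟩
      simp only [map_mul, map_inv, coe_mul, coe_inv]
      rw [hy']
      rfl
    have hMπ : ∀ r : ℕ, r.Prime → r ∣ Nat.card M → r ∈ primesNotDvd p := by
      intro r hr hd
      have h1 : r ∣ Nat.card ((pPrimeCore p N).map N.subtype) := hd.trans
        (card_comap_dvd_of_injective _ _ C.subtype_injective)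
      refine ⟨hr, fun hrp => ?_⟩
      rw [(Nat.prime_dvd_prime_iff_eq hr hp.out).1 hrp] at h1
      exact (CfsgLib.Cores.coprime_iff_not_dvd hp.out _).1 (CfsgLib.Cores.card_map_pPrimeCore_coprime N) h1
    exact ⟨⟨c, hc.2⟩, le_sSup (α := Subgroup C) (show M ∈ {N : Subgroup C | N.Normal ∧ ∀ r : ℕ, r.Prime → r ∣ Nat.card N → r ∈ primesNotDvd p} from ⟨hMn, hMπ⟩) (mem_subgroupOf.2 (hWle hc)), rfl⟩
  have hbig : ∀ P P' : Subgroup G, Max P → Max P' → D < P ⊓ P' → Conj P P' := by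
    intro P P' hP hP' hlt
    by_contra h
    exact (Set.Finite.card_lt_card (Set.toFinite _) (SetLike.coe_ssubset_coe.2 hlt)).not_ge
      (hmax (P, P') ⟨hP, hP', h⟩)
  obtain ⟨M₁, hM₁, hle₁⟩ := hext0 _ ⟨S₁.2.map K.subtype, hES₁⟩
  obtain ⟨M₂, hM₂, hle₂⟩ := hext0 _ ⟨S₂.2.map K.subtype, hES₂⟩
  have k₁ : Conj R₁ M₁ := hbig _ _ hR₁ hM₁ (lt_of_lt_of_le hlt₁ (inf_le_inf_left _ hle₁))
  have k₂ : Conj R₂ M₂ := hbig _ _ hR₂ hM₂ (lt_of_lt_of_le hlt₂ (inf_le_inf_left _ hle₂))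
  have k₃ : Conj M₁ M₂ := htrans _ _ _ ⟨c, hcKE, rfl⟩ (hbig _ _ (hMaxConj _ _ hM₁ hcKE) hM₂ (by
    refine lt_of_lt_of_le (lt_of_lt_of_le hlt₂ inf_le_right) (le_inf ?_ hle₂)
    rw [← hcS]
    exact map_mono hle₁))
  exact hne (htrans _ _ _ k₁ (htrans _ _ _ k₃ (hsymm _ _ k₂)))

end Transitivity

end CfsgLib.PStab

namespace CfsgLib.PStab

open Cfsg Subgroup

variable {G : Type*} [Group G] [Finite G] {p : ℕ} [hp : Fact p.Prime]

/-- For odd `p` it is enough that `E` contains the elements of order `p` of its centralizer. -/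
theorem le_pPrimeCore_of_omega (hp2 : p ≠ 2) (hG : IsPConstrained p G) {E D : Subgroup G} (hE : IsPGroup p E)
    (hfull : ∀ x ∈ centralizer (E : Set G), x ^ p = 1 → x ∈ E)
    (hD : (Nat.card D).Coprime p) (hED : E ≤ normalizer (D : Set G)) : D ≤ pPrimeCore p G := by
  set π := QuotientGroup.mk' (pPrimeCore p G)
  set P := pCore p (G ⧸ pPrimeCore p G) with hPdef
  rw [← QuotientGroup.ker_mk' (pPrimeCore p G), ← Subgroup.map_eq_bot_iff]
  have hD' : (Nat.card (D.map π)).Coprime p := hD.coprime_dvd_left (card_map_dvd D π)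
  have hP : IsPGroup p P := CfsgLib.Cores.isPGroup_pCore p
  have hdis : ∀ u ∈ D.map π, u ∈ P → u = 1 := by
    intro u hu huP
    obtain ⟨l, hl⟩ := hP ⟨u, huP⟩
    exact orderOf_eq_one_iff.1 (Nat.eq_one_of_dvd_coprimes ((orderOf_coprime_of_mem hD' hu).pow_right l)
      dvd_rfl (orderOf_dvd_of_pow_eq_one (congrArg Subtype.val hl)))
  suffices h : D.map π ≤ centralizer (P : Set _) from
    (eq_bot_iff_forall _).2 fun u hu => hdis u hu (CfsgLib.Cores.isPConstrained_iff.1 hG (h hu))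
  refine CfsgLib.Components.commute_of_fixed_omega hp2 hP hD' (hE.map π)
    (by rw [normalizer_eq_top]; exact le_top) (by rw [normalizer_eq_top]; exact le_top)
    ((map_mono hED).trans (le_normalizer_map π)) fun z hz hzp hzE => ?_
  rw [← CfsgLib.Cores.map_mk'_centralizer_of_coprime hE (CfsgLib.Cores.coprime_card_pPrimeCore p)] at hzE
  obtain ⟨y, hy, rfl⟩ := hzE
  obtain ⟨a, m, hm, hn⟩ := Nat.exists_eq_pow_mul_and_not_dvd (orderOf_pos y).ne' p hp.out.ne_one
  obtain ⟨j, hj, hj'⟩ := Nat.chineseRemainder ((hp.out.coprime_iff_not_dvd.2 hm).pow_left (max a 1)) 1 0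
  have h1 : π (y ^ j) = π y := by
    rw [map_pow]
    refine (pow_eq_pow_iff_modEq.2 ?_).trans (pow_one _)
    refine (Nat.ModEq.of_dvd (pow_dvd_pow p (le_max_right a 1)) hj).of_dvd ?_
    rw [pow_one]
    exact orderOf_dvd_of_pow_eq_one hzp
  have h2 : y ^ j ∈ E := by
    refine hfull _ (pow_mem hy j) ?_
    obtain ⟨t, rfl⟩ := Nat.modEq_zero_iff_dvd.1 hj'
    have ha : ((y ^ (m * t)) ^ p) ^ p ^ a = 1 := by
      rw [← pow_mul, ← pow_mul, show m * t * (p * p ^ a) = orderOf y * (t * p) by rw [hn]; ring, pow_mul,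
        pow_orderOf_eq_one, one_pow]
    have hker : (y ^ (m * t)) ^ p ∈ pPrimeCore p G := by
      rw [← QuotientGroup.ker_mk' (pPrimeCore p G), MonoidHom.mem_ker, map_pow, h1, hzp]
    exact orderOf_eq_one_iff.1 (Nat.eq_one_of_dvd_coprimes
      ((orderOf_coprime_of_mem (CfsgLib.Cores.coprime_card_pPrimeCore p) hker).pow_right a)
      dvd_rfl (orderOf_dvd_of_pow_eq_one ha))
  rw [← h1, mem_centralizer_iff]
  intro d hd
  have hn' : π (y ^ j) ∈ normalizer ((D.map π : Subgroup _) : Set _) :=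
    le_normalizer_map π (mem_map_of_mem π (hED h2))
  have h3 : d * π (y ^ j) * d⁻¹ * (π (y ^ j))⁻¹ = 1 := by
    refine hdis _ ?_ ?_
    · rw [mul_assoc d, mul_assoc d]
      exact mul_mem hd ((mem_normalizer_iff.1 hn' _).1 (inv_mem hd))
    · rw [h1]
      exact mul_mem (Normal.conj_mem inferInstance _ hz d) (inv_mem hz)
  exact mul_inv_eq_iff_eq_mul.1 (mul_inv_eq_one.1 h3)

omit [Finite G] in
theorem primesNotDvd_pow {n : ℕ} (hn : n ≠ 0) (r : ℕ) :
    r ∈ primesNotDvd (p ^ n) ↔ r.Prime ∧ r ≠ p := by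
  refine and_congr_right fun hr => ?_
  rw [not_iff_comm, not_not]
  exact ⟨fun h => h ▸ dvd_pow_self p hn, fun h => (Nat.prime_dvd_prime_iff_eq hr hp.out).1 (hr.dvd_of_dvd_pow h)⟩

omit hp in
/-- The `π`-core is a `π`-group. -/
theorem prime_mem_of_dvd_piCore (π : Set ℕ) :
    ∀ r : ℕ, r.Prime → r ∣ Nat.card (piCore π G) → r ∈ π :=
  CfsgLib.Cores.sSup_normal_induction (fun N => ∀ r : ℕ, r.Prime → r ∣ Nat.card N → r ∈ π)
    (fun r hr hd => absurd (Subgroup.card_bot (G := G) ▸ hd) hr.not_dvd_one)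
    (fun N M _ _ hN hM r hr hd =>
      ((Nat.Prime.dvd_mul hr).1 (hd.trans (CfsgLib.Cores.card_sup_dvd_mul N M))).elim (hN r hr) (hM r hr))
    _ fun _ h => h

end CfsgLib.PStab
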