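import Mathlib

/-!
A counting lemma for permutation groups of odd order in which non-identity elements fix at most two
points (the model is a subgroup of `SL(2, K)` acting on the projective line).
-/

set_option autoImplicit false

namespace CfsgLib.PStab

open MulAction Finset
open scoped commutatorElement

variable {G Ω : Type*} [Group G] [MulAction G Ω]

/-- An element of odd order does not interchange two points. -/
theorem smul_eq_of_swap [Finite G] (hodd : Odd (Nat.card G)) {h : G} {L M : Ω}
    (h1 : h • L = M) (h2 : h • M = L) : L = M := by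
  obtain ⟨k, hk⟩ := hodd.of_dvd_nat (orderOf_dvd_natCard h)
  have hsq : (h ^ 2) ∈ stabilizer G L := by
    rw [mem_stabilizer_iff, pow_two, mul_smul, h1, h2]
  have e : h = (h ^ 2) ^ (k + 1) := by
    rw [← pow_mul, show 2 * (k + 1) = orderOf h + 1 by omega, pow_succ, pow_orderOf_eq_one, one_mul]
  have hm : (h ^ 2) ^ (k + 1) ∈ stabilizer G L := Subgroup.pow_mem _ hsq _
  rw [← e] at hm
  exact (mem_stabilizer_iff.1 hm).symm.trans h1

variable (U : Ω → Subgroup G)

theorem fix_of_commute {x k : G} (h : x * k = k * x) {L : Ω} (hL : x • L = L) :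
    x • (k • L) = k • L := by
  rw [← mul_smul, h, mul_smul, hL]

theorem commute_of_comm_eq {x u w : G} (h : ⁅u, x⁆ = ⁅w, x⁆) : x * (w⁻¹ * u) = (w⁻¹ * u) * x := by
  simp only [commutatorElement_def] at h
  have h1 := mul_right_cancel h
  calc x * (w⁻¹ * u) = w⁻¹ * (w * x * w⁻¹) * u := by group
    _ = w⁻¹ * (u * x * u⁻¹) * u := by rw [h1]
    _ = _ := by group

/-- No non-identity element fixes two points of the same orbit. -/
theorem eq_of_fix_two_in_orbit [Finite G] (hodd : Odd (Nat.card G))
    (htwo : ∀ g : G, g ≠ 1 → ∀ A B C : Ω, g • A = A → g • B = B → g • C = C → A = B ∨ B = C ∨ A = C)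
    (hUle : ∀ M, ∀ u ∈ U M, u • M = M)
    (hcomm : ∀ M, ∀ a b : G, a • M = M → b • M = M → ⁅a, b⁆ ∈ U M)
    (hU : ∀ M, ∀ u ∈ U M, u ≠ 1 → ∀ N, u • N = N → N = M)
    {x : G} (hx : x ≠ 1) {L M : Ω} {h : G} (hLM : h • L = M) (hxL : x • L = L) (hxM : x • M = M) :
    L = M := by
  by_contra hne
  by_cases hswap : h • M = L
  · exact hne (smul_eq_of_swap hodd hLM hswap)
  -- every element `k ≠ 1` fixing `L` and `M` gives a bijection `u ↦ ⁅u, k⁆` of `U M`
  have surj : ∀ k : G, k ≠ 1 → k • L = L → k • M = M → ∀ w ∈ U M, ∃ v ∈ U M, ⁅v, k⁆ = w := by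
    intro k hk hkL hkM w hw
    let f : U M → U M := fun u => ⟨⁅(u : G), k⁆, hcomm M u k (hUle M u u.2) hkM⟩
    have hinj : Function.Injective f := by
      intro u v huv
      have hc := commute_of_comm_eq (congrArg Subtype.val huv : ⁅(u : G), k⁆ = ⁅(v : G), k⁆)
      set d := (v : G)⁻¹ * u with hd
      have hdU : d ∈ U M := mul_mem (inv_mem v.2) u.2
      by_cases hd1 : d = 1
      · exact Subtype.ext (inv_mul_eq_one.1 hd1).symm
      exfalso
      have hdM := hUle M d hdU
      rcases htwo k hk L M (d • L) hkL hkM (fix_of_commute hc hkL) with h' | h' | h'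
      · exact hne h'
      · exact hne (smul_left_cancel d (h'.symm.trans hdM.symm))
      · exact hne (hU M d hdU hd1 L h'.symm)
    obtain ⟨v, hv⟩ := (Finite.injective_iff_surjective.1 hinj) ⟨w, hw⟩
    exact ⟨v, v.2, congrArg Subtype.val hv⟩
  set z := h * x * h⁻¹ with hz
  have hzM : z • M = M := by rw [hz, mul_smul, mul_smul, ← hLM, inv_smul_smul, hxL]
  have hzhM : z • (h • M) = h • M := by rw [hz, mul_smul, mul_smul, inv_smul_smul, hxM]
  have hne2 : h • M ≠ M := fun e => hne (smul_left_cancel h (hLM.trans e.symm))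
  obtain ⟨w, hw, hwz⟩ := surj x hx hxL hxM ⁅z, x⁆ (hcomm M z x hzM hxM)
  set k := w⁻¹ * z with hk
  have hkx : x * k = k * x := commute_of_comm_eq hwz.symm
  have hkM : k • M = M := by
    rw [hk, mul_smul, hzM, inv_smul_eq_iff, hUle M w hw]
  have hkL : k • L = L := by
    rcases htwo x hx L M (k • L) hxL hxM (fix_of_commute hkx hxL) with h' | h' | h'
    · exact absurd h' hne
    · exact absurd (smul_left_cancel k (h'.symm.trans hkM.symm)) hne
    · exact h'.symm
  by_cases hk1 : k = 1
  · have hzw : z = w := (inv_mul_eq_one.1 hk1).symm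
    have hz1 : z ≠ 1 := by
      intro e
      apply hx
      calc x = h⁻¹ * z * h := by rw [hz]; group
        _ = 1 := by rw [e]; group
    exact hne2 (hU M z (hzw ▸ hw) hz1 _ hzhM)
  obtain ⟨v, hv, hvk⟩ := surj k hk1 hkL hkM w hw
  have hzv : z = v * k * v⁻¹ := by
    calc z = w * k := by rw [hk]; group
      _ = v * k * v⁻¹ := by rw [← hvk, commutatorElement_def]; group
  have hzvL : z • (v • L) = v • L := by rw [hzv, mul_smul, mul_smul, inv_smul_smul, hkL]
  have hvM := hUle M v hv
  have hvL : v • L ≠ M := fun e => hne (smul_left_cancel v (e.trans hvM.symm))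
  have hz1 : z ≠ 1 := fun e => hk1 (by
    calc k = v⁻¹ * z * v := by rw [hzv]; group
      _ = 1 := by rw [e]; group)
  rcases htwo z hz1 (v • L) M (h • M) hzvL hzM hzhM with h' | h' | h'
  · exact hvL h'
  · exact hne2 h'.symm
  · refine hne (smul_eq_of_swap hodd (h := v⁻¹ * h) ?_ ?_)
    · rw [mul_smul, hLM, inv_smul_eq_iff, hvM]
    · rw [mul_smul, ← h', inv_smul_smul]

/-- The point `L` is fixed by the whole group. -/
theorem forall_smul_eq_of_orbitCount [Finite G] (hodd : Odd (Nat.card G))
    (hex : ∀ g : G, ∃ M : Ω, g • M = M)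
    (htwo : ∀ g : G, g ≠ 1 → ∀ A B C : Ω, g • A = A → g • B = B → g • C = C → A = B ∨ B = C ∨ A = C)
    (hUle : ∀ M, ∀ u ∈ U M, u • M = M)
    (hcomm : ∀ M, ∀ a b : G, a • M = M → b • M = M → ⁅a, b⁆ ∈ U M)
    (hU : ∀ M, ∀ u ∈ U M, u ≠ 1 → ∀ N, u • N = N → N = M)
    (L : Ω) (ht : ∃ t : G, t ≠ 1 ∧ t • L = L)
    (hone : ∀ g : G, g ≠ 1 → (∀ M N : Ω, g • M = M → g • N = N → M = N) →
      ∃ h : G, g • (h • L) = h • L) :
    ∀ g : G, g • L = L := by
  classical
  by_contra hfix
  push Not at hfix
  obtain ⟨g₀, hg₀⟩ := hfix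
  have : Fintype G := Fintype.ofFinite G
  set O : Finset Ω := univ.image (fun h : G => h • L) with hO
  have memO : ∀ h : G, h • L ∈ O := fun h => mem_image_of_mem _ (mem_univ h)
  have memO' : ∀ M ∈ O, ∃ h : G, h • L = M := fun M hM => by simpa [hO] using hM
  have hm : 1 < O.card := one_lt_card.2 ⟨g₀ • L, memO g₀, L, by simpa using memO 1, hg₀⟩
  set S : Ω → Finset G := fun M => univ.filter (fun g => g • M = M ∧ g ≠ 1) with hS
  set s := (S L).card + 1 with hsdef
  have hScard : ∀ M ∈ O, (S M).card = (S L).card := by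
    intro M hM
    obtain ⟨h, rfl⟩ := memO' M hM
    apply card_bij' (fun g _ => h⁻¹ * g * h) (fun g _ => h * g * h⁻¹)
    · intro g hg
      simp only [hS, mem_filter, mem_univ, true_and] at hg ⊢
      refine ⟨by rw [mul_smul, mul_smul, hg.1, inv_smul_smul], fun e => hg.2 ?_⟩
      calc g = h * (h⁻¹ * g * h) * h⁻¹ := by group
        _ = 1 := by rw [e]; group
    · intro g hg
      simp only [hS, mem_filter, mem_univ, true_and] at hg ⊢
      refine ⟨by rw [mul_smul, mul_smul, inv_smul_smul, hg.1], fun e => hg.2 ?_⟩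
      calc g = h⁻¹ * (h * g * h⁻¹) * h := by group
        _ = 1 := by rw [e]; group
    · intro g _; group
    · intro g _; group
  have hdisj : (O : Set Ω).PairwiseDisjoint S := by
    intro M hM N hN hMN
    rw [Function.onFun, disjoint_left]
    intro g hgM hgN
    simp only [hS, mem_filter, mem_univ, true_and] at hgM hgN
    obtain ⟨a, ha⟩ := memO' M hM
    obtain ⟨b, hb⟩ := memO' N hN
    exact hMN (eq_of_fix_two_in_orbit U hodd htwo hUle hcomm hU hgM.2 (h := b * a⁻¹)
      (by rw [mul_smul, ← ha, inv_smul_smul, hb]) hgM.1 hgN.1)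
  set A₁ := O.biUnion S with hA₁
  set R := univ.filter (fun g : G => g ≠ 1 ∧ ∀ M ∈ O, g • M ≠ M) with hR
  have hA₁card : A₁.card = O.card * (S L).card := by
    rw [hA₁, card_biUnion hdisj, sum_congr rfl hScard, sum_const, smul_eq_mul]
  have hsplit : Nat.card G = 1 + A₁.card + R.card := by
    have hd1 : Disjoint ({1} : Finset G) A₁ := by
      simp [hA₁, hS]
    have hd2 : Disjoint ({1} ∪ A₁) R := by
      rw [disjoint_left]
      intro g hg hgR
      simp only [hR, mem_filter, mem_univ, true_and] at hgR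
      simp [hA₁, hS] at hg
      rcases hg with rfl | ⟨M, hM, hM'⟩
      · exact hgR.1 rfl
      · exact hgR.2 M hM hM'.1
    have hall : ({1} ∪ A₁) ∪ R = univ := by
      ext g
      simp only [mem_union, mem_singleton, mem_univ, iff_true]
      by_cases hg1 : g = 1
      · exact Or.inl (Or.inl hg1)
      by_cases hgO : ∃ M ∈ O, g • M = M
      · obtain ⟨M, hM, hgM⟩ := hgO
        exact Or.inl (Or.inr (mem_biUnion.2 ⟨M, hM, by simp [hS, hg1, hgM]⟩))
      · push Not at hgO
        exact Or.inr (by simpa [hR, hg1] using hgO)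
    rw [Nat.card_eq_fintype_card, ← card_univ, ← hall, card_union_of_disjoint hd2,
      card_union_of_disjoint hd1, card_singleton]
  have horb : Nat.card G = O.card * ((S L).card + 1) := by
    have h1 := Subgroup.card_mul_index (stabilizer G L)
    rw [index_stabilizer] at h1
    have h2 : (orbit G L).ncard = O.card := by
      rw [← Set.ncard_coe_finset]
      congr 1
      ext M; simp [hO, mem_orbit_iff]
    have h3 : Nat.card (stabilizer G L) = (S L).card + 1 := by
      have e : (univ.filter fun g : G => g • L = L) = insert 1 (S L) := by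
        ext g
        by_cases hg : g = 1 <;> simp [hS, hg]
      rw [show Nat.card (stabilizer G L) = (univ.filter fun g : G => g • L = L).card from
        Nat.subtype_card _ (fun g => by simp [mem_stabilizer_iff]), e, card_insert_of_notMem (by simp [hS])]
    rw [← h1, h2, h3, mul_comm]
  have hRcard : R.card + 1 = O.card := by
    have := hsplit.symm.trans horb
    rw [hA₁card, mul_add, mul_one] at this
    omega
  obtain ⟨x, hxR⟩ : R.Nonempty := card_pos.1 (by omega)
  simp only [hR, mem_filter, mem_univ, true_and] at hxR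
  obtain ⟨N, N', hxN, hxN', hNN'⟩ : ∃ N N', x • N = N ∧ x • N' = N' ∧ N ≠ N' := by
    by_contra hno
    push Not at hno
    obtain ⟨h, hh⟩ := hone x hxR.1 (fun M N hM hN => hno M N hM hN)
    exact hxR.2 _ (memO h) hh
  have hNO : N ∉ O := fun e => hxR.2 N e hxN
  have hN'O : N' ∉ O := fun e => hxR.2 N' e hxN'
  set A : Subgroup G := stabilizer G N ⊓ stabilizer G N' with hA
  let f : (G ⧸ A) × {y : A // (y : G) ≠ 1} → R := fun q =>
    ⟨q.1.out * ((q.2 : A) : G) * q.1.out⁻¹, by
      obtain ⟨⟨y, hyN, hyN'⟩, hy1⟩ := q.2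
      simp only [hR, mem_filter, mem_univ, true_and]
      refine ⟨fun e => hy1 ?_, fun M hM e => ?_⟩
      · calc y = q.1.out⁻¹ * (q.1.out * y * q.1.out⁻¹) * q.1.out := by group
          _ = 1 := by rw [e]; group
      · obtain ⟨b, rfl⟩ := memO' M hM
        have e' : y • ((q.1.out⁻¹ * b) • L) = (q.1.out⁻¹ * b) • L := by
          simp only [mul_smul] at e ⊢
          exact (eq_inv_smul_iff).2 e
        rcases htwo y hy1 N N' _ hyN hyN' e' with h' | h' | h'
        · exact hNN' h'
        · exact hN'O (h' ▸ memO _)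
        · exact hNO (h' ▸ memO _)⟩
  have hfinj : Function.Injective f := by
    rintro ⟨a, ⟨⟨y, hyN, hyN'⟩, hy1⟩⟩ ⟨b, ⟨⟨y', hy'N, hy'N'⟩, hy'1⟩⟩ hab
    have hab' : a.out * y * a.out⁻¹ = b.out * y' * b.out⁻¹ := congrArg Subtype.val hab
    set d := b.out⁻¹ * a.out with hd
    have hdy : y' = d * y * d⁻¹ := by
      calc y' = b.out⁻¹ * (b.out * y' * b.out⁻¹) * b.out := by group
        _ = _ := by rw [← hab', hd]; group
    have fix : ∀ P : Ω, y • P = P → y' • (d • P) = d • P := by
      intro P hP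
      rw [hdy, mul_smul, mul_smul, inv_smul_smul, hP]
    have cases' : ∀ P : Ω, y • P = P → d • P = N ∨ d • P = N' := by
      intro P hP
      rcases htwo y' hy'1 N N' (d • P) hy'N hy'N' (fix P hP) with h' | h' | h'
      · exact absurd h' hNN'
      · exact Or.inr h'.symm
      · exact Or.inl h'.symm
    have hdA : d ∈ A := by
      rcases cases' N hyN with h1 | h1 <;> rcases cases' N' hyN' with h2 | h2
      · exact absurd (smul_left_cancel d (h1.trans h2.symm)) hNN'
      · exact ⟨h1, h2⟩
      · exact absurd (smul_eq_of_swap hodd h1 h2) hNN'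
      · exact absurd (smul_left_cancel d (h1.trans h2.symm)) hNN'
    have hab2 : a = b := by
      rw [← QuotientGroup.out_eq' a, ← QuotientGroup.out_eq' b, QuotientGroup.eq]
      have := inv_mem hdA
      simpa [hd] using this
    subst hab2
    refine Prod.ext rfl (Subtype.ext (Subtype.ext ?_))
    simpa using hab'
  have hle := Nat.card_le_card_of_injective f hfinj
  rw [Nat.card_prod, Nat.card_eq_finsetCard] at hle
  have hAcard : Nat.card {y : A // (y : G) ≠ 1} + 1 = Nat.card A := by
    have e : ({y : A | (y : G) ≠ 1} : Set A) = ({1} : Set A)ᶜ := by ext; simp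
    have h1 : Nat.card {y : A // (y : G) ≠ 1} = Set.ncard ({1} : Set A)ᶜ := by
      rw [← e]; exact Nat.card_coe_set_eq _
    have := Set.ncard_add_ncard_compl ({1} : Set A)
    rw [Set.ncard_singleton] at this
    omega
  have hA3 : 3 ≤ Nat.card A := by
    have h1 : 1 < Nat.card A := by
      refine (Subgroup.one_lt_card_iff_ne_bot A).2 fun e => hxR.1 ?_
      have hxA : x ∈ A := ⟨hxN, hxN'⟩
      rwa [e, Subgroup.mem_bot] at hxA
    have h2 := hodd.of_dvd_nat (Subgroup.card_subgroup_dvd_card A)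
    rcases h2 with ⟨k, hk⟩; omega
  have hS3 : 3 ≤ (S L).card + 1 := by
    have h1 : 1 ≤ (S L).card := by
      obtain ⟨t, ht1, htL⟩ := ht
      exact card_pos.2 ⟨t, by simp [hS, ht1, htL]⟩
    have h2 := hodd.of_dvd_nat (horb ▸ dvd_mul_left _ _)
    rcases h2 with ⟨k, hk⟩; omega
  have hGA := Subgroup.card_mul_index A
  rw [Subgroup.index] at hGA
  set q := Nat.card (G ⧸ A)
  nlinarith

end CfsgLib.PStab
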