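import Cfsg.Agent.Lib.PStab.Offender.Pairs
import Cfsg.Agent.Lib.Cores.Coprime
import Cfsg.Agent.Lib.Transfer.SubnormalJoin

/-!
Two subnormal subgroups of a faithful group, acting irreducibly on incomparable commutator modules, commute.
-/

set_option autoImplicit false

namespace CfsgLib.PStab.SubnPair

open Subgroup Cfsg CfsgLib.PStab.BestOff
open scoped commutatorElement

variable {G : Type*} [Group G] {p : ℕ}

/-- The hypotheses on the pair. -/
structure Hyp (p : ℕ) (V E E₁ E₂ : Subgroup G) : Prop where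
  elem : IsElementaryAbelian p V
  le_norm : E ≤ normalizer (V : Set G)
  faith : E ⊓ centralizer (V : Set G) = ⊥
  gen : E = E₁ ⊔ E₂
  sub1 : (E₁.subgroupOf E).IsSubnormal
  sub2 : (E₂.subgroupOf E).IsSubnormal
  core : pCore p ↥E = ⊥
  irr1 : ∀ U : Subgroup G, U ≤ ⁅V, E₁⁆ → E₁ ≤ normalizer (U : Set G) → U = ⊥ ∨ U = ⁅V, E₁⁆
  irr2 : ∀ U : Subgroup G, U ≤ ⁅V, E₂⁆ → E₂ ≤ normalizer (U : Set G) → U = ⊥ ∨ U = ⁅V, E₂⁆
  not12 : ¬ ⁅V, E₁⁆ ≤ ⁅V, E₂⁆
  not21 : ¬ ⁅V, E₂⁆ ≤ ⁅V, E₁⁆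
  two1 : 2 < Nat.card E₁
  two2 : 2 < Nat.card E₂

/-- The conclusion. -/
def Split (V E₁ E₂ : Subgroup G) : Prop :=
  ⁅E₁, E₂⁆ = ⊥ ∧ E₁ ⊓ E₂ = ⊥ ∧ ⁅V, E₁⁆ ⊓ ⁅V, E₂⁆ = ⊥

namespace Hyp

variable {V E E₁ E₂ : Subgroup G}

theorem symm (h : Hyp p V E E₁ E₂) : Hyp p V E E₂ E₁ :=
  ⟨h.elem, h.le_norm, h.faith, h.gen.trans (sup_comm _ _), h.sub2, h.sub1, h.core, h.irr2, h.irr1,
    h.not21, h.not12, h.two2, h.two1⟩

theorem le1 (h : Hyp p V E E₁ E₂) : E₁ ≤ E := le_sup_left.trans h.gen.ge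

theorem le2 (h : Hyp p V E E₁ E₂) : E₂ ≤ E := le_sup_right.trans h.gen.ge

variable [Finite G] [hp : Fact p.Prime]

/-- A subgroup acting trivially on `W` and on `V` modulo `W` is a `p`-group. -/
theorem isPGroup_of_series (h : Hyp p V E E₁ E₂) {W K : Subgroup G} (hW : W ≤ V) (hK : K ≤ E)
    (hKW : K ≤ centralizer (W : Set G)) (hKV : K ≤ acts V W) : IsPGroup p K := by
  intro x
  refine ⟨1, Subtype.ext ?_⟩
  rw [pow_one, Subgroup.coe_pow, OneMemClass.coe_one]
  have h1 : (x : G) ^ p ∈ E ⊓ centralizer (V : Set G) := by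
    refine ⟨pow_mem (hK x.2) p, mem_centralizer_iff.2 fun v hv => ?_⟩
    have hc := (hKV x.2).2.2 v hv
    set c := (x : G) * v * (x : G)⁻¹ * v⁻¹
    have hcx : (x : G) * c * (x : G)⁻¹ = c := Setup.conj_fix (hKW x.2) hc
    have hpow : ∀ n : ℕ, (x : G) ^ n * v * ((x : G) ^ n)⁻¹ = c ^ n * v := by
      intro n
      induction n with
      | zero => simp
      | succ n ih =>
        calc (x : G) ^ (n + 1) * v * ((x : G) ^ (n + 1))⁻¹
            = (x : G) * ((x : G) ^ n * v * ((x : G) ^ n)⁻¹) * (x : G)⁻¹ := by rw [pow_succ']; group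
          _ = (x : G) * c ^ n * (x : G)⁻¹ * ((x : G) * v * (x : G)⁻¹ * v⁻¹) * v := by rw [ih]; group
          _ = ((x : G) * c * (x : G)⁻¹) ^ n * c * v := by rw [conj_pow]
          _ = c ^ (n + 1) * v := by rw [hcx, pow_succ]
    have h2 := hpow p
    rw [h.elem.2 c (hW hc), one_mul] at h2
    exact (mul_inv_eq_iff_eq_mul.1 h2).symm
  rwa [h.faith, mem_bot] at h1

theorem eq_bot_of_pGroup (h : Hyp p V E E₁ E₂) {A K : Subgroup G} (hA : A ≤ E)
    (hAs : (A.subgroupOf E).IsSubnormal) (hK : K ≤ A) (hKn : A ≤ normalizer (K : Set G))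
    (hKp : IsPGroup p K) : K = ⊥ := by
  haveI : (K.subgroupOf A).Normal := normal_subgroupOf_of_le_normalizer hKn
  have hAK : (K.subgroupOf E).IsSubnormal := by
    refine Subgroup.IsSubnormal.trans (H := K.subgroupOf E) (K := A.subgroupOf E)
      (fun y hy => hK hy) ?_ hAs
    haveI : ((K.subgroupOf E).subgroupOf (A.subgroupOf E)).Normal :=
      normal_subgroupOf_of_le_normalizer fun a ha => by
        have h1 := mem_normalizer_iff.1 (hKn ha)
        exact mem_normalizer_iff.2 fun k => h1 (k : G)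
    exact Subgroup.Normal.isSubnormal inferInstance
  have h1 := Cores.le_pCore_of_isSubnormal hAK (hKp.of_equiv (subgroupOfEquivOfLe (hK.trans hA)).symm)
  rw [h.core, le_bot_iff, subgroupOf_eq_bot, disjoint_iff, inf_eq_left.2 (hK.trans hA)] at h1
  exact h1

theorem le_normalizer_W1 (h : Hyp p V E E₁ E₂) : E₁ ≤ normalizer ((⁅V, E₁⁆ : Subgroup G) : Set G) :=
  le_normalizer_of_commutator_le (commutator_le_of_le_normalizer (h.le1.trans h.le_norm)) le_rfl

theorem W1_le (h : Hyp p V E E₁ E₂) : ⁅V, E₁⁆ ≤ V :=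
  commutator_le_of_le_normalizer (h.le1.trans h.le_norm)

theorem W1_not_fixed (h : Hyp p V E E₁ E₂) : ¬ E₁ ≤ centralizer ((⁅V, E₁⁆ : Subgroup G) : Set G) := by
  intro hc
  have hp' := h.isPGroup_of_series h.W1_le h.le1 hc (le_acts (h.le1.trans h.le_norm) h.W1_le le_rfl)
  have h1 := h.eq_bot_of_pGroup h.le1 h.sub1 le_rfl le_normalizer hp'
  have h2 := h.two1
  rw [h1, Subgroup.card_bot] at h2
  omega

theorem fix_eq_bot (h : Hyp p V E E₁ E₂) :
    E₁ ⊓ centralizer ((⁅V, E₁⁆ : Subgroup G) : Set G) = ⊥ :=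
  h.eq_bot_of_pGroup h.le1 h.sub1 inf_le_left
    (Solvable.le_normalizer_inf le_normalizer
      (h.le_normalizer_W1.trans (Solvable.normalizer_le_normalizer_centralizer _)))
    (h.isPGroup_of_series h.W1_le (inf_le_left.trans h.le1) inf_le_right
      (inf_le_left.trans (le_acts (h.le1.trans h.le_norm) h.W1_le le_rfl)))

/-- The case in which `[V, E₁]` is invariant. -/
theorem split_of_invariant (h : Hyp p V E E₁ E₂)
    (hn : E₂ ≤ normalizer ((⁅V, E₁⁆ : Subgroup G) : Set G)) : Split V E₁ E₂ := by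
  set W := ⁅V, E₁⁆ with hW
  have hEW : E ≤ normalizer (W : Set G) := h.gen.le.trans (sup_le h.le_normalizer_W1 hn)
  have hWW : W ⊓ ⁅V, E₂⁆ = ⊥ := by
    rcases h.irr2 (W ⊓ ⁅V, E₂⁆) inf_le_right (Solvable.le_normalizer_inf hn
      h.symm.le_normalizer_W1) with h1 | h1
    · exact h1
    · exact absurd (h1 ▸ inf_le_left) h.not21
  have h2W : E₂ ≤ centralizer (W : Set G) := by
    intro e he
    refine mem_centralizer_iff.2 fun w hw => ?_
    have h1 : e * w * e⁻¹ * w⁻¹ ∈ W ⊓ ⁅V, E₂⁆ := by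
      refine Subgroup.mem_inf.2 ⟨mul_mem ((mem_normalizer_iff.1 (hn he) w).1 hw) (inv_mem hw), ?_⟩
      exact (le_acts (h.le2.trans h.le_norm) h.symm.W1_le le_rfl he).2.2 w (h.W1_le hw)
    rw [hWW, mem_bot, mul_inv_eq_one, mul_inv_eq_iff_eq_mul] at h1
    exact h1.symm
  set K := E ⊓ centralizer (W : Set G) ⊓ acts V W with hK
  have hKn : E ≤ normalizer (K : Set G) := by
    refine Solvable.le_normalizer_inf (Solvable.le_normalizer_inf le_normalizer
      (hEW.trans (Solvable.normalizer_le_normalizer_centralizer _))) ?_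
    intro g hg
    have key : ∀ g ∈ E, ∀ y ∈ acts V W, g * y * g⁻¹ ∈ acts V W := by
      intro g hg y hy
      refine ⟨mul_mem (mul_mem (h.le_norm hg) hy.1) (inv_mem (h.le_norm hg)),
        mul_mem (mul_mem (hEW hg) hy.2.1) (inv_mem (hEW hg)), fun v hv => ?_⟩
      have hv' : g⁻¹ * v * g ∈ V := by
        simpa using (mem_normalizer_iff.1 (inv_mem (h.le_norm hg)) v).1 hv
      have h1 := (mem_normalizer_iff.1 (hEW hg) _).1 (hy.2.2 _ hv')
      convert h1 using 1
      group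
    refine mem_normalizer_iff.2 fun y => ⟨key g hg y, fun hy => ?_⟩
    simpa [mul_assoc] using key g⁻¹ (inv_mem hg) _ hy
  have hKbot : K = ⊥ :=
    h.eq_bot_of_pGroup le_rfl (by rw [subgroupOf_self]; exact Subgroup.Normal.isSubnormal inferInstance)
      (inf_le_left.trans inf_le_left) hKn
      (h.isPGroup_of_series h.W1_le (inf_le_left.trans inf_le_left) (inf_le_left.trans inf_le_right)
        inf_le_right)
  have ha1 : E₁ ≤ acts V W := le_acts (h.le1.trans h.le_norm) h.W1_le le_rfl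
  refine ⟨?_, ?_, hWW⟩
  · rw [eq_bot_iff, ← hKbot, commutator_le]
    intro a ha b hb
    have hab : ⁅a, b⁆ ∈ E :=
      commutator_le_self E (commutator_mem_commutator (h.le1 ha) (h.le2 hb))
    refine ⟨⟨hab, ?_⟩, ?_⟩
    · have hn' := Solvable.normalizer_le_normalizer_centralizer _ (hEW (h.le1 ha))
      have h1 := mul_mem ((mem_normalizer_iff.1 hn' b).1 (h2W hb)) (inv_mem (h2W hb))
      rwa [← commutatorElement_def] at h1
    · show ⁅a, b⁆ ∈ acts V W
      have hn' : b * a⁻¹ * b⁻¹ ∈ acts V W := by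
        refine ⟨mul_mem (mul_mem (h.le_norm (h.le2 hb)) (inv_mem (h.le_norm (h.le1 ha))))
            (inv_mem (h.le_norm (h.le2 hb))),
          mul_mem (mul_mem (hEW (h.le2 hb)) (inv_mem (hEW (h.le1 ha)))) (inv_mem (hEW (h.le2 hb))),
          fun v hv => ?_⟩
        have hv' : b⁻¹ * v * b ∈ V := by
          simpa using (mem_normalizer_iff.1 (inv_mem (h.le_norm (h.le2 hb))) v).1 hv
        have h1 := (mem_normalizer_iff.1 (hEW (h.le2 hb)) _).1 ((inv_mem (ha1 ha)).2.2 _ hv')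
        convert h1 using 1
        group
      have h1 := mul_mem (ha1 ha) hn'
      convert h1 using 1
      rw [commutatorElement_def]
      group
  · rw [eq_bot_iff, ← hKbot]
    exact fun x hx => ⟨⟨h.le1 hx.1, h2W hx.2⟩, ha1 hx.1⟩

theorem split_comm (h : Split V E₂ E₁) : Split V E₁ E₂ :=
  ⟨(commutator_comm _ _).trans h.1, (inf_comm _ _).trans h.2.1, (inf_comm _ _).trans h.2.2⟩

theorem exists_lt_normal (h : Hyp p V E E₁ E₂) :
    ∃ N : Subgroup G, N < E ∧ E₁ ≤ N ∧ ∀ g ∈ E, ∀ x ∈ N, g * x * g⁻¹ ∈ N := by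
  rcases h.sub1.lt_normal with h1 | ⟨N, hN, hle, hlt⟩
  · exfalso
    exact h.not21 (commutator_mono le_rfl (h.le2.trans (subgroupOf_eq_top.1 h1)))
  · refine ⟨N.map E.subtype, lt_of_le_of_ne (map_subtype_le _) fun e => hlt.ne ?_,
      fun x hx => ⟨⟨x, h.le1 hx⟩, hle hx, rfl⟩, ?_⟩
    · apply map_injective E.subtype_injective
      rw [e, ← MonoidHom.range_eq_map, Subgroup.range_subtype]
    · rintro g hg _ ⟨x, hx, rfl⟩
      exact ⟨⟨g, hg⟩ * x * ⟨g, hg⟩⁻¹, hN.conj_mem x hx _, rfl⟩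

/-- The pair formed by `E₁` and a conjugate, when the commutator modules differ. -/
theorem conj_pair (h : Hyp p V E E₁ E₂) {g : G} (hg : g ∈ E)
    (hne : ⁅V, E₁⁆.map (MulAut.conj g).toMonoidHom ≠ ⁅V, E₁⁆) :
    Nat.card ↥(E₁ ⊔ E₁.map (MulAut.conj g).toMonoidHom) < Nat.card E ∧
      Hyp p V (E₁ ⊔ E₁.map (MulAut.conj g).toMonoidHom) E₁ (E₁.map (MulAut.conj g).toMonoidHom) := by
  set D := E₁.map (MulAut.conj g).toMonoidHom with hD
  have hgV := h.le_norm hg
  have hj : Function.Injective (MulAut.conj g).toMonoidHom := (MulAut.conj g).injective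
  have hDE : D ≤ E := by
    rintro _ ⟨x, hx, rfl⟩
    exact mul_mem (mul_mem hg (h.le1 hx)) (inv_mem hg)
  set F := E₁ ⊔ D with hF
  have hFE : F ≤ E := sup_le h.le1 hDE
  obtain ⟨N, hNlt, h1N, hNn⟩ := h.exists_lt_normal
  have hFN : F ≤ N := sup_le h1N (by rintro _ ⟨x, hx, rfl⟩; exact hNn g hg x (h1N hx))
  have hWD : ⁅V, D⁆ = ⁅V, E₁⁆.map (MulAut.conj g).toMonoidHom := commutator_map_conj hgV
  have hDs : (D.subgroupOf E).IsSubnormal := by
    have h1 := h.sub1.map (f := (MulAut.conj (⟨g, hg⟩ : ↥E)).toMonoidHom)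
      (MulAut.conj (⟨g, hg⟩ : ↥E)).surjective
    convert h1 using 1
    ext y
    constructor
    · rintro ⟨x, hx, hxy⟩
      exact ⟨⟨x, h.le1 hx⟩, hx, Subtype.ext hxy⟩
    · rintro ⟨x, hx, rfl⟩
      exact ⟨x, hx, rfl⟩
  have hFs : (F.subgroupOf E).IsSubnormal := by
    rw [hF, subgroupOf_sup h.le1 hDE]
    exact CfsgLib.Transfer.sup_isSubnormal h.sub1 hDs
  refine ⟨lt_of_le_of_lt (card_le_of_le hFN) ?_, h.elem, hFE.trans h.le_norm, ?_, rfl, ?_, ?_, ?_,
    h.irr1, ?_, ?_, ?_, h.two1, ?_⟩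
  · refine lt_of_le_of_ne (card_le_of_le hNlt.le) fun e => hNlt.ne ?_
    exact eq_of_le_of_card_ge hNlt.le e.ge
  · rw [eq_bot_iff, ← h.faith]
    exact inf_le_inf_right _ hFE
  · exact (h.sub1.comap (inclusion hFE))
  · exact (hDs.comap (inclusion hFE))
  · have h1 := Cores.map_subtype_pCore_le_of_isSubnormal p hFs
    rw [h.core, le_bot_iff, map_eq_bot_iff_of_injective _ (Subgroup.subtype_injective _)] at h1
    rw [← Cores.map_pCore_equiv (subgroupOfEquivOfLe hFE), h1, Subgroup.map_bot]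
  · intro U hU hn
    rw [hWD] at hU ⊢
    have hU' : U.map (MulAut.conj g).symm.toMonoidHom ≤ ⁅V, E₁⁆ := by
      rw [map_le_iff_le_comap]
      refine hU.trans ?_
      rintro _ ⟨w, hw, rfl⟩
      rw [Subgroup.mem_comap]
      show (MulAut.conj g).symm (MulAut.conj g w) ∈ ⁅V, E₁⁆
      rwa [MulEquiv.symm_apply_apply]
    have hn' : E₁ ≤ normalizer ((U.map (MulAut.conj g).symm.toMonoidHom : Subgroup G) : Set G) := by
      intro x hx
      rw [mem_normalizer_iff]
      intro y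
      have h1 := mem_normalizer_iff.1 (hn ⟨x, hx, rfl⟩) (g * y * g⁻¹)
      rw [mem_map_equiv, mem_map_equiv]
      simp only [MulEquiv.symm_symm, MulAut.conj_apply]
      rw [h1]
      show g * x * g⁻¹ * (g * y * g⁻¹) * (g * x * g⁻¹)⁻¹ ∈ U ↔ _
      rw [show g * x * g⁻¹ * (g * y * g⁻¹) * (g * x * g⁻¹)⁻¹ = g * (x * y * x⁻¹) * g⁻¹ by group]
    have hback : U = (U.map (MulAut.conj g).symm.toMonoidHom).map (MulAut.conj g).toMonoidHom := by
      rw [Subgroup.map_map]
      ext y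
      simp
    rcases h.irr1 _ hU' hn' with h2 | h2
    · left
      rw [hback, h2, Subgroup.map_bot]
    · right
      rw [hback, h2]
  · rw [hWD]
    exact fun hle => hne (eq_of_le_of_card_ge hle (card_map_of_injective hj).le).symm
  · rw [hWD]
    exact fun hle => hne (eq_of_le_of_card_ge hle (card_map_of_injective hj).ge)
  · rw [hD, card_map_of_injective hj]
    exact h.two1

end Hyp

variable [Finite G] [hp : Fact p.Prime] {V : Subgroup G}

theorem split : ∀ (n : ℕ) (E E₁ E₂ : Subgroup G), Nat.card E ≤ n → Hyp p V E E₁ E₂ → Split V E₁ E₂ := by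
  intro n
  induction n with
  | zero => intro E _ _ hn; exact absurd hn (not_le.2 Nat.card_pos)
  | succ n ih =>
  intro E E₁ E₂ hn h
  by_cases hn2 : E₂ ≤ normalizer ((⁅V, E₁⁆ : Subgroup G) : Set G)
  · exact h.split_of_invariant hn2
  by_cases hn1 : E₁ ≤ normalizer ((⁅V, E₂⁆ : Subgroup G) : Set G)
  · exact Hyp.split_comm (h.symm.split_of_invariant hn1)
  exfalso
  set W := ⁅V, E₁⁆ with hW
  set W2 := ⁅V, E₂⁆ with hW2
  have hcomm : ∀ a ∈ V, ∀ b ∈ V, a * b = b * a := fun a ha b hb =>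
    PGroup.elemAb_comm h.elem ha hb
  -- conjugates of the modules
  have gen : ∀ {E₁ E₂ : Subgroup G}, Hyp p V E E₁ E₂ → ∀ g ∈ E,
      ⁅V, E₁⁆.map (MulAut.conj g).toMonoidHom ≠ ⁅V, E₁⁆ →
      ⁅V, E₁⁆ ⊓ ⁅V, E₁⁆.map (MulAut.conj g).toMonoidHom = ⊥ ∧
        E₁ ≤ centralizer ((⁅V, E₁⁆.map (MulAut.conj g).toMonoidHom : Subgroup G) : Set G) := by
    intro E₁ E₂ h g hg hne
    obtain ⟨hlt, h'⟩ := h.conj_pair hg hne
    obtain ⟨hc, -, hi⟩ := ih _ _ _ (by omega) h'
    rw [commutator_map_conj (h.le_norm hg)] at hi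
    refine ⟨hi, fun e he => mem_centralizer_iff.2 fun w hw => ?_⟩
    have heN : e ∈ normalizer ((⁅V, E₁.map (MulAut.conj g).toMonoidHom⁆ : Subgroup G) : Set G) := by
      rw [mem_normalizer_iff_map_conj_eq, map_commutator]
      congr 1
      · exact mem_normalizer_iff_map_conj_eq.1 (h.le_norm (h.le1 he))
      · exact mem_normalizer_iff_map_conj_eq.1
          (centralizer_le_normalizer _ (commutator_eq_bot_iff_le_centralizer.1 hc he))
    rw [commutator_map_conj (h.le_norm hg)] at heN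
    have hwV : w ∈ V := by
      obtain ⟨u, hu, rfl⟩ := hw
      exact (mem_normalizer_iff.1 (h.le_norm hg) u).1 (h.W1_le hu)
    have h1 : e * w * e⁻¹ * w⁻¹ ∈ ⁅V, E₁⁆ ⊓ ⁅V, E₁⁆.map (MulAut.conj g).toMonoidHom :=
      Subgroup.mem_inf.2 ⟨(le_acts (h.le1.trans h.le_norm) h.W1_le le_rfl he).2.2 w hwV,
        mul_mem ((mem_normalizer_iff.1 heN w).1 hw) (inv_mem hw)⟩
    rw [hi, mem_bot, mul_inv_eq_one, mul_inv_eq_iff_eq_mul] at h1
    exact h1.symm
  -- commutation maps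
  have cmap : ∀ {E₁ E₂ : Subgroup G}, Hyp p V E E₁ E₂ → ∀ g ∈ E₂,
      g ∉ normalizer ((⁅V, E₁⁆ : Subgroup G) : Set G) →
      ∃ f : ↥⁅V, E₁⁆ → ↥⁅V, E₂⁆, Function.Injective f ∧
        ∀ w, ((f w : ↥⁅V, E₂⁆) : G) = g * w * g⁻¹ * (w : G)⁻¹ := by
    intro E₁ E₂ h g hg hgn
    refine ⟨fun w => ⟨g * w * g⁻¹ * (w : G)⁻¹,
      (le_acts (h.le2.trans h.le_norm) h.symm.W1_le le_rfl hg).2.2 _ (h.W1_le w.2)⟩, ?_, fun w => rfl⟩
    intro a b e
    have e' : g * a * g⁻¹ * (a : G)⁻¹ = g * b * g⁻¹ * (b : G)⁻¹ := congrArg Subtype.val e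
    have hdiff : g * ((a : G)⁻¹ * b) * g⁻¹ = (a : G)⁻¹ * b := by
      have haV := h.W1_le a.2
      have hbV := h.W1_le b.2
      have hgb : g * b * g⁻¹ ∈ V := (mem_normalizer_iff.1 (h.le_norm (h.le2 hg)) _).1 hbV
      calc g * ((a : G)⁻¹ * b) * g⁻¹
          = (g * a * g⁻¹ * (a : G)⁻¹ * a)⁻¹ * (g * b * g⁻¹) := by group
        _ = (g * b * g⁻¹ * (b : G)⁻¹ * a)⁻¹ * (g * b * g⁻¹) := by rw [e']
        _ = (a : G)⁻¹ * b := by group
    have hne : ⁅V, E₁⁆.map (MulAut.conj g).toMonoidHom ≠ ⁅V, E₁⁆ :=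
      fun e => hgn (mem_normalizer_iff_map_conj_eq.2 e)
    have h1 : (a : G)⁻¹ * b ∈ ⁅V, E₁⁆ ⊓ ⁅V, E₁⁆.map (MulAut.conj g).toMonoidHom :=
      Subgroup.mem_inf.2 ⟨mul_mem (inv_mem a.2) b.2, ⟨_, mul_mem (inv_mem a.2) b.2, hdiff⟩⟩
    rw [(gen h g (h.le2 hg) hne).1, mem_bot, inv_mul_eq_one] at h1
    exact Subtype.ext h1
  obtain ⟨g, hg, hgn⟩ := SetLike.not_le_iff_exists.1 hn2
  obtain ⟨k, hk, hkn⟩ := SetLike.not_le_iff_exists.1 hn1
  obtain ⟨f, hf, hfv⟩ := cmap h g hg hgn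
  obtain ⟨f', hf', -⟩ := cmap h.symm k hk hkn
  have hsurj : Function.Surjective f :=
    ((Nat.bijective_iff_injective_and_card f).2 ⟨hf, le_antisymm (Nat.card_le_card_of_injective f hf)
      (Nat.card_le_card_of_injective f' hf')⟩).2
  set Wg := W.map (MulAut.conj g).toMonoidHom with hWg
  have hne : Wg ≠ W := fun e => hgn (mem_normalizer_iff_map_conj_eq.2 e)
  obtain ⟨hdis, hfix⟩ := gen h g (h.le2 hg) hne
  have hW2U : W2 ≤ Wg ⊔ W := fun z hz => by
    obtain ⟨w, hw⟩ := hsurj ⟨z, hz⟩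
    have e := hfv w
    rw [hw] at e
    rw [show z = g * w * g⁻¹ * (w : G)⁻¹ from e]
    exact mul_mem (mem_sup_left ⟨w, w.2, rfl⟩) (inv_mem (mem_sup_right w.2))
  have hWW2 : W ⊓ W2 = ⊥ := by
    rw [eq_bot_iff]
    intro z hz
    obtain ⟨w, hw⟩ := hsurj ⟨z, hz.2⟩
    have e := hfv w
    rw [hw] at e
    have h1 : g * w * g⁻¹ ∈ W ⊓ Wg := by
      refine ⟨?_, w, w.2, rfl⟩
      show g * w * g⁻¹ ∈ W
      have h2 := mul_mem hz.1 w.2
      rwa [show z = g * w * g⁻¹ * (w : G)⁻¹ from e, inv_mul_cancel_right] at h2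
    rw [hdis, mem_bot] at h1
    rw [mem_bot, show z = g * w * g⁻¹ * (w : G)⁻¹ from e, h1, conj_eq_one_iff.1 h1, inv_one, mul_one]
  -- the orbit has two members
  have horbit : ∀ x ∈ E₂, W.map (MulAut.conj x).toMonoidHom = W ∨
      W.map (MulAut.conj x).toMonoidHom = Wg := by
    intro x hx
    by_contra hcon
    push Not at hcon
    set Wx := W.map (MulAut.conj x).toMonoidHom with hWx
    obtain ⟨-, hfixx⟩ := gen h x (h.le2 hx) hcon.1
    have hWxU : Wx ≤ Wg ⊔ W := by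
      rintro _ ⟨w, hw, rfl⟩
      have h1 := (le_acts (h.le2.trans h.le_norm) h.symm.W1_le le_rfl hx).2.2 w (h.W1_le hw)
      have h2 := mul_mem (hW2U h1) (mem_sup_right (S := Wg) hw)
      rwa [inv_mul_cancel_right] at h2
    have hdis2 : Wg ⊓ Wx = ⊥ := by
      have hmul : ∀ (a b : G), (W.map (MulAut.conj b).toMonoidHom).map (MulAut.conj a).toMonoidHom =
          W.map (MulAut.conj (a * b)).toMonoidHom := fun a b => by
        rw [Subgroup.map_map, map_mul]
        rfl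
      have hne' : W.map (MulAut.conj (g⁻¹ * x)).toMonoidHom ≠ W := fun e => hcon.2 (by
        rw [hWg, ← show (W.map (MulAut.conj (g⁻¹ * x)).toMonoidHom).map (MulAut.conj g).toMonoidHom =
          Wx by rw [hmul, mul_inv_cancel_left], e])
      have h1 := (gen h (g⁻¹ * x) (mul_mem (inv_mem (h.le2 hg)) (h.le2 hx)) hne').1
      have h2 := congrArg (Subgroup.map (MulAut.conj g).toMonoidHom) h1
      rwa [map_inf _ _ _ (MulAut.conj g).injective, hmul, mul_inv_cancel_left, Subgroup.map_bot] at h2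
    have hWgV : Wg ≤ V := by
      rintro _ ⟨u, hu, rfl⟩
      exact (mem_normalizer_iff.1 (h.le_norm (h.le2 hg)) u).1 (h.W1_le hu)
    have hWxV : Wx ≤ V := hWxU.trans (sup_le hWgV h.W1_le)
    have hc : ∀ {X : Subgroup G} (y : G), X = W.map (MulAut.conj y).toMonoidHom →
        Nat.card X = Nat.card W := fun y e => by
      rw [e]; exact card_map_of_injective (MulAut.conj y).injective
    have e1 := Transfer.card_mul_card_of_commute Wg Wx fun a ha b hb => hcomm a (hWgV ha) b (hWxV hb)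
    have e2 := Transfer.card_mul_card_of_commute Wg W fun a ha b hb => hcomm a (hWgV ha) b (h.W1_le hb)
    rw [hdis2, Subgroup.card_bot, mul_one, hc g hWg, hc x hWx] at e1
    rw [inf_comm, hdis, Subgroup.card_bot, mul_one, hc g hWg] at e2
    have heq : Wg ⊔ Wx = Wg ⊔ W :=
      eq_of_le_of_card_ge (sup_le le_sup_left hWxU) (by rw [← e1, ← e2])
    apply h.W1_not_fixed
    rw [le_centralizer_iff]
    exact le_sup_right.trans (heq.ge.trans
      (sup_le (le_centralizer_iff.1 hfix) (le_centralizer_iff.1 hfixx)))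
  -- the stabilizer in `E₂` is trivial
  have htriv : ∀ x ∈ E₂, x ∈ normalizer (W : Set G) → x = 1 := by
    intro x hx hxW
    have hfixW : ∀ y ∈ E₂, y ∈ normalizer (W : Set G) → ∀ w ∈ W, y * w * y⁻¹ = w := by
      intro y hy hyW w hw
      have h1 : y * w * y⁻¹ * w⁻¹ ∈ W ⊓ W2 :=
        Subgroup.mem_inf.2 ⟨mul_mem ((mem_normalizer_iff.1 hyW w).1 hw) (inv_mem hw),
          (le_acts (h.le2.trans h.le_norm) h.symm.W1_le le_rfl hy).2.2 w (h.W1_le hw)⟩
      rw [hWW2, mem_bot] at h1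
      exact mul_inv_eq_one.1 h1
    have hxg : g⁻¹ * x * g ∈ normalizer (W : Set G) := by
      rcases horbit (x * g) (mul_mem hx hg) with e | e
      · exfalso
        apply hgn
        have h1 : x * g ∈ normalizer (W : Set G) := mem_normalizer_iff_map_conj_eq.2 e
        simpa using mul_mem (inv_mem hxW) h1
      · rw [mem_normalizer_iff_map_conj_eq]
        have h1 := congrArg (Subgroup.map (MulAut.conj g⁻¹).toMonoidHom) e
        rw [hWg, Subgroup.map_map, Subgroup.map_map] at h1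
        convert h1 using 1
        · congr 1
          ext y
          simp [mul_assoc]
        · conv_lhs => rw [← Subgroup.map_id W]
          congr 1
          ext y
          simp [mul_assoc]
    have hU : Wg ⊔ W ≤ centralizer ({x} : Set G) := by
      refine sup_le ?_ fun w hw => ?_
      · rintro _ ⟨w, hw, rfl⟩
        rw [mem_centralizer_singleton_iff]
        have h1 := hfixW _ (mul_mem (mul_mem (inv_mem hg) hx) hg) hxg w hw
        show g * w * g⁻¹ * x = x * (g * w * g⁻¹)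
        conv_lhs => rw [← h1]
        group
      · rw [mem_centralizer_singleton_iff]
        exact (mul_inv_eq_iff_eq_mul.1 (hfixW x hx hxW w hw)).symm
    have h1 : x ∈ E₂ ⊓ centralizer (W2 : Set G) :=
      ⟨hx, mem_centralizer_iff.2 fun z hz => mem_centralizer_singleton_iff.1 (hU (hW2U hz))⟩
    rwa [h.symm.fix_eq_bot, mem_bot] at h1
  have hle : ∀ x : ↥E₂, x = 1 ∨ x = ⟨g, hg⟩ := by
    intro x
    by_cases hxW : (x : G) ∈ normalizer (W : Set G)
    · exact Or.inl (Subtype.ext (htriv x x.2 hxW))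
    right
    have e := (horbit x x.2).resolve_left fun e => hxW (mem_normalizer_iff_map_conj_eq.2 e)
    have h1 : g⁻¹ * (x : G) ∈ normalizer (W : Set G) := by
      rw [mem_normalizer_iff_map_conj_eq]
      have h2 := congrArg (Subgroup.map (MulAut.conj g⁻¹).toMonoidHom) e
      rw [hWg, Subgroup.map_map, Subgroup.map_map] at h2
      convert h2 using 1
      · congr 1
        ext y
        simp [mul_assoc]
      · conv_lhs => rw [← Subgroup.map_id W]
        congr 1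
        ext y
        simp [mul_assoc]
    exact Subtype.ext (inv_mul_eq_one.1 (htriv _ (mul_mem (inv_mem hg) x.2) h1)).symm
  have h2 := h.two2
  have h3 : Nat.card ↥E₂ ≤ 2 := by
    have hs : Function.Surjective (fun b : Bool => if b then (1 : ↥E₂) else ⟨g, hg⟩) := fun x => by
      rcases hle x with rfl | rfl
      · exact ⟨true, rfl⟩
      · exact ⟨false, rfl⟩
    calc Nat.card ↥E₂ ≤ Nat.card Bool := Nat.card_le_card_of_surjective _ hs
      _ = 2 := by simp
  omega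

end CfsgLib.PStab.SubnPair
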