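import Cfsg.Agent.Lib.PStab.Stable
import Cfsg.Agent.Lib.Transfer.Basic

/-!
Groups with a series `p`-group, abelian `p'`-group, `p`-group are tame in dimension two, for odd `p`.
-/

set_option autoImplicit false

namespace CfsgLib.PStab

open Matrix
open scoped commutatorElement

section
variable {K : Type*} [Field K]

/-- Coordinates in a basis of two independent vectors. -/
theorem exists_coords {v w : Fin 2 → K} (hd : v 0 * w 1 - v 1 * w 0 ≠ 0) (x : Fin 2 → K) :
    ∃ α β : K, x = α • v + β • w := by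
  refine ⟨(v 0 * w 1 - v 1 * w 0)⁻¹ * (x 0 * w 1 - x 1 * w 0),
    (v 0 * w 1 - v 1 * w 0)⁻¹ * (v 0 * x 1 - v 1 * x 0), ?_⟩
  ext j
  fin_cases j <;>
    · simp only [Fin.zero_eta, Fin.mk_one, Pi.add_apply, Pi.smul_apply, smul_eq_mul]
      rw [mul_assoc, mul_assoc, ← mul_add, eq_inv_mul_iff_mul_eq₀ hd]
      ring

theorem det_ne_zero_of_eigen_ne {A : Matrix (Fin 2) (Fin 2) K} {v w : Fin 2 → K} {a b : K}
    (hv0 : v ≠ 0) (hw0 : w ≠ 0) (hv : A *ᵥ v = a • v) (hw : A *ᵥ w = b • w) (hab : a ≠ b) :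
    v 0 * w 1 - v 1 * w 0 ≠ 0 := by
  intro hd
  obtain ⟨c, rfl⟩ := exists_eq_smul_of_det_eq_zero hv0 hd
  rw [Matrix.mulVec_smul, hv, smul_smul, smul_smul] at hw
  have hc : c ≠ 0 := fun h => hw0 (by rw [h, zero_smul])
  have := smul_left_injective K hv0 hw
  exact hab (mul_left_cancel₀ hc (by rw [this, mul_comm]))

/-- An eigenvector lies on one of the two eigenlines. -/
theorem eigen_line {A : Matrix (Fin 2) (Fin 2) K} {v w : Fin 2 → K} {a b : K}
    (hv0 : v ≠ 0) (hw0 : w ≠ 0) (hv : A *ᵥ v = a • v) (hw : A *ᵥ w = b • w) (hab : a ≠ b)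
    {x : Fin 2 → K} {l : K} (hx : A *ᵥ x = l • x) : (∃ c : K, x = c • v) ∨ ∃ c : K, x = c • w := by
  have hd := det_ne_zero_of_eigen_ne hv0 hw0 hv hw hab
  obtain ⟨α, β, rfl⟩ := exists_coords hd x
  rw [Matrix.mulVec_add, Matrix.mulVec_smul, Matrix.mulVec_smul, hv, hw] at hx
  have h0 := congrFun hx 0
  have h1 := congrFun hx 1
  simp only [Pi.add_apply, Pi.smul_apply, smul_eq_mul] at h0 h1
  by_cases hl : l = a
  · subst hl
    left
    have hβ : β = 0 := by
      have hb' : β * (b - l) * (v 0 * w 1 - v 1 * w 0) = 0 := by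
        linear_combination v 0 * h1 - v 1 * h0
      exact (mul_eq_zero.1 ((mul_eq_zero.1 hb').resolve_right hd)).resolve_right (sub_ne_zero.2 hab.symm)
    exact ⟨α, by rw [hβ, zero_smul, add_zero]⟩
  · right
    have hα : α = 0 := by
      have hb' : α * (a - l) * (v 0 * w 1 - v 1 * w 0) = 0 := by
        linear_combination w 1 * h0 - w 0 * h1
      exact (mul_eq_zero.1 ((mul_eq_zero.1 hb').resolve_right hd)).resolve_right
        (sub_ne_zero.2 (Ne.symm hl))
    exact ⟨β, by rw [hα, zero_smul, zero_add]⟩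

theorem eq_one_of_pow_prime_pow {p : ℕ} [Fact p.Prime] [CharP K p] {c : K} {n : ℕ}
    (h : c ^ p ^ n = 1) : c = 1 :=
  iterateFrobenius_inj K p n (by simp [iterateFrobenius_def, h])

theorem mulVec_pow_eigen {A : Matrix (Fin 2) (Fin 2) K} {v : Fin 2 → K} {a : K}
    (h : A *ᵥ v = a • v) (n : ℕ) : (A ^ n) *ᵥ v = a ^ n • v := by
  induction n with
  | zero => simp
  | succ n ih => rw [pow_succ, ← Matrix.mulVec_mulVec, h, Matrix.mulVec_smul, ih, smul_smul, pow_succ, mul_comm]

theorem exists_eigen [IsAlgClosed K] (A : Matrix (Fin 2) (Fin 2) K) :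
    ∃ a b : K, ∃ v w : Fin 2 → K, v ≠ 0 ∧ w ≠ 0 ∧ A *ᵥ v = a • v ∧ A *ᵥ w = b • w ∧
      (A - a • 1) * (A - b • 1) = 0 := by
  obtain ⟨a, ha⟩ := Module.End.exists_eigenvalue (Matrix.toLin' A)
  obtain ⟨v, hv⟩ := ha.exists_hasEigenvector
  have hv' : A *ᵥ v = a • v := by simpa using hv.apply_eq_smul
  have hev : ∀ c : K, (∃ x : Fin 2 → K, x ≠ 0 ∧ A *ᵥ x = c • x) ↔ (A - c • 1).det = 0 := by
    intro c
    rw [← Matrix.exists_mulVec_eq_zero_iff]
    simp only [Matrix.sub_mulVec, Matrix.smul_mulVec, Matrix.one_mulVec, sub_eq_zero]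
  have ha0 := (hev a).1 ⟨v, hv.2, hv'⟩
  have hb0 : (A - (A 0 0 + A 1 1 - a) • (1 : Matrix (Fin 2) (Fin 2) K)).det = 0 := by
    rw [Matrix.det_fin_two] at ha0 ⊢
    simp only [Matrix.sub_apply, Matrix.smul_apply, Matrix.one_apply, smul_eq_mul] at ha0 ⊢
    norm_num at ha0 ⊢
    linear_combination ha0
  obtain ⟨w, hw, hw'⟩ := (hev _).2 hb0
  refine ⟨a, A 0 0 + A 1 1 - a, v, w, hv.2, hw, hv', hw', ?_⟩
  rw [Matrix.det_fin_two] at ha0
  simp only [Matrix.sub_apply, Matrix.smul_apply, Matrix.one_apply, smul_eq_mul] at ha0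
  norm_num at ha0
  ext i j
  fin_cases i <;> fin_cases j <;>
    simp [Matrix.mul_apply, Fin.sum_univ_two] <;>
    first
      | linear_combination ha0
      | linear_combination -ha0
      | ring

end

variable {p : ℕ} [hp : Fact p.Prime]

local notation "KK" => AlgebraicClosure (ZMod p)

/-- The fixed line of a `p`-subgroup acting non-trivially. -/
theorem exists_fixed_line {H : Type*} [Group H] [Finite H]
    (ρ : H →* Matrix (Fin 2) (Fin 2) KK) {T : Subgroup H} (hT : IsPGroup p T)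
    (hne : ∃ t ∈ T, ρ t ≠ 1) :
    ∃ v : Fin 2 → KK, v ≠ 0 ∧ (∀ t ∈ T, ρ t *ᵥ v = v) ∧
      ∀ x : Fin 2 → KK, (∀ t ∈ T, ρ t *ᵥ x = x) → ∃ c : KK, x = c • v := by
  set φ := (ρ.comp T.subtype).toHomUnits
  have hR : IsPGroup p φ.range := hT.of_surjective φ.rangeRestrict φ.rangeRestrict_surjective
  have : Finite φ.range := Finite.of_surjective φ.rangeRestrict φ.rangeRestrict_surjective
  have : Nontrivial φ.range := by
    obtain ⟨t, ht, hne⟩ := hne
    refine ⟨⟨⟨φ ⟨t, ht⟩, ⟨t, ht⟩, rfl⟩, 1, fun e => hne ?_⟩⟩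
    exact congrArg (fun u : φ.range => ((u : (Matrix (Fin 2) (Fin 2) KK)ˣ) : Matrix (Fin 2) (Fin 2) KK)) e
  have := hR.center_nontrivial
  obtain ⟨z, hz⟩ := exists_prime_orderOf_dvd_card' (G := Subgroup.center φ.range) p (by
    obtain ⟨n, hn⟩ := IsPGroup.iff_card.1 (hR.to_subgroup (Subgroup.center φ.range))
    rw [hn]
    refine dvd_pow_self p fun h0 => ?_
    rw [h0, pow_zero] at hn
    exact absurd hn (Finite.one_lt_card (α := Subgroup.center φ.range)).ne')
  obtain ⟨u, hu⟩ := (z : φ.range).2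
  set A : Matrix (Fin 2) (Fin 2) KK := ρ (u : H) with hA
  have hAz : A = (((z : φ.range) : (Matrix (Fin 2) (Fin 2) KK)ˣ) : Matrix (Fin 2) (Fin 2) KK) :=
    congrArg Units.val hu
  have hAp : A ^ p = 1 := by
    rw [hAz, ← Units.val_pow_eq_pow_val, ← SubmonoidClass.coe_pow, ← SubmonoidClass.coe_pow,
      (orderOf_dvd_iff_pow_eq_one.1 (dvd_of_eq hz) : z ^ p = 1)]
    rfl
  have hA1 : A ≠ 1 := fun e => by
    have : z = 1 := Subtype.ext (Subtype.ext (Units.ext (hAz.symm.trans e)))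
    rw [this, orderOf_one] at hz
    exact hp.out.one_lt.ne hz
  have hcomm : ∀ t ∈ T, A * ρ t = ρ t * A := fun t ht => by
    have := congrArg (fun u : φ.range => ((u : (Matrix (Fin 2) (Fin 2) KK)ˣ) : Matrix (Fin 2) (Fin 2) KK))
      (Subgroup.mem_center_iff.1 z.2 ⟨φ ⟨t, ht⟩, ⟨t, ht⟩, rfl⟩)
    simp only [Subgroup.coe_mul, Units.val_mul, ← hAz] at this
    exact this.symm
  have hnil : (A - 1) ^ p = 0 := by
    rw [sub_pow_char_of_commute _ (Commute.one_right A), hAp, one_pow, sub_self]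
  obtain ⟨v, hv0, hv⟩ := Matrix.exists_mulVec_eq_zero_iff.2
    (show (A - 1).det = 0 from pow_eq_zero_iff hp.out.ne_zero |>.1
      (by rw [← Matrix.det_pow, hnil, Matrix.det_zero]))
  have hAv : A *ᵥ v = v := by rwa [Matrix.sub_mulVec, Matrix.one_mulVec, sub_eq_zero] at hv
  have huniq : ∀ x : Fin 2 → KK, A *ᵥ x = x → ∃ c : KK, x = c • v := by
    intro x hx
    refine exists_eq_smul_of_det_eq_zero hv0 (by_contra fun hd => hA1 ?_)
    have h1 : A = (1 : KK) • (1 : Matrix (Fin 2) (Fin 2) KK) :=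
      eq_smul_one_of_two_eigen (by rw [one_smul]; exact hAv) (by rw [one_smul]; exact hx) hd
    rw [h1, one_smul]
  refine ⟨v, hv0, fun t ht => ?_, fun x hx => huniq x (hx u u.2)⟩
  obtain ⟨c, hc⟩ := huniq (ρ t *ᵥ v) (by rw [Matrix.mulVec_mulVec, hcomm t ht, ← Matrix.mulVec_mulVec, hAv])
  obtain ⟨n, hn⟩ := hT ⟨t, ht⟩
  have h1 := mulVec_pow_eigen hc (p ^ n)
  rw [← map_pow, show t ^ p ^ n = 1 from congrArg Subtype.val hn, map_one, Matrix.one_mulVec] at h1
  have : c = 1 := eq_one_of_pow_prime_pow (p := p) (n := n)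
    (smul_left_injective KK hv0 (by simp only [one_smul]; exact h1.symm))
  rw [hc, this, one_smul]

/-- The criterion. -/
theorem planeTame_of_series (hp2 : p ≠ 2) {H : Type*} [Group H] [Finite H] (N K : Subgroup H)
    [N.Normal] [K.Normal] (hN : IsPGroup p N) (hcop : (N.relIndex K).Coprime p)
    (hab : ⁅K, K⁆ ≤ N) (hidx : ∃ k, K.index = p ^ k) : PlaneTame p H := by
  rintro ρ ⟨h, hne, hhp⟩
  have hinv : ∀ g : H, ρ g * ρ g⁻¹ = 1 := fun g => by rw [← map_mul, mul_inv_cancel, map_one]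
  by_cases hN1 : ∃ t ∈ N, ρ t ≠ 1
  · obtain ⟨v, hv, hfix, huniq⟩ := exists_fixed_line ρ hN hN1
    refine ⟨v, hv, fun g => huniq _ fun t ht => ?_⟩
    have ht' : g⁻¹ * t * g ∈ N := (inferInstance : N.Normal).conj_mem' t ht g
    rw [Matrix.mulVec_mulVec, ← map_mul, show t * g = g * (g⁻¹ * t * g) by group, map_mul,
      ← Matrix.mulVec_mulVec, hfix _ ht']
  push Not at hN1
  have hcm : ∀ a ∈ K, ∀ b ∈ K, ρ a * ρ b = ρ b * ρ a := fun a ha b hb => by
    have h1 := hN1 _ (hab (Subgroup.commutator_mem_commutator ha hb))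
    rw [← map_mul, ← map_mul, show a * b = ⁅a, b⁆ * (b * a) by rw [commutatorElement_def]; group,
      map_mul, h1, one_mul]
  have hord : ∀ k ∈ K, ρ k ^ N.relIndex K = 1 := fun k hk => by
    have := (N.subgroupOf K).pow_index_mem ⟨k, hk⟩
    rw [← map_pow]
    exact hN1 _ (Subgroup.mem_subgroupOf.1 this)
  by_cases hsc : ∀ k ∈ K, ∃ c : KK, ρ k = c • 1
  · -- all of `K` acts by scalars
    obtain ⟨j, hj⟩ := hidx
    let T : Sylow p H := default
    have hsup := CfsgLib.Transfer.sup_sylow_eq_top T hj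
    have hdec : ∀ g : H, ∃ k ∈ K, ∃ t ∈ (T : Subgroup H), g = k * t := fun g =>
      CfsgLib.Solvable.exists_mul_of_mem_sup (by rw [Subgroup.normalizer_eq_top K]; exact le_top)
        (hsup.ge (Subgroup.mem_top g))
    by_cases hT : ∃ t ∈ (T : Subgroup H), ρ t ≠ 1
    · obtain ⟨v, hv, hfix, -⟩ := exists_fixed_line ρ T.2 hT
      refine ⟨v, hv, fun g => ?_⟩
      obtain ⟨k, hk, t, ht, rfl⟩ := hdec g
      obtain ⟨c, hc⟩ := hsc k hk
      exact ⟨c, by rw [map_mul, ← Matrix.mulVec_mulVec, hfix t ht, hc, Matrix.smul_mulVec, Matrix.one_mulVec]⟩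
    · push Not at hT
      exfalso
      obtain ⟨k, hk, t, ht, rfl⟩ := hdec h
      obtain ⟨c, hc⟩ := hsc k hk
      rw [map_mul, hT t ht, mul_one] at hne
      rw [map_pow, map_mul, hT t ht, mul_one, hc, smul_pow, one_pow] at hhp
      have := hp.out
      have : c ^ p = 1 := by
        have := congrFun (congrFun hhp 0) 0
        simpa using this
      exact hne (by rw [hc, (eq_one_of_pow_prime_pow (p := p) (c := c) (n := 1) (by rwa [pow_one])), one_smul])
  -- some element of `K` has two eigenlines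
  push Not at hsc
  obtain ⟨k, hk, hns⟩ := hsc
  exfalso
  obtain ⟨a, b, v, w, hv, hw, hav, hbw, hpoly⟩ := exists_eigen (ρ k)
  have har : a ^ N.relIndex K = 1 := by
    have h1 := mulVec_pow_eigen hav (N.relIndex K)
    rw [hord k hk, Matrix.one_mulVec] at h1
    exact smul_left_injective KK hv (by simp only [one_smul]; exact h1.symm)
  have hr : N.relIndex K ≠ 0 := Subgroup.index_ne_zero_of_finite
  have ha0 : a ≠ 0 := fun e => by rw [e, zero_pow hr] at har; exact zero_ne_one har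
  have hab' : a ≠ b := by
    intro e
    subst e
    set B := a⁻¹ • ρ k with hB
    have hBp : B ^ p = 1 := by
      have h2 : (B - 1) ^ 2 = 0 := by
        rw [show B - 1 = a⁻¹ • (ρ k - a • 1) by rw [smul_sub, smul_smul, inv_mul_cancel₀ ha0, one_smul],
          smul_pow, pow_two (ρ k - a • 1), hpoly, smul_zero]
      have h3 : (B - 1) ^ p = 0 := pow_eq_zero_of_le hp.out.two_le h2
      rw [sub_pow_char_of_commute _ (Commute.one_right B), one_pow, sub_eq_zero] at h3
      exact h3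
    have hBr : B ^ N.relIndex K = 1 := by
      rw [hB, smul_pow, hord k hk, inv_pow, har, inv_one, one_smul]
    have hB1 := (pow_gcd_eq_one (a := B)).2 ⟨hBr, hBp⟩
    rw [hcop, pow_one] at hB1
    exact hns a (by rw [← hB1, hB, smul_smul, mul_inv_cancel₀ ha0, one_smul])
  -- every element maps eigenlines to eigenlines
  have hmap : ∀ g : H, ∀ x : Fin 2 → KK, ∀ l : KK, ρ k *ᵥ x = l • x →
      ((∃ c : KK, ρ g *ᵥ x = c • v) ∨ ∃ c : KK, ρ g *ᵥ x = c • w) := by
    intro g x l hl
    by_cases hx0 : x = 0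
    · exact Or.inl ⟨0, by rw [hx0, Matrix.mulVec_zero, zero_smul]⟩
    have hk' : g⁻¹ * k * g ∈ K := (inferInstance : K.Normal).conj_mem' k hk g
    obtain ⟨m, hm⟩ : ∃ m : KK, ρ (g⁻¹ * k * g) *ᵥ x = m • x := by
      have h1 : ρ k *ᵥ (ρ (g⁻¹ * k * g) *ᵥ x) = l • (ρ (g⁻¹ * k * g) *ᵥ x) := by
        rw [Matrix.mulVec_mulVec, hcm k hk _ hk', ← Matrix.mulVec_mulVec, hl, Matrix.mulVec_smul]
      rcases eigen_line hv hw hav hbw hab' hl with ⟨c, hc⟩ | ⟨c, hc⟩ <;>
        rcases eigen_line hv hw hav hbw hab' h1 with ⟨d, hd⟩ | ⟨d, hd⟩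
      · have hc0 : c ≠ 0 := fun e => hx0 (by rw [hc, e, zero_smul])
        exact ⟨d * c⁻¹, by rw [hd, hc, smul_smul, mul_assoc, inv_mul_cancel₀ hc0, mul_one]⟩
      · exfalso
        have hc0 : c ≠ 0 := fun e => hx0 (by rw [hc, e, zero_smul])
        have la : l = a := by
          rw [hc, Matrix.mulVec_smul, hav, smul_smul, smul_smul] at hl
          exact mul_right_cancel₀ hc0 ((smul_left_injective KK hv hl).symm.trans (mul_comm c a))
        have hd0 : d ≠ 0 := by
          intro e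
          rw [e, zero_smul] at hd
          apply hx0
          have := congrArg (ρ (g⁻¹ * k * g)⁻¹ *ᵥ ·) hd
          simp only [Matrix.mulVec_mulVec, ← map_mul, inv_mul_cancel, map_one, Matrix.one_mulVec,
            Matrix.mulVec_zero] at this
          exact this
        rw [hd, Matrix.mulVec_smul, hbw, smul_smul, smul_smul] at h1
        exact hab' (la.symm.trans (mul_right_cancel₀ hd0
          ((smul_left_injective KK hw h1).symm.trans (mul_comm d b))))
      · exfalso
        have hc0 : c ≠ 0 := fun e => hx0 (by rw [hc, e, zero_smul])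
        have lb : l = b := by
          rw [hc, Matrix.mulVec_smul, hbw, smul_smul, smul_smul] at hl
          exact mul_right_cancel₀ hc0 ((smul_left_injective KK hw hl).symm.trans (mul_comm c b))
        have hd0 : d ≠ 0 := by
          intro e
          rw [e, zero_smul] at hd
          apply hx0
          have := congrArg (ρ (g⁻¹ * k * g)⁻¹ *ᵥ ·) hd
          simp only [Matrix.mulVec_mulVec, ← map_mul, inv_mul_cancel, map_one, Matrix.one_mulVec,
            Matrix.mulVec_zero] at this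
          exact this
        rw [hd, Matrix.mulVec_smul, hav, smul_smul, smul_smul] at h1
        exact hab' ((mul_right_cancel₀ hd0
          ((smul_left_injective KK hv h1).symm.trans (mul_comm d a))).symm.trans lb)
      · have hc0 : c ≠ 0 := fun e => hx0 (by rw [hc, e, zero_smul])
        exact ⟨d * c⁻¹, by rw [hd, hc, smul_smul, mul_assoc, inv_mul_cancel₀ hc0, mul_one]⟩
    refine eigen_line hv hw hav hbw hab' (l := m) ?_
    rw [Matrix.mulVec_mulVec, ← map_mul, show k * g = g * (g⁻¹ * k * g) by group, map_mul,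
      ← Matrix.mulVec_mulVec, hm, Matrix.mulVec_smul]
  have hcancel : ∀ {x y : Fin 2 → KK}, ρ h *ᵥ x = ρ h *ᵥ y → x = y := fun {x y} e => by
    have := congrArg (ρ h⁻¹ *ᵥ ·) e
    simp only [Matrix.mulVec_mulVec, ← map_mul, inv_mul_cancel, map_one, Matrix.one_mulVec] at this
    exact this
  have hd := det_ne_zero_of_eigen_ne hv hw hav hbw hab'
  have hind : ∀ c d : KK, c • v = d • w → c = 0 := by
    intro c d e
    have h0 := congrFun e 0
    have h1 := congrFun e 1
    simp only [Pi.smul_apply, smul_eq_mul] at h0 h1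
    exact (mul_eq_zero.1 (by linear_combination w 1 * h0 - w 0 * h1 :
      c * (v 0 * w 1 - v 1 * w 0) = 0)).resolve_right hd
  have hpp : ∀ x : Fin 2 → KK, (ρ h ^ p) *ᵥ x = x := fun x => by
    rw [← map_pow, hhp, Matrix.one_mulVec]
  rcases hmap h v a hav with ⟨c, hc⟩ | ⟨c, hc⟩
  · rcases hmap h w b hbw with ⟨d, hd'⟩ | ⟨d, hd'⟩
    · have : ρ h *ᵥ (d • v) = ρ h *ᵥ (c • w) := by
        rw [Matrix.mulVec_smul, Matrix.mulVec_smul, hc, hd', smul_smul, smul_smul, mul_comm]
      have hd0 := hind d c (hcancel this)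
      rw [hd0, zero_smul] at hd'
      exact hw (hcancel (hd'.trans (Matrix.mulVec_zero (ρ h)).symm))
    · have h1 := mulVec_pow_eigen hc p
      have h2 := mulVec_pow_eigen hd' p
      rw [hpp] at h1 h2
      have hc1 : c = 1 := eq_one_of_pow_prime_pow (p := p) (n := 1) (by
        rw [pow_one]; exact smul_left_injective KK hv (by simp only [one_smul]; exact h1.symm))
      have hd1 : d = 1 := eq_one_of_pow_prime_pow (p := p) (n := 1) (by
        rw [pow_one]; exact smul_left_injective KK hw (by simp only [one_smul]; exact h2.symm))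
      rw [hc1] at hc; rw [hd1] at hd'
      exact hne (by rw [eq_smul_one_of_two_eigen hc hd' hd, one_smul])
  · rcases hmap h w b hbw with ⟨d, hd'⟩ | ⟨d, hd'⟩
    · -- a swap has even order
      have h2 : (ρ h ^ 2) *ᵥ v = (c * d) • v := by
        rw [pow_two, ← Matrix.mulVec_mulVec, hc, Matrix.mulVec_smul, hd', smul_smul]
      obtain ⟨m, hm⟩ := hp.out.odd_of_ne_two hp2
      have h3 : (ρ h ^ (2 * m + 1)) *ᵥ v = v := (congrArg (fun j => (ρ h ^ j) *ᵥ v) hm).symm.trans (hpp v)
      rw [pow_succ', pow_mul, ← Matrix.mulVec_mulVec, mulVec_pow_eigen h2 m, Matrix.mulVec_smul, hc,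
        smul_smul] at h3
      exact one_ne_zero (hind 1 _ (by rw [one_smul]; exact h3.symm))
    · have : ρ h *ᵥ (d • v) = ρ h *ᵥ (c • w) := by
        rw [Matrix.mulVec_smul, Matrix.mulVec_smul, hc, hd', smul_smul, smul_smul, mul_comm]
      have hd0 := hind d c (hcancel this)
      rw [hd0, zero_smul] at hd'
      exact hw (hcancel (hd'.trans (Matrix.mulVec_zero (ρ h)).symm))

theorem relIndex_subgroupOf_dvd {G : Type*} [Group G] (N K S : Subgroup G) [N.Normal] :
    (N.subgroupOf S).relIndex (K.subgroupOf S) ∣ N.relIndex K := by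
  have h1 : (N.subgroupOf S).relIndex (K.subgroupOf S) = N.relIndex (K ⊓ S) := by
    rw [← Subgroup.relIndex_map_map_of_injective _ _ S.subtype_injective, Subgroup.subgroupOf_map_subtype,
      Subgroup.subgroupOf_map_subtype, ← Subgroup.inf_relIndex_right,
      ← Subgroup.inf_relIndex_right N (K ⊓ S)]
    congr 1
    rw [inf_inf_inf_comm, inf_idem, inf_assoc]
  rw [h1, ← Subgroup.relIndex_subgroupOf (H := N) (inf_le_left : K ⊓ S ≤ K)]
  exact Subgroup.relIndex_dvd_index_of_normal (N.subgroupOf K) _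

/-- The form for all pairs inside a group with such a series. -/
theorem stableAll_of_series (hp2 : p ≠ 2) {G : Type*} [Group G] [Finite G] (N K : Subgroup G)
    [N.Normal] [K.Normal] (hN : IsPGroup p N) (hcop : (N.relIndex K).Coprime p)
    (hab : ⁅K, K⁆ ≤ N) (hidx : ∃ k, K.index = p ^ k) : StableAll p G := fun P hP a ha hq =>
  inCoreAct_of_tame hP le_rfl ha hq fun g _ => by
    set S := Subgroup.closure ({a, g * a * g⁻¹} : Set G)
    refine planeTame_of_series hp2 (N.subgroupOf S) (K.subgroupOf S) ?_ ?_ ?_ ?_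
    · exact hN.comap_of_injective S.subtype S.subtype_injective
    · exact Nat.Coprime.coprime_dvd_left (relIndex_subgroupOf_dvd N K S) hcop
    · rw [Subgroup.commutator_le]
      intro x hx y hy
      exact hab (Subgroup.commutator_mem_commutator hx hy)
    · obtain ⟨j, hj⟩ := hidx
      obtain ⟨i, -, hi⟩ := (Nat.dvd_prime_pow hp.out).1
        (hj ▸ Subgroup.relIndex_dvd_index_of_normal K S)
      exact ⟨i, hi⟩

end CfsgLib.PStab
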